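import Cfsg.Agent.Lib.Chars.Basic

/-!
# Orthogonality, completeness and decomposition for irreducible characters
-/

set_option autoImplicit false
set_option linter.style.haveILetI false

namespace CfsgLib.Chars

open Module Cfsg
open scoped ComplexConjugate

universe u v w

variable {G : Type u} [Group G]

section Constructions

variable {X : Type v} [MulAction G X]

/-- The permutation representation on functions. -/
noncomputable def permRep (G : Type u) [Group G] (X : Type v) [MulAction G X] :
    Representation ℂ G (X → ℂ) where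
  toFun g := LinearMap.funLeft ℂ ℂ (fun x : X => g⁻¹ • x)
  map_one' := by ext φ x; simp [LinearMap.funLeft_apply]
  map_mul' a b := by ext φ x; simp [LinearMap.funLeft_apply, mul_smul]

theorem permRep_apply (g : G) (φ : X → ℂ) (x : X) : permRep G X g φ x = φ (g⁻¹ • x) := rfl

theorem character_permRep [Finite X] (g : G) :
    (permRep G X).character g = (Nat.card (MulAction.fixedBy X g) : ℂ) := by
  classical
  haveI := Fintype.ofFinite X
  rw [Representation.character, LinearMap.trace_eq_matrix_trace ℂ (Pi.basisFun ℂ X), Matrix.trace]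
  have h : ∀ x : X, Matrix.diag (LinearMap.toMatrix (Pi.basisFun ℂ X) (Pi.basisFun ℂ X)
      (permRep G X g)) x = if g • x = x then 1 else 0 := by
    intro x
    rw [Matrix.diag_apply, LinearMap.toMatrix_apply, Pi.basisFun_repr, Pi.basisFun_apply,
      permRep_apply]
    by_cases hx : g • x = x
    · rw [if_pos hx]
      have : g⁻¹ • x = x := inv_smul_eq_iff.mpr hx.symm
      simp [this]
    · rw [if_neg hx]
      have : g⁻¹ • x ≠ x := fun h => hx ((inv_smul_eq_iff.mp h).symm)
      simp [this]
  rw [Finset.sum_congr rfl (fun x _ => h x), Finset.sum_boole, Nat.card_eq_fintype_card]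
  congr 1
  rw [Fintype.card_subtype]
  congr 1

end Constructions

section Decompose

variable {V : Type v} [AddCommGroup V] [Module ℂ V]

theorem toRepresentation_apply (ρ : Representation ℂ G V) (U : Subrepresentation ρ) (g : G)
    (x : U.toSubmodule) : (U.toRepresentation g x : V) = ρ g x := rfl

/-- The splitting along complementary subrepresentations. -/
noncomputable def prodEquivOfCompl (ρ : Representation ℂ G V) (U U' : Subrepresentation ρ)
    (h : IsCompl U.toSubmodule U'.toSubmodule) :
    (U.toRepresentation.prod U'.toRepresentation).Equiv ρ :=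
  Representation.Equiv.mk (Submodule.prodEquivOfIsCompl _ _ h) fun g => by
    refine LinearMap.ext fun x => ?_
    simp only [LinearMap.comp_apply, LinearEquiv.coe_coe, Submodule.coe_prodEquivOfIsCompl',
      map_add]
    rfl

variable [FiniteDimensional ℂ V]

theorem character_prod {W : Type w} [AddCommGroup W] [Module ℂ W] [FiniteDimensional ℂ W]
    (ρ : Representation ℂ G V) (σ : Representation ℂ G W) :
    (ρ.prod σ).character = ρ.character + σ.character := by
  funext g
  exact LinearMap.trace_prodMap' (ρ g) (σ g)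

theorem char_add_of_isCompl (ρ : Representation ℂ G V) (U U' : Subrepresentation ρ)
    (h : IsCompl U.toSubmodule U'.toSubmodule) :
    ρ.character = U.toRepresentation.character + U'.toRepresentation.character := by
  rw [← Representation.char_iso (prodEquivOfCompl ρ U U' h), character_prod]

omit [FiniteDimensional ℂ V] in
theorem exists_isCompl_sub [Finite G] (ρ : Representation ℂ G V) (U : Subrepresentation ρ) :
    ∃ U' : Subrepresentation ρ, IsCompl U.toSubmodule U'.toSubmodule := by
  haveI : NeZero (Nat.card G : ℂ) := ⟨card_ne_zero G⟩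
  obtain ⟨U', hU'⟩ := exists_isCompl U
  refine ⟨U', ?_, ?_⟩
  · rw [disjoint_iff]
    exact congrArg Subrepresentation.toSubmodule hU'.inf_eq_bot
  · rw [codisjoint_iff]
    exact congrArg Subrepresentation.toSubmodule hU'.sup_eq_top

theorem exists_split_of_not_irreducible [Finite G] (ρ : Representation ℂ G V) [Nontrivial V]
    (h : ¬ ρ.IsIrreducible) :
    ∃ U U' : Subrepresentation ρ, IsCompl U.toSubmodule U'.toSubmodule ∧
      U.toSubmodule ≠ ⊥ ∧ U'.toSubmodule ≠ ⊥ := by
  rw [isIrreducible_iff] at h
  push Not at h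
  obtain ⟨W, hW, hb, ht⟩ := h inferInstance
  obtain ⟨U', hU'⟩ := exists_isCompl_sub ρ ⟨W, fun g v hv => hW g v hv⟩
  refine ⟨⟨W, fun g v hv => hW g v hv⟩, U', hU', hb, fun h0 => ?_⟩
  rw [h0] at hU'
  exact ht (eq_top_of_isCompl_bot hU')

/-- Induction along decompositions into irreducible representations. -/
theorem rep_induction [Finite G]
    (P : ∀ (V : Type v) [AddCommGroup V] [Module ℂ V] [FiniteDimensional ℂ V],
      Representation ℂ G V → Prop)
    (h0 : ∀ (V : Type v) [AddCommGroup V] [Module ℂ V] [FiniteDimensional ℂ V]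
      (ρ : Representation ℂ G V), Subsingleton V → P V ρ)
    (hirr : ∀ (V : Type v) [AddCommGroup V] [Module ℂ V] [FiniteDimensional ℂ V]
      (ρ : Representation ℂ G V), ρ.IsIrreducible → P V ρ)
    (hadd : ∀ (V : Type v) [AddCommGroup V] [Module ℂ V] [FiniteDimensional ℂ V]
      (ρ : Representation ℂ G V) (U U' : Subrepresentation ρ),
      IsCompl U.toSubmodule U'.toSubmodule →
      P U.toSubmodule U.toRepresentation → P U'.toSubmodule U'.toRepresentation → P V ρ)
    (V : Type v) [AddCommGroup V] [Module ℂ V] [FiniteDimensional ℂ V]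
    (ρ : Representation ℂ G V) : P V ρ := by
  suffices H : ∀ (n : ℕ) (V : Type v) [AddCommGroup V] [Module ℂ V] [FiniteDimensional ℂ V]
      (ρ : Representation ℂ G V), finrank ℂ V = n → P V ρ from H _ V ρ rfl
  intro n
  induction n using Nat.strong_induction_on with
  | h n ih =>
    intro V _ _ _ ρ hn
    rcases subsingleton_or_nontrivial V with hV | hV
    · exact h0 V ρ hV
    by_cases hi : ρ.IsIrreducible
    · exact hirr V ρ hi
    obtain ⟨U, U', hc, hb, hb'⟩ := exists_split_of_not_irreducible ρ hi
    have hsum := Submodule.finrank_add_eq_of_isCompl hc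
    have h1 : finrank ℂ U.toSubmodule ≠ 0 := fun h => hb (Submodule.finrank_eq_zero.mp h)
    have h2 : finrank ℂ U'.toSubmodule ≠ 0 := fun h => hb' (Submodule.finrank_eq_zero.mp h)
    exact hadd V ρ U U' hc (ih _ (by omega) _ U.toRepresentation rfl)
      (ih _ (by omega) _ U'.toRepresentation rfl)

omit [FiniteDimensional ℂ V] in
theorem character_zero_of_subsingleton [Subsingleton V] (ρ : Representation ℂ G V) :
    ρ.character = 0 := by
  funext g
  have : ρ g = 0 := Subsingleton.elim _ _
  simp [Representation.character, this]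

/-- Every character is a sum of irreducible characters. -/
theorem exists_sum_irr [Finite G] (ρ : Representation ℂ G V) :
    ∃ (m : ℕ) (χ : Fin m → IrrCharacter G), ρ.character = ∑ i, ((χ i : G → ℂ)) := by
  refine rep_induction (P := fun V _ _ _ ρ =>
    ∃ (m : ℕ) (χ : Fin m → IrrCharacter G), ρ.character = ∑ i, ((χ i : G → ℂ))) ?_ ?_ ?_ V ρ
  · intro V _ _ _ ρ _
    exact ⟨0, Fin.elim0, by simp [character_zero_of_subsingleton]⟩
  · intro V _ _ _ ρ hρ
    exact ⟨1, fun _ => ⟨ρ.character, isIrrCharacter_character ρ⟩, by simp⟩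
  · rintro V _ _ _ ρ U U' hc ⟨m, χ, hm⟩ ⟨m', χ', hm'⟩
    exact ⟨m + m', Fin.append χ χ', by
      rw [char_add_of_isCompl ρ U U' hc, hm, hm', Fin.sum_univ_add]; simp⟩

end Decompose

section Orthogonality

variable [Fintype G]
variable {V : Type v} [AddCommGroup V] [Module ℂ V] [FiniteDimensional ℂ V]
variable {W : Type w} [AddCommGroup W] [Module ℂ W] [FiniteDimensional ℂ W]

theorem inner_character (ρ : Representation ℂ G V) (σ : Representation ℂ G W) :
    classInner ρ.character σ.character = (finrank ℂ (σ.IntertwiningMap ρ) : ℂ) := by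
  haveI := invertibleCard G
  rw [← Representation.card_inv_mul_sum_char_mul_char_eq_finrank σ ρ, inner_def]
  simp [character_inv]

theorem inner_self_irr (ρ : Representation ℂ G V) [ρ.IsIrreducible] :
    classInner ρ.character ρ.character = 1 := by
  rw [inner_character, Representation.IsIrreducible.finrank_intertwiningMap_self ρ, Nat.cast_one]

theorem inner_irr_self (χ : IrrCharacter G) : classInner (χ : G → ℂ) χ = 1 := by
  obtain ⟨χ, n, ρ, hρ, rfl⟩ := χ
  exact inner_self_irr ρ

theorem inner_irr_ne {χ ψ : IrrCharacter G} (h : χ ≠ ψ) :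
    classInner (χ : G → ℂ) ψ = 0 := by
  obtain ⟨χ, n, ρ, hρ, rfl⟩ := χ
  obtain ⟨ψ, m, σ, hσ, rfl⟩ := ψ
  haveI := invertibleCard G
  have := Representation.char_orthonormal ρ σ
  rw [if_neg (fun ⟨e⟩ => h (Subtype.ext (Representation.char_iso e).symm))] at this
  rw [inner_def, ← this]
  simp [character_inv]

theorem inner_irr [DecidableEq (IrrCharacter G)] (χ ψ : IrrCharacter G) :
    classInner (χ : G → ℂ) ψ = if χ = ψ then 1 else 0 := by
  split
  · subst_vars; exact inner_irr_self _
  · exact inner_irr_ne ‹_›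

theorem inner_irr_of_isIrr {χ ψ : G → ℂ} (hχ : IsIrrCharacter G χ) (hψ : IsIrrCharacter G ψ)
    [Decidable (χ = ψ)] : classInner χ ψ = if χ = ψ then 1 else 0 := by
  split
  · subst_vars; exact inner_irr_self ⟨_, hψ⟩
  · exact inner_irr_ne (χ := ⟨χ, hχ⟩) (ψ := ⟨ψ, hψ⟩) (fun h => ‹¬ χ = ψ› (congrArg Subtype.val h))

/-- The inner product of two characters is a natural number. -/
theorem inner_char_nat {φ ψ : G → ℂ} (hφ : IsCharacter G φ) (hψ : IsCharacter G ψ) :
    ∃ m : ℕ, classInner φ ψ = m := by
  obtain ⟨n, ρ, rfl⟩ := hφ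
  obtain ⟨m, σ, rfl⟩ := hψ
  exact ⟨_, inner_character ρ σ⟩

end Orthogonality

theorem linearIndependent_irr [Finite G] :
    LinearIndependent ℂ (fun χ : IrrCharacter G => (χ : G → ℂ)) := by
  classical
  haveI := Fintype.ofFinite G
  rw [linearIndependent_iff']
  intro s c hc i hi
  have h1 : classInner (∑ χ ∈ s, c χ • (χ : G → ℂ)) i = 0 := by
    rw [hc]; exact inner_zero_left _
  rw [inner_sum_left] at h1
  simpa [inner_smul_left, inner_irr, hi] using h1

instance finite_irrCharacter [Finite G] : Finite (IrrCharacter G) := by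
  haveI := Fintype.ofFinite G
  exact (linearIndependent_irr (G := G)).finite

/-- A fixed `Fintype` structure on the irreducible characters. -/
@[reducible] noncomputable def irrFintype (G : Type u) [Group G] [Finite G] :
    Fintype (IrrCharacter G) :=
  Fintype.ofFinite _

section Completeness

variable [Fintype G]

/-- The operator `∑ f(g) ρ(g⁻¹)`. -/
noncomputable def avgOp {V : Type v} [AddCommGroup V] [Module ℂ V]
    (ρ : Representation ℂ G V) (f : G → ℂ) : V →ₗ[ℂ] V :=
  ∑ g : G, f g • ρ g⁻¹

theorem avgOp_apply {V : Type v} [AddCommGroup V] [Module ℂ V]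
    (ρ : Representation ℂ G V) (f : G → ℂ) (x : V) :
    avgOp ρ f x = ∑ g : G, f g • ρ g⁻¹ x := by
  simp [avgOp, LinearMap.sum_apply]

theorem avgOp_comm {V : Type v} [AddCommGroup V] [Module ℂ V]
    (ρ : Representation ℂ G V) {f : G → ℂ} (hf : IsClassFunction G f) (h : G) (x : V) :
    avgOp ρ f (ρ h x) = ρ h (avgOp ρ f x) := by
  simp only [avgOp_apply, map_sum, map_smul]
  refine Finset.sum_equiv (MulAut.conj h⁻¹).toEquiv (by simp) fun g _ => ?_
  have h1 : f (h⁻¹ * g * h) = f g := by simpa using hf g h⁻¹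
  simp only [← Module.End.mul_apply, ← map_mul]
  have h2 : f (h⁻¹ * (g * h)) = f g := by rw [← mul_assoc]; exact h1
  simp [MulAut.conj_apply, h2, mul_assoc]

theorem avgOp_eq_scalar {V : Type v} [AddCommGroup V] [Module ℂ V] [FiniteDimensional ℂ V]
    (ρ : Representation ℂ G V) [ρ.IsIrreducible] {f : G → ℂ} (hf : IsClassFunction G f) :
    ∃ c : ℂ, avgOp ρ f = c • LinearMap.id ∧
      c * (finrank ℂ V : ℂ) = (Nat.card G : ℂ) * classInner f ρ.character := by
  let T : ρ.IntertwiningMap ρ :=
    LinearMap.intertwiningMap_of_isIntertwiningMap ρ ρ (avgOp ρ f) (fun h x => avgOp_comm ρ hf h x)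
  obtain ⟨c, hc⟩ :=
    (Representation.IsIrreducible.algebraMap_intertwiningMap_bijective_of_isAlgClosed (ρ := ρ)).2 T
  have hc' : avgOp ρ f = c • LinearMap.id := by
    ext x
    have h2 : T x = (algebraMap ℂ (ρ.IntertwiningMap ρ) c) x := by rw [hc]
    simpa [T] using h2
  refine ⟨c, hc', ?_⟩
  have h2 : LinearMap.trace ℂ V (avgOp ρ f) = c * (finrank ℂ V : ℂ) := by
    rw [hc', map_smul, LinearMap.trace_id, smul_eq_mul]
  rw [← h2, avgOp, map_sum, inner_def, ← mul_assoc, mul_inv_cancel₀ (card_ne_zero G), one_mul]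
  refine Finset.sum_congr rfl fun g _ => ?_
  rw [map_smul, smul_eq_mul, ← character_inv]
  rfl

theorem avgOp_eq_zero {f : G → ℂ} (hf : IsClassFunction G f)
    (h : ∀ χ : IrrCharacter G, classInner f χ = 0)
    (V : Type v) [AddCommGroup V] [Module ℂ V] [FiniteDimensional ℂ V]
    (ρ : Representation ℂ G V) : avgOp ρ f = 0 := by
  refine rep_induction (P := fun V _ _ _ ρ => avgOp ρ f = 0) ?_ ?_ ?_ V ρ
  · intro V _ _ _ ρ _; exact Subsingleton.elim _ _
  · intro V _ _ _ ρ hρ
    obtain ⟨c, hc, hc'⟩ := avgOp_eq_scalar ρ hf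
    have h0 : classInner f ρ.character = 0 := h ⟨_, isIrrCharacter_character ρ⟩
    rw [h0, mul_zero, mul_eq_zero] at hc'
    rcases hc' with hc' | hc'
    · simp [hc, hc']
    · exact absurd (Nat.cast_eq_zero.mp hc') (finrank_pos_of_isIrreducible ρ).ne'
  · intro V _ _ _ ρ U U' hc h1 h2
    have key : ∀ (S : Subrepresentation ρ), avgOp S.toRepresentation f = 0 →
        ∀ x ∈ S.toSubmodule, avgOp ρ f x = 0 := by
      intro S hS x hx
      have h3 := congrArg Subtype.val (LinearMap.congr_fun hS ⟨x, hx⟩)
      rw [avgOp_apply] at h3 ⊢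
      simpa [toRepresentation_apply] using h3
    refine LinearMap.ext fun x => ?_
    have hx : x ∈ U.toSubmodule ⊔ U'.toSubmodule := by rw [hc.sup_eq_top]; trivial
    obtain ⟨a, ha, b, hb, rfl⟩ := Submodule.mem_sup.mp hx
    rw [map_add, key U h1 a ha, key U' h2 b hb, LinearMap.zero_apply, add_zero]

/-- A class function orthogonal to all irreducible characters vanishes. -/
theorem eq_zero_of_inner_irr {f : G → ℂ} (hf : IsClassFunction G f)
    (h : ∀ χ : IrrCharacter G, classInner f χ = 0) : f = 0 := by
  classical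
  funext y
  have h0 := congrFun (LinearMap.congr_fun (avgOp_eq_zero hf h _ (permRep G G))
    (Pi.single (1 : G) (1 : ℂ))) y⁻¹
  rw [avgOp_apply, Finset.sum_apply, Finset.sum_eq_single y] at h0
  · simpa [permRep_apply] using h0
  · intro g _ hg
    have : g * y⁻¹ ≠ 1 := fun h1 => hg (mul_inv_eq_one.mp h1)
    simp [permRep_apply, this]
  · simp

omit [Fintype G] in
theorem isClassFunction_zero : IsClassFunction G (0 : G → ℂ) := fun _ _ => rfl

omit [Fintype G] in
theorem isClassFunction_sub {φ ψ : G → ℂ} (h1 : IsClassFunction G φ) (h2 : IsClassFunction G ψ) :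
    IsClassFunction G (φ - ψ) := fun g h => by simp [h1 g h, h2 g h]

omit [Fintype G] in
theorem isClassFunction_add {φ ψ : G → ℂ} (h1 : IsClassFunction G φ) (h2 : IsClassFunction G ψ) :
    IsClassFunction G (φ + ψ) := fun g h => by simp [h1 g h, h2 g h]

omit [Fintype G] in
theorem isClassFunction_smul {φ : G → ℂ} (c : ℂ) (h1 : IsClassFunction G φ) :
    IsClassFunction G (c • φ) := fun g h => by simp [h1 g h]

omit [Fintype G] in
theorem isClassFunction_sum {ι : Type*} (s : Finset ι) {φ : ι → G → ℂ}
    (h1 : ∀ i ∈ s, IsClassFunction G (φ i)) : IsClassFunction G (∑ i ∈ s, φ i) := fun g h => by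
  simp only [Finset.sum_apply]
  exact Finset.sum_congr rfl fun i hi => h1 i hi g h

/-- Two class functions with the same inner products with irreducible characters agree. -/
theorem ext_inner_irr {φ ψ : G → ℂ} (h1 : IsClassFunction G φ) (h2 : IsClassFunction G ψ)
    (h : ∀ χ : IrrCharacter G, classInner φ χ = classInner ψ χ) : φ = ψ := by
  refine sub_eq_zero.mp (eq_zero_of_inner_irr (isClassFunction_sub h1 h2) fun χ => ?_)
  rw [inner_sub_left, h χ, sub_self]

theorem classFun_eq_sum [Fintype (IrrCharacter G)] {ψ : G → ℂ} (hψ : IsClassFunction G ψ) :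
    ψ = ∑ χ : IrrCharacter G, classInner ψ χ • (χ : G → ℂ) := by
  classical
  refine ext_inner_irr hψ (isClassFunction_sum _ fun χ _ =>
    isClassFunction_smul _ (isClassFunction_irr χ)) fun χ => ?_
  rw [inner_sum_left]
  simp [inner_smul_left, inner_irr]

theorem classFun_eq_finsum {ψ : G → ℂ} (hψ : IsClassFunction G ψ) :
    ψ = ∑ᶠ χ : IrrCharacter G, classInner ψ χ • (χ : G → ℂ) := by
  haveI := irrFintype G
  rw [finsum_eq_sum_of_fintype]
  exact classFun_eq_sum hψ

theorem inner_eq_sum [Fintype (IrrCharacter G)] {φ : G → ℂ} (hφ : IsClassFunction G φ)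
    (ψ : G → ℂ) :
    classInner φ ψ = ∑ χ : IrrCharacter G, classInner φ χ * conj (classInner ψ χ) := by
  conv_lhs => rw [classFun_eq_sum hφ, inner_sum_left]
  simp [inner_smul_left, inner_conj]

end Completeness

section Counting

variable [Finite G]

/-- `|G| = |class of h| * |centralizer of h|`. -/
theorem card_isConj_mul_card_centralizer (h : G) :
    Nat.card {x : G // IsConj h x} * Nat.card (Subgroup.centralizer ({h} : Set G)) = Nat.card G := by
  classical
  have h1 := (MulAction.stabilizer (ConjAct G) h).index_mul_card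
  rw [MulAction.index_stabilizer] at h1
  have h2 : (MulAction.orbit (ConjAct G) h).ncard = Nat.card {x : G // IsConj h x} := by
    rw [← Nat.card_coe_set_eq]
    refine Nat.card_congr (Equiv.subtypeEquivRight fun x => ?_)
    rw [ConjAct.mem_orbit_conjAct, isConj_comm]
  have h3 : Nat.card (MulAction.stabilizer (ConjAct G) h) =
      Nat.card (Subgroup.centralizer ({h} : Set G)) := by
    refine Nat.card_congr (ConjAct.ofConjAct.toEquiv.subtypeEquiv fun x => ?_)
    rw [MulAction.mem_stabilizer_iff, Subgroup.mem_centralizer_iff]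
    simp [ConjAct.smul_def, mul_inv_eq_iff_eq_mul, eq_comm (a := h * ConjAct.ofConjAct x)]
  rw [h2, h3] at h1
  exact h1.trans (Nat.card_congr ConjAct.ofConjAct.toEquiv)

theorem index_centralizer_eq (h : G) :
    (Subgroup.centralizer ({h} : Set G)).index = Nat.card {x : G // IsConj h x} := by
  have h1 := card_isConj_mul_card_centralizer h
  have h2 := (Subgroup.centralizer ({h} : Set G)).index_mul_card
  exact Nat.eq_of_mul_eq_mul_right Nat.card_pos (h2.trans h1.symm)

end Counting

section Consequences

/-- Second orthogonality relation. -/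
theorem second_orthogonality [Finite G] [Fintype (IrrCharacter G)] (g h : G)
    [Decidable (IsConj h g)] :
    ∑ χ : IrrCharacter G, (χ : G → ℂ) g * conj ((χ : G → ℂ) h) =
      if IsConj h g then (Nat.card (Subgroup.centralizer ({g} : Set G)) : ℂ) else 0 := by
  classical
  haveI := Fintype.ofFinite G
  let f : G → ℂ := fun x => if IsConj h x then 1 else 0
  have hf : IsClassFunction G f := fun x y => by
    have : IsConj h (y * x * y⁻¹) ↔ IsConj h x :=
      ⟨fun h1 => h1.trans (isConj_iff.mpr ⟨y, rfl⟩).symm, fun h1 => h1.trans (isConj_iff.mpr ⟨y, rfl⟩)⟩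
    simp only [f, this]
  have hinner : ∀ χ : IrrCharacter G, (Nat.card G : ℂ) * classInner f χ =
      (Nat.card {x : G // IsConj h x} : ℂ) * conj ((χ : G → ℂ) h) := by
    intro χ
    rw [inner_def, ← mul_assoc, mul_inv_cancel₀ (card_ne_zero G), one_mul,
      Nat.card_eq_fintype_card, Fintype.card_subtype, ← nsmul_eq_mul, ← Finset.sum_const,
      Finset.sum_filter]
    refine Finset.sum_congr rfl fun x _ => ?_
    by_cases hx : IsConj h x
    · obtain ⟨c, rfl⟩ := isConj_iff.mp hx
      simp only [f, if_pos hx, isClassFunction_irr χ h c, one_mul]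
    · simp only [f, if_neg hx, zero_mul]
  have h1 := congrFun (classFun_eq_sum hf) g
  rw [Finset.sum_apply] at h1
  simp only [Pi.smul_apply, smul_eq_mul] at h1
  have hk : (Nat.card {x : G // IsConj h x} : ℂ) ≠ 0 := by
    haveI : Nonempty {x : G // IsConj h x} := ⟨⟨h, IsConj.refl h⟩⟩
    exact Nat.cast_ne_zero.mpr Nat.card_pos.ne'
  have h2 : (Nat.card G : ℂ) * f g = (Nat.card {x : G // IsConj h x} : ℂ) *
      ∑ χ : IrrCharacter G, (χ : G → ℂ) g * conj ((χ : G → ℂ) h) := by
    rw [h1, Finset.mul_sum, Finset.mul_sum]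
    refine Finset.sum_congr rfl fun χ _ => ?_
    rw [← mul_assoc, hinner]
    ring
  apply mul_left_cancel₀ hk
  rw [← h2]
  split
  · next hc =>
    have h3 := card_isConj_mul_card_centralizer g
    have h4 : Nat.card {x : G // IsConj h x} = Nat.card {x : G // IsConj g x} :=
      Nat.card_congr (Equiv.subtypeEquivRight fun x =>
        ⟨fun h5 => hc.symm.trans h5, fun h5 => hc.trans h5⟩)
    simp only [f, if_pos hc, mul_one, h4]
    exact_mod_cast h3.symm
  · next hc => simp only [f, if_neg hc, mul_zero]

theorem second_orthogonality_finsum [Finite G] (g h : G) :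
    (IsConj g h → ∑ᶠ χ : IrrCharacter G, (χ : G → ℂ) g * conj ((χ : G → ℂ) h) =
      (Nat.card (Subgroup.centralizer ({g} : Set G)) : ℂ)) ∧
    (¬ IsConj g h → ∑ᶠ χ : IrrCharacter G, (χ : G → ℂ) g * conj ((χ : G → ℂ) h) = 0) := by
  classical
  haveI := irrFintype G
  rw [finsum_eq_sum_of_fintype, second_orthogonality]
  exact ⟨fun h1 => if_pos h1.symm, fun h1 => if_neg fun h2 => h1 h2.symm⟩

theorem isConj_iff_forall_irr [Finite G] (g h : G) :
    IsConj g h ↔ ∀ χ : IrrCharacter G, (χ : G → ℂ) g = (χ : G → ℂ) h := by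
  classical
  constructor
  · intro hc χ
    obtain ⟨c, rfl⟩ := isConj_iff.mp hc
    exact (isClassFunction_irr χ g c).symm
  · intro hall
    by_contra hc
    haveI := irrFintype G
    have h1 := second_orthogonality g g
    have h2 := second_orthogonality h g
    rw [if_pos (IsConj.refl g)] at h1
    rw [if_neg hc] at h2
    simp_rw [hall] at h1 h2
    exact Nat.cast_ne_zero.mpr Nat.card_pos.ne' (h1.symm.trans h2)

/-- The class function of a function on conjugacy classes. -/
noncomputable def ofClasses (G : Type u) [Group G] : (ConjClasses G → ℂ) →ₗ[ℂ] (G → ℂ) :=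
  LinearMap.funLeft ℂ ℂ ConjClasses.mk

theorem isClassFunction_ofClasses (F : ConjClasses G → ℂ) :
    IsClassFunction G (ofClasses G F) := fun g h => by
  show F (ConjClasses.mk (h * g * h⁻¹)) = F (ConjClasses.mk g)
  rw [ConjClasses.mk_eq_mk_iff_isConj.mpr (isConj_iff.mpr ⟨h, rfl⟩).symm]

theorem card_irr_eq_card_classes [Finite G] :
    Nat.card (IrrCharacter G) = Nat.card (ConjClasses G) := by
  classical
  haveI := Fintype.ofFinite G
  haveI := irrFintype G
  haveI := Fintype.ofFinite (ConjClasses G)
  let Φ : (ConjClasses G → ℂ) →ₗ[ℂ] (IrrCharacter G → ℂ) :=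
    { toFun := fun F χ => classInner (ofClasses G F) (χ : G → ℂ)
      map_add' := fun a b => by funext χ; simp [inner_add_left]
      map_smul' := fun c a => by funext χ; simp [inner_smul_left] }
  have hinj : Function.Injective Φ := by
    rw [← LinearMap.ker_eq_bot, LinearMap.ker_eq_bot']
    intro F hF
    have h0 := eq_zero_of_inner_irr (isClassFunction_ofClasses F) (fun χ => congrFun hF χ)
    funext C
    obtain ⟨g, rfl⟩ := ConjClasses.mk_surjective C
    exact congrFun h0 g
  have hsurj : Function.Surjective Φ := by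
    intro c
    refine ⟨Quotient.lift (∑ χ : IrrCharacter G, c χ • (χ : G → ℂ)) ?_, ?_⟩
    · intro a b hab
      obtain ⟨d, rfl⟩ := isConj_iff.mp hab
      exact (isClassFunction_sum _ (fun χ _ =>
        isClassFunction_smul (c χ) (isClassFunction_irr χ)) a d).symm
    · funext χ
      show classInner (∑ ψ : IrrCharacter G, c ψ • (ψ : G → ℂ)) χ = c χ
      simp [inner_sum_left, inner_smul_left, inner_irr]
  have := (LinearEquiv.ofBijective Φ ⟨hinj, hsurj⟩).finrank_eq
  simpa [Nat.card_eq_fintype_card] using this.symm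

theorem sum_degree_sq [Finite G] [Fintype (IrrCharacter G)] :
    ∑ χ : IrrCharacter G, (χ : G → ℂ) 1 ^ 2 = (Nat.card G : ℂ) := by
  classical
  have h := second_orthogonality (1 : G) 1
  rw [if_pos (IsConj.refl 1)] at h
  have hc : Subgroup.centralizer ({1} : Set G) = ⊤ := by
    ext x; simp [Subgroup.mem_centralizer_iff]
  rw [hc, Subgroup.card_top] at h
  rw [← h]
  refine Finset.sum_congr rfl fun χ _ => ?_
  obtain ⟨n, -, hn⟩ := irr_degree_nat χ.2
  rw [hn, map_natCast, sq]

/-- `∑ χ(1) χ(g)` is the regular character. -/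
theorem sum_degree_mul [Finite G] [Fintype (IrrCharacter G)] (g : G) [Decidable (g = 1)] :
    ∑ χ : IrrCharacter G, (χ : G → ℂ) 1 * (χ : G → ℂ) g =
      if g = 1 then (Nat.card G : ℂ) else 0 := by
  classical
  by_cases hg : g = 1
  · subst hg
    rw [if_pos rfl, ← sum_degree_sq (G := G)]
    exact Finset.sum_congr rfl fun χ _ => (sq _).symm
  · have h := second_orthogonality g (1 : G)
    rw [if_neg (fun hc => hg (isConj_one_right.mp hc))] at h
    rw [if_neg hg, ← h]
    refine Finset.sum_congr rfl fun χ _ => ?_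
    obtain ⟨n, -, hn⟩ := irr_degree_nat χ.2
    rw [hn, map_natCast, mul_comm]

end Consequences

end CfsgLib.Chars
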