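import Cfsg.Agent.Lib.Chars.Irr

/-!
# The semiring of characters, multiplicities, linear characters, irreducibility criteria
-/

set_option autoImplicit false
set_option linter.style.haveILetI false

namespace CfsgLib.Chars

open Module Cfsg
open scoped ComplexConjugate

universe u v w

variable {G : Type u} [Group G]

/-- The one dimensional representation of a linear character. -/
noncomputable def linearRep (lam : G →* ℂˣ) : Representation ℂ G ℂ where
  toFun g := (lam g : ℂ) • LinearMap.id
  map_one' := by simp [Module.End.one_eq_id]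
  map_mul' a b := by ext; simp [mul_comm]

theorem character_linearRep (lam : G →* ℂˣ) :
    (linearRep lam).character = fun g => (lam g : ℂ) := by
  funext g
  simp [Representation.character, linearRep, LinearMap.trace_id]

theorem isIrrCharacter_linear (lam : G →* ℂˣ) : IsIrrCharacter G (fun g => (lam g : ℂ)) := by
  haveI := isIrreducible_of_finrank_eq_one (linearRep lam) (Module.finrank_self ℂ)
  rw [← character_linearRep]
  exact isIrrCharacter_character _

theorem isIrrCharacter_one : IsIrrCharacter G (fun _ => (1 : ℂ)) := by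
  simpa using isIrrCharacter_linear (1 : G →* ℂˣ)

/-- The principal character. -/
noncomputable def principal (G : Type u) [Group G] : IrrCharacter G :=
  ⟨fun _ => 1, isIrrCharacter_one⟩

theorem principal_apply (g : G) : (principal G : G → ℂ) g = 1 := rfl

theorem isCharacter_one : IsCharacter G (fun _ => (1 : ℂ)) := isCharacter_of_irr isIrrCharacter_one

theorem isCharacter_zero : IsCharacter G (0 : G → ℂ) := by
  refine ⟨0, 1, ?_⟩
  exact character_zero_of_subsingleton _

theorem isCharacter_add {χ ψ : G → ℂ} (h1 : IsCharacter G χ) (h2 : IsCharacter G ψ) :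
    IsCharacter G (χ + ψ) := by
  obtain ⟨n, ρ, rfl⟩ := h1
  obtain ⟨m, σ, rfl⟩ := h2
  rw [← character_prod]
  exact isCharacter_character _

theorem isCharacter_mul {χ ψ : G → ℂ} (h1 : IsCharacter G χ) (h2 : IsCharacter G ψ) :
    IsCharacter G (χ * ψ) := by
  obtain ⟨n, ρ, rfl⟩ := h1
  obtain ⟨m, σ, rfl⟩ := h2
  rw [← Representation.char_tensor]
  exact isCharacter_character _

theorem isCharacter_pow {χ : G → ℂ} (h1 : IsCharacter G χ) (n : ℕ) : IsCharacter G (χ ^ n) := by
  induction n with
  | zero => rw [pow_zero]; exact isCharacter_one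
  | succ n ih => rw [pow_succ]; exact isCharacter_mul ih h1

theorem isCharacter_sum {ι : Type*} (s : Finset ι) {χ : ι → G → ℂ}
    (h : ∀ i ∈ s, IsCharacter G (χ i)) : IsCharacter G (∑ i ∈ s, χ i) :=
  Finset.sum_induction χ (IsCharacter G) (fun _ _ => isCharacter_add) isCharacter_zero h

theorem isCharacter_nsmul (n : ℕ) {χ : G → ℂ} (h : IsCharacter G χ) :
    IsCharacter G ((n : ℂ) • χ) := by
  induction n with
  | zero => simpa using isCharacter_zero
  | succ n ih =>
    rw [Nat.cast_succ, add_smul, one_smul]
    exact isCharacter_add ih h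

theorem isCharacter_conj [Finite G] {χ : G → ℂ} (h : IsCharacter G χ) :
    IsCharacter G (fun g => conj (χ g)) := by
  obtain ⟨n, ρ, rfl⟩ := h
  have h1 : (fun g => conj (ρ.character g)) = ρ.dual.character := by
    funext g; rw [Representation.char_dual, character_inv]
  rw [h1]
  exact isCharacter_character _

/-- Characters pull back along homomorphisms. -/
theorem isCharacter_comp {H : Type w} [Group H] (φ : H →* G) {χ : G → ℂ} (h : IsCharacter G χ) :
    IsCharacter H (fun x => χ (φ x)) := by
  obtain ⟨n, ρ, rfl⟩ := h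
  exact ⟨n, ρ.comp φ, rfl⟩

theorem isCharacter_restrict (H : Subgroup G) {χ : G → ℂ} (h : IsCharacter G χ) :
    IsCharacter H (fun x : H => χ x) := isCharacter_comp H.subtype h

theorem isIrreducible_comp {H : Type w} [Group H] (φ : H →* G) (hφ : Function.Surjective φ)
    {V : Type v} [AddCommGroup V] [Module ℂ V] (ρ : Representation ℂ G V) [hρ : ρ.IsIrreducible] :
    Representation.IsIrreducible (ρ.comp φ) := by
  rw [isIrreducible_iff] at hρ ⊢
  refine ⟨hρ.1, fun U hU => hρ.2 U fun g x hx => ?_⟩
  obtain ⟨h, rfl⟩ := hφ g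
  exact hU h x hx

theorem isIrrCharacter_comp {H : Type w} [Group H] (φ : H →* G) (hφ : Function.Surjective φ)
    {χ : G → ℂ} (h : IsIrrCharacter G χ) : IsIrrCharacter H (fun x => χ (φ x)) := by
  obtain ⟨n, ρ, hρ, rfl⟩ := h
  exact ⟨n, ρ.comp φ, isIrreducible_comp φ hφ ρ, rfl⟩

/-- An irreducible character of degree one is a linear character. -/
theorem exists_hom_of_degree_one {χ : G → ℂ} (h : IsCharacter G χ) (h1 : χ 1 = 1) :
    ∃ lam : G →* ℂˣ, χ = fun g => (lam g : ℂ) := by
  obtain ⟨n, ρ, rfl⟩ := h
  have hn : n = 1 := by simpa using h1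
  subst hn
  have key : ∀ g, ρ g = (ρ.character g) • LinearMap.id := by
    intro g
    obtain ⟨c, hc⟩ : ∃ c : ℂ, ρ g = c • LinearMap.id := by
      refine ⟨ρ g 1 0, ?_⟩
      refine LinearMap.ext fun x => ?_
      funext i
      have hi : i = 0 := Subsingleton.elim _ _
      subst hi
      have hx : x = x 0 • (1 : Fin 1 → ℂ) := by
        funext j; rw [Subsingleton.elim j 0]; simp
      conv_lhs => rw [hx, map_smul]
      simp [mul_comm]
    rw [hc]
    simp [Representation.character, hc, LinearMap.trace_id]
  have hmul : ∀ a b, ρ.character (a * b) = ρ.character a * ρ.character b := by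
    intro a b
    have h2 := map_mul ρ a b
    rw [key a, key b] at h2
    simp [Representation.character, h2, LinearMap.trace_id, Module.End.mul_eq_comp]
    exact mul_comm _ _
  let f : G →* ℂ := { toFun := ρ.character, map_one' := h1, map_mul' := hmul }
  exact ⟨f.toHomUnits, rfl⟩

section Finite

variable [Fintype G]

theorem inner_one_one : classInner (fun _ : G => (1 : ℂ)) (fun _ => 1) = 1 :=
  inner_irr_self (principal G)

theorem inner_irr_right_nat {φ : G → ℂ} (hφ : IsCharacter G φ) (χ : IrrCharacter G) :
    ∃ m : ℕ, classInner φ χ = m :=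
  inner_char_nat hφ (isCharacter_of_irr χ.2)

/-- Multiplicity description of characters. -/
theorem isCharacter_iff_inner {θ : G → ℂ} :
    IsCharacter G θ ↔ IsClassFunction G θ ∧ ∀ χ : IrrCharacter G, ∃ m : ℕ, classInner θ χ = m := by
  refine ⟨fun h => ⟨isClassFunction_of_isCharacter h, inner_irr_right_nat h⟩, fun ⟨hc, hm⟩ => ?_⟩
  haveI := irrFintype G
  rw [classFun_eq_sum hc]
  refine isCharacter_sum _ fun χ _ => ?_
  obtain ⟨m, hm⟩ := hm χ
  rw [hm]
  exact isCharacter_nsmul m (isCharacter_of_irr χ.2)

omit [Fintype G] in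
theorem isClassFunction_of_isGeneralized {θ : G → ℂ} (h : IsGeneralizedCharacter G θ) :
    IsClassFunction G θ := by
  obtain ⟨χ, ψ, h1, h2, rfl⟩ := h
  exact isClassFunction_sub (isClassFunction_of_isCharacter h1) (isClassFunction_of_isCharacter h2)

/-- Multiplicity description of generalized characters. -/
theorem isGeneralized_iff_inner {θ : G → ℂ} :
    IsGeneralizedCharacter G θ ↔
      IsClassFunction G θ ∧ ∀ χ : IrrCharacter G, ∃ m : ℤ, classInner θ χ = m := by
  constructor
  · intro h
    refine ⟨isClassFunction_of_isGeneralized h, fun ξ => ?_⟩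
    obtain ⟨χ, ψ, h1, h2, rfl⟩ := h
    obtain ⟨a, ha⟩ := inner_irr_right_nat h1 ξ
    obtain ⟨b, hb⟩ := inner_irr_right_nat h2 ξ
    exact ⟨(a : ℤ) - b, by rw [inner_sub_left, ha, hb]; simp⟩
  · rintro ⟨hc, hm⟩
    choose m hm using hm
    haveI := irrFintype G
    refine ⟨∑ χ : IrrCharacter G, (((m χ).toNat : ℕ) : ℂ) • (χ : G → ℂ),
      ∑ χ : IrrCharacter G, (((-m χ).toNat : ℕ) : ℂ) • (χ : G → ℂ),
      isCharacter_sum _ fun χ _ => isCharacter_nsmul _ (isCharacter_of_irr χ.2),
      isCharacter_sum _ fun χ _ => isCharacter_nsmul _ (isCharacter_of_irr χ.2), ?_⟩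
    conv_lhs => rw [classFun_eq_sum hc]
    rw [← Finset.sum_sub_distrib]
    refine Finset.sum_congr rfl fun χ _ => ?_
    rw [hm χ, ← sub_smul]
    congr 1
    have h1 : (((m χ).toNat : ℕ) : ℤ) - ((-m χ).toNat : ℕ) = m χ := Int.toNat_sub_toNat_neg _
    exact_mod_cast h1.symm

/-- A nonzero character has an irreducible constituent. -/
theorem exists_constituent {φ : G → ℂ} (hφ : IsCharacter G φ) (h0 : φ ≠ 0) :
    ∃ χ : IrrCharacter G, classInner φ χ ≠ 0 := by
  by_contra h
  push Not at h
  exact h0 (eq_zero_of_inner_irr (isClassFunction_of_isCharacter hφ) h)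

variable {V : Type v} [AddCommGroup V] [Module ℂ V] [FiniteDimensional ℂ V]

theorem inner_self_pos_of_nontrivial [Nontrivial V] (ρ : Representation ℂ G V) :
    ∃ m : ℕ, 0 < m ∧ classInner ρ.character ρ.character = m := by
  refine ⟨_, ?_, inner_character ρ ρ⟩
  have : Nontrivial (ρ.IntertwiningMap ρ) := by
    refine ⟨⟨Representation.IntertwiningMap.id ρ, 0, fun h => ?_⟩⟩
    obtain ⟨x, hx⟩ := exists_ne (0 : V)
    exact hx (DFunLike.congr_fun h x)
  exact Module.finrank_pos

/-- The norm criterion of irreducibility. -/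
theorem isIrreducible_iff_inner_self (ρ : Representation ℂ G V) :
    ρ.IsIrreducible ↔ classInner ρ.character ρ.character = 1 := by
  refine ⟨fun h => inner_self_irr ρ, fun h => ?_⟩
  rcases subsingleton_or_nontrivial V with hV | hV
  · rw [character_zero_of_subsingleton, inner_zero_left] at h
    exact absurd h zero_ne_one
  by_contra hi
  obtain ⟨U, U', hc, hb, hb'⟩ := exists_split_of_not_irreducible ρ hi
  haveI := Submodule.nontrivial_iff_ne_bot.mpr hb
  haveI := Submodule.nontrivial_iff_ne_bot.mpr hb'
  obtain ⟨a, ha, hua⟩ := inner_self_pos_of_nontrivial U.toRepresentation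
  obtain ⟨d, hd, hud⟩ := inner_self_pos_of_nontrivial U'.toRepresentation
  obtain ⟨b, hub⟩ := inner_char_nat (isCharacter_character U.toRepresentation)
    (isCharacter_character U'.toRepresentation)
  obtain ⟨c, huc⟩ := inner_char_nat (isCharacter_character U'.toRepresentation)
    (isCharacter_character U.toRepresentation)
  rw [char_add_of_isCompl ρ U U' hc, inner_add_left, inner_add_right, inner_add_right,
    hua, hub, huc, hud] at h
  have h' : a + b + (c + d) = 1 := by exact_mod_cast h
  omega

theorem isIrrCharacter_iff_inner_self {χ : G → ℂ} :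
    IsIrrCharacter G χ ↔ IsCharacter G χ ∧ classInner χ χ = 1 := by
  constructor
  · exact fun h => ⟨isCharacter_of_irr h, inner_irr_self ⟨χ, h⟩⟩
  · rintro ⟨⟨n, ρ, rfl⟩, h⟩
    haveI := (isIrreducible_iff_inner_self ρ).mpr h
    exact isIrrCharacter_character ρ

/-- A generalized character of norm one is a signed irreducible character. -/
theorem irr_or_neg_irr_of_norm_one {θ : G → ℂ} (h : IsGeneralizedCharacter G θ)
    (h1 : classInner θ θ = 1) : IsIrrCharacter G θ ∨ IsIrrCharacter G (-θ) := by
  classical
  haveI := irrFintype G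
  obtain ⟨hc, hm⟩ := isGeneralized_iff_inner.mp h
  choose m hm using hm
  have hsum : (∑ χ : IrrCharacter G, m χ * m χ) = 1 := by
    have := inner_eq_sum hc θ
    simp only [hm, h1, map_intCast] at this
    exact_mod_cast this.symm
  obtain ⟨χ₀, hχ₀⟩ : ∃ χ, m χ ≠ 0 := by
    by_contra h0
    push Not at h0
    simp [h0] at hsum
  have hrest : ∀ χ, χ ≠ χ₀ → m χ = 0 := by
    intro χ hne
    by_contra h0
    have h2 : (∑ ψ ∈ ({χ, χ₀} : Finset (IrrCharacter G)), m ψ * m ψ) ≤
        ∑ ψ : IrrCharacter G, m ψ * m ψ :=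
      Finset.sum_le_sum_of_subset_of_nonneg (Finset.subset_univ _)
        (fun i _ _ => mul_self_nonneg _)
    rw [Finset.sum_pair hne, hsum] at h2
    have := mul_self_pos.mpr h0
    have := mul_self_pos.mpr hχ₀
    omega
  have hsq : m χ₀ * m χ₀ = 1 := by
    rw [← hsum, Finset.sum_eq_single χ₀ (fun χ _ hne => by simp [hrest χ hne]) (by simp)]
  have hθ : θ = (m χ₀ : ℂ) • (χ₀ : G → ℂ) := by
    conv_lhs => rw [classFun_eq_sum hc]
    simp only [hm]
    rw [Finset.sum_eq_single χ₀ (fun χ _ hne => by simp [hrest χ hne]) (by simp)]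
  rcases Int.eq_one_or_neg_one_of_mul_eq_one hsq with h2 | h2
  · left; rw [hθ, h2]; simpa using χ₀.2
  · right; rw [hθ, h2]; simpa using χ₀.2

/-- A generalized character of norm one with nonnegative degree is irreducible. -/
theorem irr_of_norm_one {θ : G → ℂ} (h : IsGeneralizedCharacter G θ)
    (h1 : classInner θ θ = 1) (hpos : 0 ≤ (θ 1).re) : IsIrrCharacter G θ := by
  rcases irr_or_neg_irr_of_norm_one h h1 with h2 | h2
  · exact h2
  · obtain ⟨n, hn, hn'⟩ := irr_degree_nat h2
    have h3 : (θ 1).re = -(n : ℝ) := by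
      rw [show θ 1 = -(n : ℂ) by rw [← hn']; simp]
      simp
    have : (0 : ℝ) < n := Nat.cast_pos.mpr hn
    linarith

omit [Fintype G] in
theorem isIrrCharacter_conj [Finite G] {χ : G → ℂ} (h : IsIrrCharacter G χ) :
    IsIrrCharacter G (fun g => conj (χ g)) := by
  haveI := Fintype.ofFinite G
  refine isIrrCharacter_iff_inner_self.mpr ⟨isCharacter_conj (isCharacter_of_irr h), ?_⟩
  have : classInner (fun g => conj (χ g)) (fun g => conj (χ g)) = conj (classInner χ χ) := by
    simp [inner_def, map_sum]
  rw [this, inner_irr_self ⟨χ, h⟩, map_one]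

omit [Fintype G] in
/-- Irreducible times linear is irreducible. -/
theorem isIrrCharacter_linear_mul [Finite G] (lam : G →* ℂˣ) {χ : G → ℂ}
    (h : IsIrrCharacter G χ) : IsIrrCharacter G (fun g => (lam g : ℂ) * χ g) := by
  haveI := Fintype.ofFinite G
  refine isIrrCharacter_iff_inner_self.mpr
    ⟨isCharacter_mul (isCharacter_of_irr (isIrrCharacter_linear lam)) (isCharacter_of_irr h), ?_⟩
  rw [← inner_irr_self ⟨χ, h⟩, inner_def, inner_def]
  refine congrArg _ (Finset.sum_congr rfl fun g _ => ?_)
  have h2 : (lam g : ℂ) * conj (lam g : ℂ) = 1 := by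
    rw [← char_inv (isCharacter_of_irr (isIrrCharacter_linear lam)) g, ← Units.val_mul, ← map_mul,
      mul_inv_cancel, map_one, Units.val_one]
  rw [map_mul, mul_mul_mul_comm, h2, one_mul]

end Finite

section Galois

/-- Apply a field endomorphism to the matrix entries of a coordinate representation. -/
noncomputable def ringHomRep (σ : ℂ →+* ℂ) {n : ℕ} (ρ : Representation ℂ G (Fin n → ℂ)) :
    Representation ℂ G (Fin n → ℂ) where
  toFun g := Matrix.toLin' ((LinearMap.toMatrix' (ρ g)).map σ)
  map_one' := by simp [Module.End.one_eq_id]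
  map_mul' a b := by
    rw [map_mul, Module.End.mul_eq_comp, LinearMap.toMatrix'_comp, Matrix.map_mul,
      Matrix.toLin'_mul]
    rfl

theorem character_ringHomRep (σ : ℂ →+* ℂ) {n : ℕ} (ρ : Representation ℂ G (Fin n → ℂ)) :
    (ringHomRep σ ρ).character = fun g => σ (ρ.character g) := by
  funext g
  simp only [Representation.character, ringHomRep, MonoidHom.coe_mk, OneHom.coe_mk]
  rw [Matrix.trace_toLin'_eq, LinearMap.trace_eq_matrix_trace ℂ (Pi.basisFun ℂ (Fin n)) (ρ g),
    LinearMap.toMatrix_eq_toMatrix']
  simp [Matrix.trace, map_sum]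

theorem isCharacter_ringHom (σ : ℂ →+* ℂ) {χ : G → ℂ} (h : IsCharacter G χ) :
    IsCharacter G (fun g => σ (χ g)) := by
  obtain ⟨n, ρ, rfl⟩ := h
  exact ⟨n, ringHomRep σ ρ, character_ringHomRep σ ρ⟩

/-- Galois conjugates of irreducible characters are irreducible. -/
theorem isIrrCharacter_ringHom [Finite G] (σ : ℂ →+* ℂ) {χ : G → ℂ} (h : IsIrrCharacter G χ) :
    IsIrrCharacter G (fun g => σ (χ g)) := by
  haveI := Fintype.ofFinite G
  have hc := isCharacter_of_irr h
  refine isIrrCharacter_iff_inner_self.mpr ⟨isCharacter_ringHom σ hc, ?_⟩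
  have h1 := congrArg σ (inner_irr_self (⟨χ, h⟩ : IrrCharacter G))
  rw [map_one] at h1
  rw [← h1, inner_def, inner_def, map_mul, map_inv₀, map_natCast, map_sum]
  refine congrArg _ (Finset.sum_congr rfl fun g _ => ?_)
  have h2 : conj (σ (χ g)) = σ (χ g⁻¹) := (char_inv (isCharacter_ringHom σ hc) g).symm
  rw [map_mul, h2, char_inv hc g]

end Galois

section EquivOfChar

theorem exists_irreducible_sub {V : Type v} [AddCommGroup V] [Module ℂ V] [FiniteDimensional ℂ V]
    [Nontrivial V] (ρ : Representation ℂ G V) :
    ∃ U : Subrepresentation ρ, U.toRepresentation.IsIrreducible := by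
  classical
  have hex : ∃ d, ∃ U : Subrepresentation ρ, U.toSubmodule ≠ ⊥ ∧ finrank ℂ U.toSubmodule = d :=
    ⟨_, ⊤, (top_ne_bot : (⊤ : Submodule ℂ V) ≠ ⊥), rfl⟩
  obtain ⟨U, hU, hd⟩ := Nat.find_spec hex
  refine ⟨U, ?_⟩
  rw [isIrreducible_iff]
  refine ⟨Submodule.nontrivial_iff_ne_bot.mpr hU, fun W hW => ?_⟩
  by_cases hW0 : W = ⊥
  · exact Or.inl hW0
  right
  have hinv : ∀ g, ∀ x ∈ W.map U.toSubmodule.subtype, ρ g x ∈ W.map U.toSubmodule.subtype := by
    rintro g - ⟨x, hx, rfl⟩
    exact ⟨U.toRepresentation g x, hW g x hx, rfl⟩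
  have h1 := Nat.find_min' hex ⟨⟨W.map U.toSubmodule.subtype, fun g x hx => hinv g x hx⟩,
    fun h0 => hW0 (Submodule.map_injective_of_injective (f := U.toSubmodule.subtype)
      Subtype.val_injective (h0.trans (Submodule.map_bot _).symm)), rfl⟩
  have h2 : finrank ℂ (W.map U.toSubmodule.subtype) = finrank ℂ W :=
    (Submodule.equivMapOfInjective _ Subtype.val_injective W).finrank_eq.symm
  have h1' : Nat.find hex ≤ finrank ℂ (W.map U.toSubmodule.subtype) := h1
  have h3 := Submodule.finrank_le W
  exact Submodule.eq_top_of_finrank_eq (by omega)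

variable [Finite G]

/-- Representations with the same character are equivalent. -/
theorem equiv_of_character_eq {V : Type v} [AddCommGroup V] [Module ℂ V] [FiniteDimensional ℂ V]
    {W : Type w} [AddCommGroup W] [Module ℂ W] [FiniteDimensional ℂ W]
    (ρ : Representation ℂ G V) (σ : Representation ℂ G W) (h : ρ.character = σ.character) :
    Nonempty (ρ.Equiv σ) := by
  haveI := Fintype.ofFinite G
  suffices H : ∀ (n : ℕ) (V : Type v) [AddCommGroup V] [Module ℂ V] [FiniteDimensional ℂ V]
      (W : Type w) [AddCommGroup W] [Module ℂ W] [FiniteDimensional ℂ W]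
      (ρ : Representation ℂ G V) (σ : Representation ℂ G W), finrank ℂ V = n →
      ρ.character = σ.character → Nonempty (ρ.Equiv σ) from H _ V W ρ σ rfl h
  intro n
  induction n using Nat.strong_induction_on with
  | h n ih =>
    intro V _ _ _ W _ _ _ ρ σ hn h
    have hd : finrank ℂ W = n := by
      have := congrFun h 1
      simp only [Representation.char_one, Nat.cast_inj] at this
      omega
    rcases subsingleton_or_nontrivial V with hV | hV
    · have h0 : finrank ℂ V = 0 := Module.finrank_zero_of_subsingleton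
      haveI : Subsingleton W := (Module.finrank_zero_iff (R := ℂ)).mp (by omega)
      exact ⟨Representation.Equiv.mk (LinearEquiv.ofSubsingleton V W)
        fun g => Subsingleton.elim _ _⟩
    obtain ⟨U, hU⟩ := exists_irreducible_sub ρ
    haveI := nontrivial_of_isIrreducible U.toRepresentation
    have hpos : 0 < finrank ℂ (U.toRepresentation.IntertwiningMap ρ) := by
      have : Nontrivial (U.toRepresentation.IntertwiningMap ρ) := by
        refine ⟨⟨LinearMap.intertwiningMap_of_isIntertwiningMap U.toRepresentation ρ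
          U.toSubmodule.subtype (fun g x => rfl), 0, fun h0 => ?_⟩⟩
        obtain ⟨x, hx⟩ := exists_ne (0 : U.toSubmodule)
        exact hx (Subtype.ext (DFunLike.congr_fun h0 x))
      exact Module.finrank_pos
    have heq : finrank ℂ (U.toRepresentation.IntertwiningMap σ) =
        finrank ℂ (U.toRepresentation.IntertwiningMap ρ) := by
      have h1 := inner_character ρ U.toRepresentation
      rw [h, inner_character] at h1
      exact_mod_cast h1
    haveI : Nontrivial (U.toRepresentation.IntertwiningMap σ) :=
      Module.nontrivial_of_finrank_pos (R := ℂ) (by omega)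
    obtain ⟨f, hf⟩ := exists_ne (0 : U.toRepresentation.IntertwiningMap σ)
    have hinj : Function.Injective f :=
      (Representation.IsIrreducible.injective_or_eq_zero f).resolve_right hf
    let R : Subrepresentation σ := f.range
    let eR : U.toRepresentation.Equiv R.toRepresentation :=
      Representation.Equiv.mk (LinearEquiv.ofInjective f.toLinearMap hinj) fun g => by
        refine LinearMap.ext fun x => Subtype.ext ?_
        exact f.isIntertwining _ _ g x
    obtain ⟨U', hUU'⟩ := exists_isCompl_sub ρ U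
    obtain ⟨R', hRR'⟩ := exists_isCompl_sub σ R
    have hch : U'.toRepresentation.character = R'.toRepresentation.character := by
      have h1 := char_add_of_isCompl ρ U U' hUU'
      rw [h, char_add_of_isCompl σ R R' hRR', Representation.char_iso eR] at h1
      exact (add_left_cancel h1).symm
    have hlt : finrank ℂ U'.toSubmodule < n := by
      have := Submodule.finrank_add_eq_of_isCompl hUU'
      have := finrank_pos_of_isIrreducible U.toRepresentation
      omega
    obtain ⟨e'⟩ := ih _ hlt _ _ U'.toRepresentation R'.toRepresentation rfl hch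
    let e2 : (U.toRepresentation.prod U'.toRepresentation).Equiv
        (R.toRepresentation.prod R'.toRepresentation) :=
      Representation.Equiv.mk (eR.toLinearEquiv.prodCongr e'.toLinearEquiv) fun g => by
        refine LinearMap.ext fun x => ?_
        exact Prod.ext (eR.toIntertwiningMap.isIntertwining _ _ g x.1)
          (e'.toIntertwiningMap.isIntertwining _ _ g x.2)
    exact ⟨((prodEquivOfCompl ρ U U' hUU').symm.trans e2).trans (prodEquivOfCompl σ R R' hRR')⟩

end EquivOfChar

end CfsgLib.Chars
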