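import Cfsg.Agent.Lib.Chars.Integral

/-!
# Burnside: classes of prime power size and the `p^a q^b` theorem
-/

set_option autoImplicit false
set_option linter.style.haveILetI false

namespace CfsgLib.Chars

open Module Cfsg
open scoped ComplexConjugate

universe u v

/-- An average of roots of unity which is an algebraic integer is zero or of absolute value one. -/
theorem average_roots_unity {n N : ℕ} (hn : n ≠ 0) (hN : 0 < N) (μ : Fin n → ℂ)
    (hμ : ∀ i, μ i ^ N = 1) (h : IsIntegral ℤ ((∑ i, μ i) / (n : ℂ))) :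
    (∑ i, μ i) = 0 ∨ ‖∑ i, μ i‖ = n := by
  set α : ℂ := (∑ i, μ i) / (n : ℂ) with hα
  have hnC : (n : ℂ) ≠ 0 := Nat.cast_ne_zero.mpr hn
  have hαle : ‖α‖ ≤ 1 := by
    rw [hα, norm_div, Complex.norm_natCast, div_le_one (by positivity)]
    refine (norm_sum_le _ _).trans ?_
    simp [fun i => Complex.norm_eq_one_of_pow_eq_one (hμ i) hN.ne']
  rcases hαle.lt_or_eq with hlt | heq
  swap
  · right
    rw [hα, norm_div, Complex.norm_natCast, div_eq_one_iff_eq (by exact_mod_cast hn)] at heq
    exact heq
  left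
  let K : IntermediateField ℚ ℂ := IntermediateField.adjoin ℚ (Set.range μ)
  haveI : FiniteDimensional ℚ K := IntermediateField.finiteDimensional_adjoin fun x hx => by
    obtain ⟨i, rfl⟩ := hx
    refine IsIntegral.of_pow hN ?_
    rw [hμ i]
    exact isIntegral_one
  have hmem : ∀ i, μ i ∈ K := fun i => IntermediateField.subset_adjoin ℚ _ ⟨i, rfl⟩
  let x : K := ⟨α, div_mem (sum_mem fun i _ => hmem i) (natCast_mem K n)⟩
  have hxint : IsIntegral ℤ x :=
    (isIntegral_algebraMap_iff (A := K) (B := ℂ) (algebraMap K ℂ).injective).mp h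
  have hnorm := Algebra.norm_eq_prod_embeddings ℚ ℂ x
  obtain ⟨m, hm⟩ := IsIntegrallyClosed.isIntegral_iff.mp (Algebra.isIntegral_norm ℚ hxint)
  have hσ : ∀ σ : K →ₐ[ℚ] ℂ, ‖σ x‖ ≤ 1 := by
    intro σ
    have hx : σ x = (∑ i, σ ⟨μ i, hmem i⟩) / (n : ℂ) := by
      have hx' : x = (∑ i, (⟨μ i, hmem i⟩ : K)) / (n : K) := by
        apply Subtype.ext
        simp [x, hα]
      rw [hx', map_div₀, map_sum, map_natCast]
    rw [hx, norm_div, Complex.norm_natCast, div_le_one (by positivity)]
    refine (norm_sum_le _ _).trans ?_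
    have h1 : ∀ i, ‖σ ⟨μ i, hmem i⟩‖ = 1 := fun i => by
      refine Complex.norm_eq_one_of_pow_eq_one ?_ hN.ne'
      rw [← map_pow, show (⟨μ i, hmem i⟩ : K) ^ N = 1 from Subtype.ext (hμ i), map_one]
    simp [h1]
  have hlt' : ‖((m : ℤ) : ℂ)‖ < 1 := by
    have h2 : ((m : ℤ) : ℂ) = algebraMap ℚ ℂ (Algebra.norm ℚ x) := by rw [← hm]; simp
    classical
    rw [h2, hnorm, norm_prod]
    refine lt_of_eq_of_lt
      (Finset.mul_prod_erase Finset.univ (fun b : K →ₐ[ℚ] ℂ => ‖b x‖) (Finset.mem_univ K.val)).symm ?_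
    exact mul_lt_one_of_nonneg_of_lt_one_left (norm_nonneg _) hlt
      (Finset.prod_le_one (fun i _ => norm_nonneg _) fun i _ => hσ i)
  have hm0 : m = 0 := by
    rw [Complex.norm_intCast] at hlt'
    exact Int.abs_lt_one_iff.mp (by exact_mod_cast hlt')
  have hx0 : x = 0 := Algebra.norm_eq_zero_iff.mp (by rw [← hm, hm0, map_zero])
  have hα0 : α = 0 := congrArg Subtype.val hx0
  rw [hα, div_eq_zero_iff] at hα0
  exact hα0.resolve_right hnC

variable {G : Type u} [Group G] [Finite G]

/-- Burnside's vanishing lemma. -/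
theorem character_eq_zero_or_norm_eq {V : Type v} [AddCommGroup V] [Module ℂ V]
    [FiniteDimensional ℂ V] (ρ : Representation ℂ G V) [ρ.IsIrreducible] (g : G)
    (hcop : Nat.Coprime (finrank ℂ V) (Subgroup.centralizer ({g} : Set G)).index) :
    ρ.character g = 0 ∨ ‖ρ.character g‖ = (finrank ℂ V : ℝ) := by
  obtain ⟨b, μ, hμ, -, -, -, hχ, -⟩ := exists_eigenbasis_rep ρ g
  have hn := (finrank_pos_of_isIrreducible ρ).ne'
  obtain ⟨a, c, hac⟩ := (Int.isCoprime_iff_nat_coprime.mpr
    (show Nat.Coprime (Int.natAbs (finrank ℂ V : ℤ))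
      (Int.natAbs ((Subgroup.centralizer ({g} : Set G)).index : ℤ)) by simpa using hcop))
  have hac' : (a : ℂ) * (finrank ℂ V : ℂ) +
      (c : ℂ) * ((Subgroup.centralizer ({g} : Set G)).index : ℂ) = 1 := by
    exact_mod_cast hac
  rw [hχ]
  refine average_roots_unity hn (orderOf_pos g) μ hμ ?_
  rw [← hχ]
  have hnC : (finrank ℂ V : ℂ) ≠ 0 := Nat.cast_ne_zero.mpr hn
  have key : ρ.character g / (finrank ℂ V : ℂ) = (a : ℂ) * ρ.character g +
      (c : ℂ) * (((Subgroup.centralizer ({g} : Set G)).index : ℂ) * ρ.character g /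
        (finrank ℂ V : ℂ)) := by
    calc ρ.character g / (finrank ℂ V : ℂ)
        = ((a : ℂ) * (finrank ℂ V : ℂ) + (c : ℂ) *
            ((Subgroup.centralizer ({g} : Set G)).index : ℂ)) * ρ.character g /
            (finrank ℂ V : ℂ) := by rw [hac', one_mul]
      _ = _ := by field_simp
  rw [key]
  exact ((isIntegral_intCast (R := ℤ) a).mul (isIntegral_character ρ g)).add
    ((isIntegral_intCast (R := ℤ) c).mul (isIntegral_index_mul_character_div ρ g))

omit [Finite G] in
theorem prime_card_of_simple_comm [Finite G] [IsSimpleGroup G] (h : ∀ a b : G, a * b = b * a) :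
    (Nat.card G).Prime :=
  letI : CommGroup G := { (inferInstance : Group G) with mul_comm := h }
  IsSimpleGroup.prime_card

omit [Finite G] in
theorem prime_card_of_central [Finite G] [IsSimpleGroup G] {g : G} (hg : g ≠ 1)
    (hc : ∀ x, g * x = x * g) : (Nat.card G).Prime := by
  have h1 : Subgroup.center G ≠ ⊥ := fun h0 => hg (by
    have : g ∈ Subgroup.center G := Subgroup.mem_center_iff.mpr fun x => (hc x).symm
    rw [h0] at this
    exact Subgroup.mem_bot.mp this)
  have h2 := (IsSimpleGroup.eq_bot_or_eq_top_of_normal (Subgroup.center G) inferInstance).resolve_left h1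
  exact prime_card_of_simple_comm fun a b =>
    (Subgroup.mem_center_iff.mp (h2 ▸ Subgroup.mem_top b) a)

/-- A simple group with a nontrivial class of prime power size has prime order. -/
theorem prime_card_of_class_prime_pow [IsSimpleGroup G] (p k : ℕ) (hp : p.Prime) (g : G)
    (hg : g ≠ 1) (hclass : (Subgroup.centralizer ({g} : Set G)).index = p ^ k) :
    (Nat.card G).Prime := by
  classical
  haveI := Fintype.ofFinite G
  by_contra hnp
  have hk : k ≠ 0 := by
    rintro rfl
    rw [pow_zero, Subgroup.index_eq_one] at hclass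
    refine hnp (prime_card_of_central hg fun x => ?_)
    have hx : x ∈ Subgroup.centralizer ({g} : Set G) := hclass ▸ Subgroup.mem_top x
    exact Subgroup.mem_centralizer_iff.mp hx g rfl
  haveI := irrFintype G
  have hsum := second_orthogonality g (1 : G)
  rw [if_neg (fun h => hg (isConj_one_right.mp h))] at hsum
  have hzero : ∀ χ : IrrCharacter G, χ ≠ principal G →
      ∃ n : ℕ, (χ : G → ℂ) 1 = n ∧ (¬ p ∣ n → (χ : G → ℂ) g = 0) := by
    rintro ⟨χ, n, ρ, hρ, rfl⟩ hne
    refine ⟨n, by simp, fun hpn => ?_⟩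
    have hcop : Nat.Coprime (finrank ℂ (Fin n → ℂ))
        (Subgroup.centralizer ({g} : Set G)).index := by
      rw [hclass, Module.finrank_fin_fun]
      exact ((Nat.Prime.coprime_iff_not_dvd hp).mpr hpn).symm.pow_right k
    refine (character_eq_zero_or_norm_eq ρ g hcop).resolve_right fun hno => ?_
    obtain ⟨ω, hω⟩ := (norm_character_eq_iff ρ g).mp hno
    rcases IsSimpleGroup.eq_bot_or_eq_top_of_normal ρ.ker inferInstance with hker | hker
    · refine hnp (prime_card_of_central hg fun x => ?_)
      refine MonoidHom.ker_eq_bot_iff ρ |>.mp hker ?_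
      rw [map_mul, map_mul, hω]
      ext; simp
    · refine hne (Subtype.ext ?_)
      have h1 : ∀ x, ρ x = 1 := fun x => by
        have : x ∈ ρ.ker := hker ▸ Subgroup.mem_top x
        exact this
      have hconst : ∀ x, ρ.character x = (n : ℂ) := fun x => by
        simp [Representation.character, h1 x]
      have h2 : ((n : ℂ) * n) = 1 := by
        have h3 := inner_self_irr ρ
        simp only [inner_def, hconst, map_natCast, Finset.sum_const, Finset.card_univ,
          nsmul_eq_mul, ← Nat.card_eq_fintype_card] at h3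
        rwa [← mul_assoc, inv_mul_cancel₀ (card_ne_zero G), one_mul] at h3
      have h4 : n * n = 1 := by exact_mod_cast h2
      funext x
      rw [principal_apply]
      show ρ.character x = 1
      rw [hconst x, Nat.eq_one_of_mul_eq_one_right h4, Nat.cast_one]
  have hint : IsIntegral ℤ ((-1 : ℂ) / (p : ℂ)) := by
    rw [← Finset.add_sum_erase _ _ (Finset.mem_univ (principal G))] at hsum
    simp only [principal_apply, map_one, mul_one] at hsum
    have hs : (-1 : ℂ) / (p : ℂ) =
        ∑ χ ∈ Finset.univ.erase (principal G), (χ : G → ℂ) g * conj ((χ : G → ℂ) 1) / (p : ℂ) := by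
      rw [← Finset.sum_div, eq_neg_of_add_eq_zero_right hsum]
    rw [hs]
    refine IsIntegral.sum _ fun χ hχ => ?_
    obtain ⟨n, hn, hn'⟩ := hzero χ (Finset.ne_of_mem_erase hχ)
    rw [hn, map_natCast]
    by_cases hpn : p ∣ n
    · obtain ⟨d, rfl⟩ := hpn
      have hpC : (p : ℂ) ≠ 0 := Nat.cast_ne_zero.mpr hp.ne_zero
      have he : (χ : G → ℂ) g * ((p * d : ℕ) : ℂ) / (p : ℂ) = (χ : G → ℂ) g * (d : ℂ) := by
        push_cast; field_simp
      rw [he]
      exact (char_isIntegral (isCharacter_of_irr χ.2) g).mul (isIntegral_natCast _)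
    · rw [hn' hpn, zero_mul, zero_div]
      exact isIntegral_zero
  have h1 : IsIntegral ℤ ((1 : ℕ) / (p : ℂ) : ℂ) := by
    have := hint.neg
    simpa [neg_div] using this
  exact hp.one_lt.ne' (Nat.dvd_one.mp (dvd_of_isIntegral_div hp.ne_zero h1))

end CfsgLib.Chars

namespace CfsgLib.Chars

universe u

/-- Burnside: a group whose order has only the prime divisors `p`, `q` is solvable. -/
theorem isSolvable_of_primeFactors_pair {G : Type u} [Group G] [Finite G] (p q : ℕ)
    (h : ∀ r : ℕ, r.Prime → r ∣ Nat.card G → r = p ∨ r = q) : Group.IsSolvable G := by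
  suffices H : ∀ (n : ℕ) (G : Type u) [Group G] [Finite G], Nat.card G = n →
      (∀ r : ℕ, r.Prime → r ∣ Nat.card G → r = p ∨ r = q) → Group.IsSolvable G from H _ G rfl h
  intro n
  induction n using Nat.strong_induction_on with
  | h n ih =>
    intro G _ _ hn hr
    rcases subsingleton_or_nontrivial G with hG | hG
    · infer_instance
    by_cases hs : IsSimpleGroup G
    · obtain ⟨r, hr1, hr2⟩ := Nat.exists_prime_and_dvd (n := Nat.card G) Finite.one_lt_card.ne'
      haveI := Fact.mk hr1
      obtain ⟨P⟩ : Nonempty (Sylow r G) := inferInstance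
      haveI : Nontrivial P := by
        rw [← Finite.one_lt_card_iff_nontrivial, P.card_eq_multiplicity]
        exact Nat.one_lt_pow (hr1.factorization_pos_of_dvd Nat.card_pos.ne' hr2).ne' hr1.one_lt
      haveI := P.isPGroup'.center_nontrivial
      obtain ⟨z, hz⟩ := exists_ne (1 : Subgroup.center (P : Subgroup G))
      let g : G := ((z : (P : Subgroup G)) : G)
      have hg : g ≠ 1 := fun h1 => hz (Subtype.ext (Subtype.ext h1))
      have hle : (P : Subgroup G) ≤ Subgroup.centralizer ({g} : Set G) := by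
        intro x hx
        rw [Subgroup.mem_centralizer_singleton_iff]
        exact congrArg Subtype.val (Subgroup.mem_center_iff.mp z.2 ⟨x, hx⟩)
      have hdvd := Subgroup.index_dvd_of_le hle
      have hnr := P.not_dvd_index
      have hprime : ∀ s : ℕ, s.Prime → s ∣ (Subgroup.centralizer ({g} : Set G)).index →
          s = if r = p then q else p := by
        intro s hs1 hs2
        have hsr : s ≠ r := fun h1 => hnr (by
          simp [h1] at hs2
          exact hs2.trans hdvd)
        have := hr s hs1 (hs2.trans (Subgroup.index_dvd_card _))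
        rcases hr r hr1 hr2 with h3 | h3 <;> rcases this with h4 | h4 <;> split <;> omega
      obtain ⟨t, ht⟩ : ∃ t : ℕ, t.Prime ∧ ∀ s : ℕ, s.Prime →
          s ∣ (Subgroup.centralizer ({g} : Set G)).index → s = t := by
        by_cases h1 : ∃ s : ℕ, s.Prime ∧ s ∣ (Subgroup.centralizer ({g} : Set G)).index
        · obtain ⟨s, hs1, hs2⟩ := h1
          exact ⟨s, hs1, fun s' h h' => (hprime s' h h').trans (hprime s hs1 hs2).symm⟩
        · exact ⟨2, Nat.prime_two, fun s h h' => absurd ⟨s, h, h'⟩ h1⟩
      haveI := hs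
      have hP := prime_card_of_class_prime_pow t _ ht.1 g hg
        (Nat.eq_prime_pow_of_unique_prime_dvd Subgroup.index_ne_zero_of_finite
          (fun hd hd' => ht.2 _ hd hd'))
      haveI := Fact.mk hP
      haveI : IsCyclic G := isCyclic_of_prime_card rfl
      letI : CommGroup G := IsCyclic.commGroup
      infer_instance
    · obtain ⟨N, hN, hb, ht⟩ : ∃ N : Subgroup G, N.Normal ∧ N ≠ ⊥ ∧ N ≠ ⊤ := by
        by_contra hne
        push Not at hne
        exact hs ⟨fun N hN => (em (N = ⊥)).imp id (hne N hN)⟩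
      haveI := hN
      have h1 : Nat.card N < Nat.card G := by
        refine lt_of_le_of_ne (Subgroup.card_le_card_group N) fun he => ?_
        exact ht (Subgroup.eq_top_of_card_eq N he)
      have h2 : Nat.card (G ⧸ N) < Nat.card G := by
        have := N.card_eq_card_quotient_mul_card_subgroup
        have h3 : 1 < Nat.card N := (Subgroup.one_lt_card_iff_ne_bot N).mpr hb
        have h4 : 0 < Nat.card (G ⧸ N) := Nat.card_pos
        nlinarith
      haveI := ih _ (hn ▸ h1) N rfl fun r a b => hr r a (b.trans (Subgroup.card_subgroup_dvd_card N))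
      haveI := ih _ (hn ▸ h2) (G ⧸ N) rfl fun r a b =>
        hr r a (b.trans (Subgroup.card_quotient_dvd_card N))
      exact Group.isSolvable_of_ker_le_range N.subtype (QuotientGroup.mk' N) (by simp)

theorem isSolvable_of_card_eq_pow_mul_pow {G : Type u} [Group G] [Finite G] {p q a b : ℕ}
    (hp : p.Prime) (hq : q.Prime) (hcard : Nat.card G = p ^ a * q ^ b) : Group.IsSolvable G := by
  refine isSolvable_of_primeFactors_pair p q fun r hr hd => ?_
  rw [hcard] at hd
  rcases (Nat.Prime.dvd_mul hr).mp hd with h | h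
  · exact Or.inl ((Nat.prime_dvd_prime_iff_eq hr hp).mp (hr.dvd_of_dvd_pow h))
  · exact Or.inr ((Nat.prime_dvd_prime_iff_eq hr hq).mp (hr.dvd_of_dvd_pow h))

/-- A nonabelian simple group has at least three prime divisors. -/
theorem three_le_card_primeFactors_of_simple {G : Type u} [Group G] [Finite G] [IsSimpleGroup G]
    (hnc : ¬ ∀ a b : G, a * b = b * a) : 3 ≤ (Nat.card G).primeFactors.card := by
  by_contra hlt
  refine hnc (IsSimpleGroup.comm_iff_isSolvable.mpr ?_)
  have h2 : (Nat.card G).primeFactors.card ≤ 2 := by omega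
  obtain ⟨p, q, hpq⟩ : ∃ p q : ℕ, (Nat.card G).primeFactors ⊆ {p, q} := by
    rcases Finset.eq_empty_or_nonempty (Nat.card G).primeFactors with h0 | ⟨p, hp⟩
    · exact ⟨0, 0, by simp [h0]⟩
    rcases Finset.eq_empty_or_nonempty ((Nat.card G).primeFactors.erase p) with h1 | ⟨q, hq⟩
    · exact ⟨p, p, fun x hx => by
        by_contra hne
        have : x ∈ (Nat.card G).primeFactors.erase p := Finset.mem_erase.mpr ⟨fun h => hne (by simp [h]), hx⟩
        simp [h1] at this⟩
    · refine ⟨p, q, fun x hx => ?_⟩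
      have hsub : ({p, q} : Finset ℕ) ⊆ (Nat.card G).primeFactors :=
        Finset.insert_subset hp (Finset.singleton_subset_iff.mpr (Finset.mem_of_mem_erase hq))
      have hpne : p ≠ q := (Finset.ne_of_mem_erase hq).symm
      rw [Finset.eq_of_subset_of_card_le hsub (by rw [Finset.card_pair hpne]; exact h2)]
      exact hx
  refine isSolvable_of_primeFactors_pair p q fun r hr hd => ?_
  simpa using hpq (Nat.mem_primeFactors.mpr ⟨hr, hd, Nat.card_pos.ne'⟩)

end CfsgLib.Chars
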