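import Cfsg.Agent.Lib.Chars.Char

/-!
# Central characters, algebraic integers, the degree divides the group order
-/

set_option autoImplicit false
set_option linter.style.haveILetI false

namespace CfsgLib.Chars

open Module Cfsg
open scoped ComplexConjugate

universe u v

variable {G : Type u} [Group G]

/-- A rational number that is an algebraic integer in `ℂ` is an integer. -/
theorem exists_int_of_isIntegral_rat (q : ℚ) (h : IsIntegral ℤ (q : ℂ)) :
    ∃ m : ℤ, q = m := by
  have h1 : IsIntegral ℤ q := (isIntegral_algebraMap_iff (R := ℤ) (A := ℚ) (B := ℂ)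
    (algebraMap ℚ ℂ).injective).mp (by simpa using h)
  obtain ⟨m, hm⟩ := IsIntegrallyClosed.isIntegral_iff.mp h1
  exact ⟨m, by simpa using hm.symm⟩

/-- If a quotient of natural numbers is an algebraic integer, then the division is exact. -/
theorem dvd_of_isIntegral_div {a b : ℕ} (hb : b ≠ 0) (h : IsIntegral ℤ ((a : ℂ) / b)) : b ∣ a := by
  obtain ⟨m, hm⟩ := exists_int_of_isIntegral_rat ((a : ℚ) / b) (by push_cast; exact h)
  rw [div_eq_iff (by exact_mod_cast hb)] at hm
  have hm' : (a : ℤ) = m * b := by exact_mod_cast hm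
  exact Int.natCast_dvd_natCast.mp ⟨m, by rw [hm', mul_comm]⟩

variable {V : Type v} [AddCommGroup V] [Module ℂ V]

/-- A scalar obtained as a combination of group elements with algebraic-integer coefficients is an
algebraic integer. -/
theorem isIntegral_of_sum_eq_scalar [Fintype G] [Nontrivial V] (ρ : Representation ℂ G V)
    (a : G → ℂ) (ha : ∀ g, IsIntegral ℤ (a g)) (c : ℂ)
    (h : ∑ g : G, a g • ρ g = c • (LinearMap.id : V →ₗ[ℂ] V)) : IsIntegral ℤ c := by
  let O := integralClosure ℤ ℂ
  let Φ : MonoidAlgebra O G →ₐ[O] Module.End ℂ V := MonoidAlgebra.lift O _ G ρ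
  let z : MonoidAlgebra O G := ∑ g : G, MonoidAlgebra.single g (⟨a g, ha g⟩ : O)
  have hz : Φ z = algebraMap ℂ (Module.End ℂ V) c := by
    simp only [z, map_sum, Φ, MonoidAlgebra.lift_single]
    rw [Algebra.algebraMap_eq_smul_one, Module.End.one_eq_id, ← h]
    exact Finset.sum_congr rfl fun g _ => rfl
  have h1 : IsIntegral O z := IsIntegral.of_finite O z
  have h2 : IsIntegral O (algebraMap ℂ (Module.End ℂ V) c) := hz ▸ h1.map Φ
  have h3 : IsIntegral O c :=
    (isIntegral_algebraMap_iff (FaithfulSMul.algebraMap_injective ℂ (Module.End ℂ V))).mp h2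
  exact isIntegral_trans c h3

/-- The sum of `ρ x` over the conjugacy class of `g`. -/
noncomputable def classSum [Fintype G] (ρ : Representation ℂ G V) (g : G) : V →ₗ[ℂ] V :=
  open scoped Classical in ∑ x : G, if IsConj g x then ρ x else 0

theorem classSum_eq_avgOp [Fintype G] (ρ : Representation ℂ G V) (g : G) :
    classSum ρ g = avgOp ρ (fun x => open scoped Classical in if IsConj g x⁻¹ then (1 : ℂ) else 0) := by
  classical
  rw [classSum, avgOp]
  refine (Fintype.sum_equiv (Equiv.inv G) _ _ fun x => ?_).symm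
  by_cases hx : IsConj g x⁻¹
  · simp only [Equiv.inv_apply, if_pos hx, one_smul]
  · simp only [Equiv.inv_apply, if_neg hx, zero_smul]

variable [FiniteDimensional ℂ V]

/-- The class sum acts by the scalar `|class| χ(g) / χ(1)`. -/
theorem classSum_eq_scalar [Fintype G] (ρ : Representation ℂ G V) [ρ.IsIrreducible] (g : G) :
    classSum ρ g = ((Nat.card {x : G // IsConj g x} : ℂ) * ρ.character g / (finrank ℂ V : ℂ)) •
      (LinearMap.id : V →ₗ[ℂ] V) := by
  classical
  have hf : IsClassFunction G (fun x => if IsConj g x⁻¹ then (1 : ℂ) else 0) := fun x y => by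
    have : IsConj g (y * x * y⁻¹)⁻¹ ↔ IsConj g x⁻¹ := by
      have hc : IsConj x⁻¹ (y * x * y⁻¹)⁻¹ := isConj_iff.mpr ⟨y, by simp [mul_assoc]⟩
      exact ⟨fun h => h.trans hc.symm, fun h => h.trans hc⟩
    simp only [this]
  obtain ⟨c, hc, hc'⟩ := avgOp_eq_scalar ρ hf
  rw [← classSum_eq_avgOp] at hc
  rw [hc]
  congr 1
  have hn : (finrank ℂ V : ℂ) ≠ 0 := Nat.cast_ne_zero.mpr (finrank_pos_of_isIrreducible ρ).ne'
  rw [eq_div_iff hn]
  have h1 : LinearMap.trace ℂ V (classSum ρ g) =
      (Nat.card {x : G // IsConj g x} : ℂ) * ρ.character g := by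
    rw [classSum, map_sum, Nat.card_eq_fintype_card, Fintype.card_subtype, ← nsmul_eq_mul,
      ← Finset.sum_const, Finset.sum_filter]
    refine Finset.sum_congr rfl fun x _ => ?_
    by_cases hx : IsConj g x
    · obtain ⟨y, rfl⟩ := isConj_iff.mp hx
      rw [if_pos hx, if_pos hx]
      exact ρ.char_conj g y
    · rw [if_neg hx, if_neg hx, map_zero]
  rw [← h1, hc, map_smul, LinearMap.trace_id, smul_eq_mul]

/-- The central character value is an algebraic integer. -/
theorem isIntegral_centralChar [Finite G] (ρ : Representation ℂ G V) [ρ.IsIrreducible] (g : G) :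
    IsIntegral ℤ ((Nat.card {x : G // IsConj g x} : ℂ) * ρ.character g / (finrank ℂ V : ℂ)) := by
  classical
  haveI := Fintype.ofFinite G
  haveI := nontrivial_of_isIrreducible ρ
  refine isIntegral_of_sum_eq_scalar ρ (fun x => if IsConj g x then 1 else 0) (fun x => ?_) _ ?_
  · by_cases hx : IsConj g x
    · simp only [if_pos hx]; exact isIntegral_one
    · simp only [if_neg hx]; exact isIntegral_zero
  · rw [← classSum_eq_scalar, classSum]
    refine Finset.sum_congr rfl fun x _ => ?_
    by_cases hx : IsConj g x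
    · simp only [if_pos hx, one_smul]
    · simp only [if_neg hx, zero_smul]

/-- The central character value is an algebraic integer (index form). -/
theorem isIntegral_index_mul_character_div [Finite G] (ρ : Representation ℂ G V) [ρ.IsIrreducible]
    (g : G) :
    IsIntegral ℤ (((Subgroup.centralizer ({g} : Set G)).index : ℂ) * ρ.character g /
      (finrank ℂ V : ℂ)) := by
  rw [index_centralizer_eq]
  exact isIntegral_centralChar ρ g

theorem irr_isIntegral_centralChar [Finite G] {χ : G → ℂ} (hχ : IsIrrCharacter G χ) (g : G) :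
    IsIntegral ℤ ((Nat.card {x : G // IsConj g x} : ℂ) * χ g / χ 1) := by
  obtain ⟨n, ρ, hρ, rfl⟩ := hχ
  rw [Representation.char_one]
  exact isIntegral_centralChar ρ g

/-- Sum of a character over the translate of a class. -/
theorem sum_translate_class [Fintype G] {χ : G → ℂ} (hχ : IsIrrCharacter G χ) (x h : G)
    [DecidablePred (IsConj h)] :
    ∑ y : G, (if IsConj h y then χ (x * y) else 0) =
      (Nat.card {y : G // IsConj h y} : ℂ) * χ h * χ x / χ 1 := by
  obtain ⟨n, ρ, hρ, rfl⟩ := hχ
  have h1 := congrArg (fun T => LinearMap.trace ℂ (Fin n → ℂ) (ρ x * T)) (classSum_eq_scalar ρ h)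
  simp only [classSum, Finset.mul_sum, map_sum, mul_smul_comm, map_smul, smul_eq_mul] at h1
  rw [← Module.End.one_eq_id, mul_one] at h1
  rw [Representation.char_one, mul_div_right_comm]
  refine Eq.trans (Finset.sum_congr rfl fun y _ => ?_) h1
  by_cases hy : IsConj h y
  · rw [if_pos hy, if_pos hy, ← map_mul]
    rfl
  · rw [if_neg hy, if_neg hy, mul_zero, map_zero]

/-- The degree of an irreducible representation divides the group order. -/
theorem finrank_dvd_card [Finite G] (ρ : Representation ℂ G V) [ρ.IsIrreducible] :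
    finrank ℂ V ∣ Nat.card G := by
  haveI := Fintype.ofFinite G
  haveI := nontrivial_of_isIrreducible ρ
  have hn : (finrank ℂ V : ℂ) ≠ 0 := Nat.cast_ne_zero.mpr (finrank_pos_of_isIrreducible ρ).ne'
  obtain ⟨c, hc, hc'⟩ := avgOp_eq_scalar ρ (isClassFunction_character ρ)
  rw [inner_self_irr, mul_one] at hc'
  refine dvd_of_isIntegral_div (finrank_pos_of_isIrreducible ρ).ne' ?_
  rw [← hc', mul_div_cancel_right₀ _ hn]
  refine isIntegral_of_sum_eq_scalar ρ (fun g => ρ.character g⁻¹)
    (fun g => isIntegral_character ρ g⁻¹) c ?_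
  rw [← hc, avgOp]
  refine (Fintype.sum_equiv (Equiv.inv G) _ _ fun g => ?_).symm
  simp

theorem irr_degree_dvd_card [Finite G] {χ : G → ℂ} (hχ : IsIrrCharacter G χ) :
    ∃ n : ℕ, 0 < n ∧ χ 1 = n ∧ n ∣ Nat.card G := by
  obtain ⟨n, ρ, hρ, rfl⟩ := hχ
  refine ⟨n, by simpa using finrank_pos_of_isIrreducible ρ, by simp, ?_⟩
  simpa using finrank_dvd_card ρ

end CfsgLib.Chars
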