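import Mathlib
import Cfsg.Prelude.Def_Characters

/-!
# Basic facts about complex characters

`IsCharacter` / `IsIrrCharacter` for representations on arbitrary finite dimensional spaces,
eigenvalues of elements of finite order, conjugation, absolute values, integrality.
-/

set_option autoImplicit false
set_option linter.style.haveILetI false

namespace CfsgLib.Chars

open Module Cfsg
open scoped ComplexConjugate

universe u v w

variable {G : Type u} [Group G]

/-- The natural number order of the group is invertible in `ℂ`. -/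
@[reducible] noncomputable def invertibleCard (G : Type u) [Finite G] [Nonempty G] :
    Invertible (Nat.card G : ℂ) :=
  invertibleOfNonzero (Nat.cast_ne_zero.mpr Nat.card_pos.ne')

theorem card_ne_zero (G : Type u) [Finite G] [Nonempty G] : (Nat.card G : ℂ) ≠ 0 :=
  Nat.cast_ne_zero.mpr Nat.card_pos.ne'

section Transport

variable {V : Type v} [AddCommGroup V] [Module ℂ V] {W : Type w} [AddCommGroup W] [Module ℂ W]

/-- Elementary description of irreducibility. -/
theorem isIrreducible_iff (ρ : Representation ℂ G V) :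
    ρ.IsIrreducible ↔ Nontrivial V ∧
      ∀ U : Submodule ℂ V, (∀ g, ∀ x ∈ U, ρ g x ∈ U) → U = ⊥ ∨ U = ⊤ := by
  constructor
  · intro h
    refine ⟨?_, fun U hU => ?_⟩
    · by_contra hn
      rw [not_nontrivial_iff_subsingleton] at hn
      obtain ⟨x, y, hxy⟩ := h.toNontrivial.exists_pair_ne
      exact hxy (Subrepresentation.toSubmodule_injective (Subsingleton.elim _ _))
    · rcases h.eq_bot_or_eq_top ⟨U, fun g v hv => hU g v hv⟩ with h1 | h1
      · exact Or.inl (congrArg Subrepresentation.toSubmodule h1)
      · exact Or.inr (congrArg Subrepresentation.toSubmodule h1)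
  · rintro ⟨hn, h⟩
    have : Nontrivial (Subrepresentation ρ) := by
      refine ⟨⟨⊥, ⊤, fun hbt => ?_⟩⟩
      have h2 : (⊥ : Submodule ℂ V) = ⊤ := congrArg Subrepresentation.toSubmodule hbt
      exact bot_ne_top h2
    refine ⟨fun a => ?_⟩
    rcases h a.toSubmodule (fun g x hx => a.apply_mem_toSubmodule g hx) with h1 | h1
    · exact Or.inl (Subrepresentation.toSubmodule_injective h1)
    · exact Or.inr (Subrepresentation.toSubmodule_injective h1)

theorem nontrivial_of_isIrreducible (ρ : Representation ℂ G V) [hρ : ρ.IsIrreducible] :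
    Nontrivial V :=
  ((isIrreducible_iff ρ).mp hρ).1

theorem finrank_pos_of_isIrreducible [FiniteDimensional ℂ V] (ρ : Representation ℂ G V)
    [ρ.IsIrreducible] : 0 < finrank ℂ V := by
  haveI := nontrivial_of_isIrreducible ρ
  exact Module.finrank_pos

/-- Move a representation along a linear equivalence. -/
noncomputable def transport (ρ : Representation ℂ G V) (e : V ≃ₗ[ℂ] W) :
    Representation ℂ G W where
  toFun g := e.conj (ρ g)
  map_one' := by simp [Module.End.one_eq_id]
  map_mul' a b := by
    ext x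
    simp [LinearEquiv.conj_apply_apply]

theorem transport_apply (ρ : Representation ℂ G V) (e : V ≃ₗ[ℂ] W) (g : G) (x : W) :
    transport ρ e g x = e (ρ g (e.symm x)) := by
  simp [transport, LinearEquiv.conj_apply_apply]

/-- A representation is equivalent to its transport. -/
noncomputable def transportEquiv (ρ : Representation ℂ G V) (e : V ≃ₗ[ℂ] W) :
    ρ.Equiv (transport ρ e) :=
  Representation.Equiv.mk e fun g => by ext x; simp [transport_apply]

theorem character_transport (ρ : Representation ℂ G V) (e : V ≃ₗ[ℂ] W) :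
    (transport ρ e).character = ρ.character :=
  (Representation.char_iso (transportEquiv ρ e)).symm

theorem isIrreducible_of_equiv {ρ : Representation ℂ G V} {σ : Representation ℂ G W}
    (e : ρ.Equiv σ) (h : ρ.IsIrreducible) : σ.IsIrreducible := by
  rw [isIrreducible_iff] at h ⊢
  refine ⟨?_, fun U hU => ?_⟩
  · haveI := h.1
    exact e.toLinearEquiv.symm.toEquiv.nontrivial
  · have hinv : ∀ g, ∀ x ∈ U.comap e.toLinearEquiv.toLinearMap,
        ρ g x ∈ U.comap e.toLinearEquiv.toLinearMap := by
      intro g x hx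
      rw [Submodule.mem_comap] at hx ⊢
      have hcomm : e.toLinearEquiv (ρ g x) = σ g (e.toLinearEquiv x) :=
        e.toIntertwiningMap.isIntertwining _ _ g x
      show e.toLinearEquiv (ρ g x) ∈ U
      rw [hcomm]
      exact hU g _ hx
    rcases h.2 _ hinv with h1 | h1
    · left
      have := Submodule.map_comap_eq_of_surjective e.toLinearEquiv.surjective U
      rw [← this, h1, Submodule.map_bot]
    · right
      have := Submodule.map_comap_eq_of_surjective e.toLinearEquiv.surjective U
      rw [← this, h1, Submodule.map_top, LinearMap.range_eq_top]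
      exact e.toLinearEquiv.surjective

theorem isIrreducible_transport (ρ : Representation ℂ G V) [h : ρ.IsIrreducible] (e : V ≃ₗ[ℂ] W) :
    (transport ρ e).IsIrreducible :=
  isIrreducible_of_equiv (transportEquiv ρ e) h

/-- A one dimensional representation is irreducible. -/
theorem isIrreducible_of_finrank_eq_one (ρ : Representation ℂ G V) (h : finrank ℂ V = 1) :
    ρ.IsIrreducible := by
  rw [isIrreducible_iff]
  haveI : Nontrivial V := Module.nontrivial_of_finrank_eq_succ h
  haveI : FiniteDimensional ℂ V := FiniteDimensional.of_finrank_eq_succ h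
  refine ⟨inferInstance, fun U _ => ?_⟩
  have h1 := Submodule.finrank_le U
  rcases Nat.lt_or_ge (finrank ℂ U) 1 with h2 | h2
  · exact Or.inl (Submodule.finrank_eq_zero.mp (by omega))
  · exact Or.inr (Submodule.eq_top_of_finrank_eq (by omega))

variable [FiniteDimensional ℂ V]

/-- The trace function of any finite dimensional representation is a character. -/
theorem isCharacter_character (ρ : Representation ℂ G V) : IsCharacter G ρ.character :=
  ⟨finrank ℂ V, transport ρ (Module.finBasis ℂ V).equivFun, character_transport _ _⟩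

/-- The trace function of any irreducible representation is an irreducible character. -/
theorem isIrrCharacter_character (ρ : Representation ℂ G V) [ρ.IsIrreducible] :
    IsIrrCharacter G ρ.character :=
  ⟨finrank ℂ V, transport ρ (Module.finBasis ℂ V).equivFun, isIrreducible_transport _ _,
    character_transport _ _⟩

omit [FiniteDimensional ℂ V] in
theorem isClassFunction_character (ρ : Representation ℂ G V) :
    IsClassFunction G ρ.character := fun g h => ρ.char_conj g h

end Transport

section Elim

theorem isCharacter_of_irr {χ : G → ℂ} (h : IsIrrCharacter G χ) : IsCharacter G χ := by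
  obtain ⟨n, ρ, -, rfl⟩ := h
  exact ⟨n, ρ, rfl⟩

theorem isClassFunction_of_isCharacter {χ : G → ℂ} (h : IsCharacter G χ) :
    IsClassFunction G χ := by
  obtain ⟨n, ρ, rfl⟩ := h
  exact isClassFunction_character ρ

theorem isClassFunction_irr (χ : IrrCharacter G) : IsClassFunction G (χ : G → ℂ) :=
  isClassFunction_of_isCharacter (isCharacter_of_irr χ.2)

theorem irr_degree_nat {χ : G → ℂ} (h : IsIrrCharacter G χ) :
    ∃ n : ℕ, 0 < n ∧ χ 1 = n := by
  obtain ⟨n, ρ, hρ, rfl⟩ := h
  refine ⟨n, ?_, by simp⟩
  simpa using finrank_pos_of_isIrreducible ρ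

theorem irr_degree_ne_zero {χ : G → ℂ} (h : IsIrrCharacter G χ) : χ 1 ≠ 0 := by
  obtain ⟨n, hn, h1⟩ := irr_degree_nat h
  rw [h1]
  exact Nat.cast_ne_zero.mpr hn.ne'

theorem character_degree_nat {χ : G → ℂ} (h : IsCharacter G χ) : ∃ n : ℕ, χ 1 = n := by
  obtain ⟨n, ρ, rfl⟩ := h
  exact ⟨n, by simp⟩

end Elim

section Eigen

variable {V : Type v} [AddCommGroup V] [Module ℂ V] [FiniteDimensional ℂ V]

/-- An operator of finite order on a complex space has a basis of eigenvectors. -/
theorem exists_eigenbasis (f : Module.End ℂ V) {N : ℕ} (hN : 0 < N) (hf : f ^ N = 1) :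
    ∃ (b : Basis (Fin (finrank ℂ V)) ℂ V) (μ : Fin (finrank ℂ V) → ℂ),
      (∀ i, μ i ^ N = 1) ∧ ∀ i, f (b i) = μ i • b i := by
  classical
  have hsq : Squarefree (Polynomial.X ^ N - Polynomial.C (1 : ℂ)) :=
    (Polynomial.separable_X_pow_sub_C (1 : ℂ) (Nat.cast_ne_zero.mpr hN.ne') one_ne_zero).squarefree
  have hss : f.IsSemisimple :=
    Module.End.isSemisimple_of_squarefree_aeval_eq_zero hsq (by simp [hf])
  have htop : ⨆ μ, f.eigenspace μ = ⊤ := hss.iSup_eigenspace_eq_top
  have hint : DirectSum.IsInternal f.eigenspace := by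
    rw [DirectSum.isInternal_submodule_iff_iSupIndep_and_iSup_eq_top]
    exact ⟨f.eigenspaces_iSupIndep, htop⟩
  let bs := fun μ => Module.finBasis ℂ (f.eigenspace μ)
  let B := hint.collectedBasis bs
  let e := B.indexEquiv (Module.finBasis ℂ V)
  refine ⟨B.reindex e, fun i => (e.symm i).1, fun i => ?_, fun i => ?_⟩
  · have hmem := hint.collectedBasis_mem bs (e.symm i)
    rw [Module.End.mem_eigenspace_iff] at hmem
    have hp : ∀ k : ℕ, (f ^ k) (B (e.symm i)) = (e.symm i).1 ^ k • B (e.symm i) := by
      intro k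
      induction k with
      | zero => simp
      | succ k ih =>
        rw [pow_succ', Module.End.mul_apply, ih, map_smul, hmem, smul_smul, pow_succ]
    have h2 := hp N
    rw [hf, Module.End.one_apply] at h2
    by_contra hne
    have h3 : ((e.symm i).1 ^ N - 1) • B (e.symm i) = 0 := by
      rw [sub_smul, one_smul, ← h2, sub_self]
    rcases smul_eq_zero.mp h3 with h4 | h4
    · exact hne (sub_eq_zero.mp h4)
    · exact B.ne_zero _ h4
  · have hmem := hint.collectedBasis_mem bs (e.symm i)
    rw [Module.End.mem_eigenspace_iff] at hmem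
    rw [Module.Basis.reindex_apply]
    exact hmem

omit [FiniteDimensional ℂ V] in
theorem trace_eq_sum_of_eigenbasis {ι : Type*} [Fintype ι] (f : Module.End ℂ V)
    (b : Basis ι ℂ V) (μ : ι → ℂ) (h : ∀ i, f (b i) = μ i • b i) :
    LinearMap.trace ℂ V f = ∑ i, μ i := by
  classical
  rw [LinearMap.trace_eq_matrix_trace ℂ b, Matrix.trace]
  refine Finset.sum_congr rfl fun i _ => ?_
  simp [LinearMap.toMatrix_apply, h]

/-- Simultaneous description of `ρ g` and `ρ g⁻¹` by roots of unity. -/
theorem exists_eigenbasis_rep [Finite G] (ρ : Representation ℂ G V) (g : G) :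
    ∃ (b : Basis (Fin (finrank ℂ V)) ℂ V) (μ : Fin (finrank ℂ V) → ℂ),
      (∀ i, μ i ^ orderOf g = 1) ∧ (∀ i, ‖μ i‖ = 1) ∧ (∀ i, ρ g (b i) = μ i • b i) ∧
      (∀ i, ρ g⁻¹ (b i) = conj (μ i) • b i) ∧ ρ.character g = ∑ i, μ i ∧
      ρ.character g⁻¹ = ∑ i, conj (μ i) := by
  have hg : 0 < orderOf g := orderOf_pos g
  obtain ⟨b, μ, hμ, hb⟩ := exists_eigenbasis (ρ g) hg
    (by rw [← map_pow, pow_orderOf_eq_one, map_one])
  have hnorm : ∀ i, ‖μ i‖ = 1 := fun i => Complex.norm_eq_one_of_pow_eq_one (hμ i) hg.ne'
  have hinv : ∀ i, ρ g⁻¹ (b i) = conj (μ i) • b i := by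
    intro i
    have h1 : ρ g⁻¹ (ρ g (b i)) = b i := ρ.inv_self_apply g (b i)
    rw [hb i, map_smul] at h1
    rw [← Complex.inv_eq_conj (hnorm i)]
    have hne : μ i ≠ 0 := fun h0 => by simpa [h0] using hnorm i
    exact (eq_inv_smul_iff₀ hne).mpr h1
  exact ⟨b, μ, hμ, hnorm, hb, hinv, trace_eq_sum_of_eigenbasis _ b μ hb,
    trace_eq_sum_of_eigenbasis _ b _ hinv⟩

theorem character_inv [Finite G] (ρ : Representation ℂ G V) (g : G) :
    ρ.character g⁻¹ = conj (ρ.character g) := by
  obtain ⟨b, μ, -, -, -, -, h1, h2⟩ := exists_eigenbasis_rep ρ g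
  rw [h1, h2, map_sum]

theorem isIntegral_character [Finite G] (ρ : Representation ℂ G V) (g : G) :
    IsIntegral ℤ (ρ.character g) := by
  obtain ⟨b, μ, hμ, -, -, -, h1, -⟩ := exists_eigenbasis_rep ρ g
  rw [h1]
  refine IsIntegral.sum _ fun i _ => ?_
  refine IsIntegral.of_pow (orderOf_pos g) ?_
  rw [hμ i]
  exact isIntegral_one

theorem norm_character_le [Finite G] (ρ : Representation ℂ G V) (g : G) :
    ‖ρ.character g‖ ≤ (finrank ℂ V : ℝ) := by
  obtain ⟨b, μ, -, hn, -, -, h1, -⟩ := exists_eigenbasis_rep ρ g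
  rw [h1]
  refine (norm_sum_le _ _).trans ?_
  simp [hn]

theorem norm_character_eq_iff [Finite G] (ρ : Representation ℂ G V) (g : G) :
    ‖ρ.character g‖ = (finrank ℂ V : ℝ) ↔ ∃ ω : ℂ, ρ g = ω • (LinearMap.id : V →ₗ[ℂ] V) := by
  obtain ⟨b, μ, -, hn, hb, -, h1, -⟩ := exists_eigenbasis_rep ρ g
  constructor
  · intro h
    refine ⟨(∑ i, μ i) / (finrank ℂ V : ℂ), b.ext fun i => ?_⟩
    have hnpos : finrank ℂ V ≠ 0 := Nat.pos_iff_ne_zero.mp i.pos
    have hn0 : (finrank ℂ V : ℂ) ≠ 0 := Nat.cast_ne_zero.mpr hnpos
    set ω := (∑ i, μ i) / (finrank ℂ V : ℂ) with hω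
    have hω1 : ‖ω‖ = 1 := by
      rw [hω, norm_div, ← h1, h, Complex.norm_natCast, div_self]
      exact_mod_cast hnpos
    have hsum : ∑ j, (μ j * conj ω).re = ∑ _j : Fin (finrank ℂ V), (1 : ℝ) := by
      rw [← Complex.re_sum, ← Finset.sum_mul]
      have : (∑ j, μ j) = ω * (finrank ℂ V : ℂ) := by rw [hω, div_mul_cancel₀ _ hn0]
      rw [this, mul_right_comm, Complex.mul_conj, Complex.normSq_eq_norm_sq, hω1]
      simp
    have hle : ∀ j ∈ Finset.univ, (μ j * conj ω).re ≤ 1 := fun j _ =>
      (Complex.re_le_norm _).trans (by simp [hn, hω1])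
    have hi := (Finset.sum_eq_sum_iff_of_le hle).mp hsum i (Finset.mem_univ _)
    have hnorm : ‖μ i * conj ω‖ = 1 := by simp [hn, hω1]
    have hone : μ i * conj ω = 1 := by
      have him : (μ i * conj ω).im = 0 :=
        Complex.abs_re_eq_norm.mp (by rw [hnorm, hi, abs_one])
      exact Complex.ext hi him
    have hμω : μ i = ω := by
      have h2 : μ i * (conj ω * ω) = ω := by rw [← mul_assoc, hone, one_mul]
      rwa [mul_comm (conj ω) ω, Complex.mul_conj, Complex.normSq_eq_norm_sq, hω1, one_pow,
        Complex.ofReal_one, mul_one] at h2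
    simp [hb, hμω]
  · rintro ⟨ω, hω⟩
    have : ∀ i, μ i = ω := by
      intro i
      have h2 := hb i
      rw [hω] at h2
      simp only [LinearMap.smul_apply, LinearMap.id_apply] at h2
      exact (smul_left_injective ℂ (b.ne_zero i) h2).symm
    rw [h1]
    rcases Nat.eq_zero_or_pos (finrank ℂ V) with h0 | h0
    · simp [this, h0]
    · have hω1 : ‖ω‖ = 1 := by rw [← this ⟨0, h0⟩]; exact hn _
      simp [this, hω1]

theorem character_eq_finrank_iff [Finite G] (ρ : Representation ℂ G V) (g : G) :
    ρ.character g = (finrank ℂ V : ℂ) ↔ ρ g = LinearMap.id := by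
  constructor
  · intro h
    rcases subsingleton_or_nontrivial V with hV | hV
    · ext x; exact Subsingleton.elim _ _
    obtain ⟨ω, hω⟩ := (norm_character_eq_iff ρ g).mp (by rw [h, Complex.norm_natCast])
    have hne : (finrank ℂ V : ℂ) ≠ 0 := Nat.cast_ne_zero.mpr Module.finrank_pos.ne'
    have h2 : ω * (finrank ℂ V : ℂ) = finrank ℂ V := by
      conv_rhs => rw [← h]
      simp [Representation.character, hω, LinearMap.trace_id]
    have hω1 : ω = 1 := mul_right_cancel₀ hne (by rw [h2, one_mul])
    rw [hω, hω1, one_smul]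
  · intro h
    simp [Representation.character, h]

end Eigen

section Values

variable [Finite G] {χ : G → ℂ}

theorem char_inv (h : IsCharacter G χ) (g : G) : χ g⁻¹ = conj (χ g) := by
  obtain ⟨n, ρ, rfl⟩ := h
  exact character_inv ρ g

theorem char_isIntegral (h : IsCharacter G χ) (g : G) : IsIntegral ℤ (χ g) := by
  obtain ⟨n, ρ, rfl⟩ := h
  exact isIntegral_character ρ g

theorem char_norm_le (h : IsCharacter G χ) (g : G) : ‖χ g‖ ≤ (χ 1).re := by
  obtain ⟨n, ρ, rfl⟩ := h
  simpa using norm_character_le ρ g

theorem irr_inv (χ : IrrCharacter G) (g : G) :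
    (χ : G → ℂ) g⁻¹ = conj ((χ : G → ℂ) g) :=
  char_inv (isCharacter_of_irr χ.2) g

end Values

section Inner

variable [Fintype G] (φ φ' ψ ψ' : G → ℂ) (c : ℂ)

theorem inner_def : classInner φ ψ = (Nat.card G : ℂ)⁻¹ * ∑ g : G, φ g * conj (ψ g) := rfl

theorem inner_add_left : classInner (φ + φ') ψ = classInner φ ψ + classInner φ' ψ := by
  simp [inner_def, add_mul, Finset.sum_add_distrib, mul_add]

theorem inner_add_right : classInner φ (ψ + ψ') = classInner φ ψ + classInner φ ψ' := by
  simp [inner_def, mul_add, Finset.sum_add_distrib]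

theorem inner_sub_left : classInner (φ - φ') ψ = classInner φ ψ - classInner φ' ψ := by
  simp [inner_def, sub_mul, Finset.sum_sub_distrib, mul_sub]

theorem inner_sub_right : classInner φ (ψ - ψ') = classInner φ ψ - classInner φ ψ' := by
  simp [inner_def, mul_sub, Finset.sum_sub_distrib]

theorem inner_smul_left : classInner (c • φ) ψ = c * classInner φ ψ := by
  simp only [inner_def, Pi.smul_apply, smul_eq_mul, Finset.mul_sum]
  exact Finset.sum_congr rfl fun g _ => by ring

theorem inner_smul_right : classInner φ (c • ψ) = conj c * classInner φ ψ := by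
  simp only [inner_def, Pi.smul_apply, smul_eq_mul, Finset.mul_sum, map_mul]
  exact Finset.sum_congr rfl fun g _ => by ring

theorem inner_zero_left : classInner (0 : G → ℂ) ψ = 0 := by simp [inner_def]

theorem inner_zero_right : classInner φ (0 : G → ℂ) = 0 := by simp [inner_def]

theorem inner_neg_left : classInner (-φ) ψ = -classInner φ ψ := by simp [inner_def]

theorem inner_neg_right : classInner φ (-ψ) = -classInner φ ψ := by simp [inner_def]

theorem inner_conj : conj (classInner φ ψ) = classInner ψ φ := by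
  simp only [inner_def, map_mul, map_inv₀, map_natCast, map_sum, Complex.conj_conj]
  congr 1
  exact Finset.sum_congr rfl fun g _ => mul_comm _ _

theorem inner_sum_left {ι : Type*} (s : Finset ι) (f : ι → G → ℂ) :
    classInner (∑ i ∈ s, f i) ψ = ∑ i ∈ s, classInner (f i) ψ := by
  classical
  induction s using Finset.induction_on with
  | empty => simp [inner_zero_left]
  | insert a s ha ih => rw [Finset.sum_insert ha, Finset.sum_insert ha, inner_add_left, ih]

theorem inner_sum_right {ι : Type*} (s : Finset ι) (f : ι → G → ℂ) :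
    classInner φ (∑ i ∈ s, f i) = ∑ i ∈ s, classInner φ (f i) := by
  classical
  induction s using Finset.induction_on with
  | empty => simp [inner_zero_right]
  | insert a s ha ih => rw [Finset.sum_insert ha, Finset.sum_insert ha, inner_add_right, ih]

theorem inner_self_eq : classInner φ φ =
    (((Nat.card G : ℝ)⁻¹ * ∑ g : G, ‖φ g‖ ^ 2 : ℝ) : ℂ) := by
  simp [inner_def, Complex.mul_conj, Complex.normSq_eq_norm_sq]

theorem inner_self_eq_zero_iff : classInner φ φ = 0 ↔ φ = 0 := by
  constructor
  · intro h
    rw [inner_self_eq, Complex.ofReal_eq_zero, mul_eq_zero] at h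
    rcases h with h | h
    · simp at h
    · funext g
      have := (Finset.sum_eq_zero_iff_of_nonneg (fun i _ => by positivity)).mp h g (Finset.mem_univ _)
      simpa using this
  · rintro rfl
    exact inner_zero_left _

omit [Fintype G] in
theorem inner_congr_inst (i1 i2 : Fintype G) :
    @classInner G _ i1 φ ψ = @classInner G _ i2 φ ψ := by
  rw [Subsingleton.elim i1 i2]

end Inner

end CfsgLib.Chars
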