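import Cfsg.Agent.Lib.Chars.Char

/-!
# Linear characters
-/

set_option autoImplicit false
set_option linter.style.haveILetI false

namespace CfsgLib.Chars

open Module Cfsg

universe u

variable {G : Type u} [Group G]

/-- Linear characters are the homomorphisms into `ℂˣ`. -/
noncomputable def linearEquiv (G : Type u) [Group G] :
    (G →* ℂˣ) ≃ {χ : IrrCharacter G // (χ : G → ℂ) 1 = 1} :=
  Equiv.ofBijective (fun lam => ⟨⟨fun g => (lam g : ℂ), isIrrCharacter_linear lam⟩, by simp⟩)
    ⟨fun a b h => MonoidHom.ext fun g =>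
        Units.ext (congrFun (congrArg (fun x => ((x.1 : IrrCharacter G) : G → ℂ)) h) g),
      fun ⟨χ, hχ⟩ => by
        obtain ⟨lam, hlam⟩ := exists_hom_of_degree_one (isCharacter_of_irr χ.2) hχ
        exact ⟨lam, Subtype.ext (Subtype.ext hlam.symm)⟩⟩

theorem linearEquiv_apply (lam : G →* ℂˣ) :
    (((linearEquiv G lam).1 : IrrCharacter G) : G → ℂ) = fun g => (lam g : ℂ) := rfl

instance finite_monoidHom_units [Finite G] : Finite (G →* ℂˣ) :=
  Finite.of_equiv _ (linearEquiv G).symm

theorem card_monoidHom_units [Finite G] : Nat.card (G →* ℂˣ) = (commutator G).index := by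
  classical
  haveI : NeZero (Monoid.exponent (Abelianization G) : ℂ) :=
    ⟨Nat.cast_ne_zero.mpr Monoid.exponent_ne_zero_of_finite⟩
  have h : (Abelianization G →* ℂˣ) ≃ (G →* ℂˣ) := Abelianization.lift.symm
  rw [← Nat.card_congr h, CommGroup.card_monoidHom_of_hasEnoughRootsOfUnity (Abelianization G) ℂ]
  rfl

theorem card_degree_one [Finite G] :
    Nat.card {χ : IrrCharacter G // (χ : G → ℂ) 1 = 1} = (commutator G).index := by
  rw [← Nat.card_congr (linearEquiv G), card_monoidHom_units]

/-- A nonperfect finite group has a nontrivial linear character. -/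
theorem exists_nontrivial_hom [Finite G] (h : commutator G ≠ ⊤) : ∃ lam : G →* ℂˣ, lam ≠ 1 := by
  by_contra hne
  push Not at hne
  have h1 : Nat.card (G →* ℂˣ) = 1 := by
    haveI : Subsingleton (G →* ℂˣ) := ⟨fun a b => by rw [hne a, hne b]⟩
    exact Nat.card_unique
  rw [card_monoidHom_units, Subgroup.index_eq_one] at h1
  exact h h1

end CfsgLib.Chars
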