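import Cfsg.Agent.Lib.Chars.Char

/-!
# Kernels of characters and inflation
-/

set_option autoImplicit false
set_option linter.style.haveILetI false

namespace CfsgLib.Chars

open Module Cfsg

universe u v

variable {G : Type u} [Group G]

/-- Inflation of an irreducible character from a quotient. -/
theorem isIrrCharacter_inflate (N : Subgroup G) [N.Normal] {ψ : G ⧸ N → ℂ}
    (h : IsIrrCharacter (G ⧸ N) ψ) : IsIrrCharacter G (fun g => ψ g) :=
  isIrrCharacter_comp (QuotientGroup.mk' N) (QuotientGroup.mk'_surjective N) h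

theorem inflate_injective (N : Subgroup G) [N.Normal] {ψ ψ' : G ⧸ N → ℂ}
    (h : (fun g : G => ψ g) = fun g : G => ψ' g) : ψ = ψ' := by
  funext q
  obtain ⟨g, rfl⟩ := QuotientGroup.mk_surjective q
  exact congrFun h g

theorem ker_iff [Finite G] {χ : G → ℂ} {n : ℕ} (ρ : Representation ℂ G (Fin n → ℂ))
    (hρ : ρ.character = χ) (g : G) : χ g = χ 1 ↔ ρ g = 1 := by
  subst hρ
  rw [Representation.char_one, Module.End.one_eq_id]
  exact character_eq_finrank_iff ρ g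

/-- Deflation: an irreducible character trivial on `N` comes from `G ⧸ N`. -/
theorem exists_deflate_irr [Finite G] (N : Subgroup G) [N.Normal] {χ : G → ℂ}
    (h : IsIrrCharacter G χ) (hN : ∀ x ∈ N, χ x = χ 1) :
    ∃ ψ : G ⧸ N → ℂ, IsIrrCharacter (G ⧸ N) ψ ∧ χ = fun g : G => ψ g := by
  obtain ⟨n, ρ, hρ, rfl⟩ := h
  have hle : N ≤ MonoidHom.ker ρ := fun x hx => (ker_iff ρ rfl x).mp (hN x hx)
  let σ : Representation ℂ (G ⧸ N) (Fin n → ℂ) := QuotientGroup.lift N ρ hle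
  haveI : σ.IsIrreducible := by
    rw [isIrreducible_iff] at hρ ⊢
    exact ⟨hρ.1, fun U hU => hρ.2 U fun g x hx => hU (g : G ⧸ N) x hx⟩
  exact ⟨σ.character, isIrrCharacter_character σ, rfl⟩

/-- Deflation: a character trivial on `N` comes from `G ⧸ N`. -/
theorem exists_deflate [Finite G] (N : Subgroup G) [N.Normal] {χ : G → ℂ}
    (h : IsCharacter G χ) (hN : ∀ x ∈ N, χ x = χ 1) :
    ∃ ψ : G ⧸ N → ℂ, IsCharacter (G ⧸ N) ψ ∧ χ = fun g : G => ψ g := by
  obtain ⟨n, ρ, rfl⟩ := h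
  have hle : N ≤ MonoidHom.ker ρ := fun x hx => (ker_iff ρ rfl x).mp (hN x hx)
  let σ : Representation ℂ (G ⧸ N) (Fin n → ℂ) := QuotientGroup.lift N ρ hle
  exact ⟨σ.character, ⟨n, σ, rfl⟩, rfl⟩

/-- The irreducible characters of `G ⧸ N` are those of `G` trivial on `N`. -/
noncomputable def quotientIrrEquiv [Finite G] (N : Subgroup G) [N.Normal] :
    IrrCharacter (G ⧸ N) ≃ {χ : IrrCharacter G // ∀ x ∈ N, (χ : G → ℂ) x = (χ : G → ℂ) 1} :=
  Equiv.ofBijective
    (fun ψ => ⟨⟨fun g => (ψ : G ⧸ N → ℂ) g, isIrrCharacter_inflate N ψ.2⟩, fun x hx => by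
      show (ψ : G ⧸ N → ℂ) x = (ψ : G ⧸ N → ℂ) ((1 : G) : G ⧸ N)
      rw [(QuotientGroup.eq_one_iff x).mpr hx, QuotientGroup.mk_one]⟩)
    ⟨fun a b h => Subtype.ext (inflate_injective N
        (congrArg (fun x => ((x.1 : IrrCharacter G) : G → ℂ)) h)),
      fun ⟨χ, hχ⟩ => by
        obtain ⟨ψ, hψ, h⟩ := exists_deflate_irr N χ.2 hχ
        exact ⟨⟨ψ, hψ⟩, Subtype.ext (Subtype.ext h.symm)⟩⟩

/-- Elements in all kernels of irreducible characters are trivial. -/
theorem eq_one_of_forall_irr [Finite G] {g : G}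
    (h : ∀ χ : IrrCharacter G, (χ : G → ℂ) g = (χ : G → ℂ) 1) : g = 1 :=
  (isConj_one_right.mp ((isConj_iff_forall_irr (1 : G) g).mpr fun χ => (h χ).symm))

end CfsgLib.Chars
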