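import Cfsg.Agent.Lib.Chars.Induction
import Cfsg.Agent.Lib.Chars.Integral

/-!
# Degree divides the index of the centre; degree bounded by the index of an abelian subgroup
-/

set_option autoImplicit false
set_option linter.style.haveILetI false

namespace CfsgLib.Chars

open Module Cfsg
open scoped ComplexConjugate

universe u v

variable {G : Type u} [Group G] [Finite G]
variable {V : Type v} [AddCommGroup V] [Module ℂ V] [FiniteDimensional ℂ V]

/-- The degree divides the index of any subgroup acting by scalars. -/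
theorem finrank_dvd_index_of_scalar (ρ : Representation ℂ G V) [ρ.IsIrreducible] (Z : Subgroup G)
    (hZ : ∀ z ∈ Z, ∃ c : ℂ, ρ z = c • (LinearMap.id : V →ₗ[ℂ] V)) : finrank ℂ V ∣ Z.index := by
  classical
  haveI := Fintype.ofFinite G
  haveI := nontrivial_of_isIrreducible ρ
  have hnpos := finrank_pos_of_isIrreducible ρ
  have hn : (finrank ℂ V : ℂ) ≠ 0 := Nat.cast_ne_zero.mpr hnpos.ne'
  have hpair : ∀ g : G, ∀ z ∈ Z, conj (ρ.character (g * z)) • ρ (g * z) =
      conj (ρ.character g) • ρ g := by
    intro g z hz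
    obtain ⟨c, hc⟩ := hZ z hz
    have hc1 : c * conj c = 1 := by
      have h1 : ρ.character z = c * (finrank ℂ V : ℂ) := by
        simp [Representation.character, hc, LinearMap.trace_id]
      obtain ⟨b, μ, -, hμn, hb, -, -, -⟩ := exists_eigenbasis_rep ρ z
      have i : Fin (finrank ℂ V) := ⟨0, hnpos⟩
      have h2 := hb i
      rw [hc] at h2
      have h3 : c = μ i := smul_left_injective ℂ (b.ne_zero i) (by simpa using h2)
      rw [h3, Complex.mul_conj, Complex.normSq_eq_norm_sq, hμn i]
      simp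
    have h1 : ρ (g * z) = c • ρ g := by rw [map_mul, hc]; ext; simp
    have h2 : ρ.character (g * z) = c * ρ.character g := by simp [Representation.character, h1]
    rw [h1, h2, map_mul, smul_smul]
    congr 1
    rw [mul_comm, ← mul_assoc, hc1, one_mul]
  obtain ⟨c, hc, hc'⟩ := avgOp_eq_scalar ρ (isClassFunction_character ρ)
  rw [inner_self_irr, mul_one] at hc'
  haveI := Fintype.ofFinite (G ⧸ Z)
  haveI := Fintype.ofFinite Z
  have hsum : avgOp ρ ρ.character =
      (Nat.card Z : ℂ) • ∑ q : G ⧸ Z, conj (ρ.character q.out) • ρ q.out := by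
    have h1 : avgOp ρ ρ.character = ∑ g : G, conj (ρ.character g) • ρ g := by
      rw [avgOp]
      refine Fintype.sum_equiv (Equiv.inv G) _ _ fun g => ?_
      simp [character_inv]
    rw [h1, Finset.smul_sum, ← Finset.sum_fiberwise Finset.univ (fun g : G => (g : G ⧸ Z))]
    refine Finset.sum_congr rfl fun q _ => ?_
    rw [Finset.sum_congr rfl (g := fun _ => conj (ρ.character q.out) • ρ q.out) (fun g hg => by
      have hgq : (g : G ⧸ Z) = q := (Finset.mem_filter.mp hg).2
      have hz : q.out⁻¹ * g ∈ Z := by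
        rw [← QuotientGroup.eq, QuotientGroup.out_eq', hgq]
      have := hpair q.out _ hz
      simpa using this), Finset.sum_const, ← Fintype.card_subtype, ← Nat.cast_smul_eq_nsmul ℂ]
    congr 2
    rw [Nat.card_eq_fintype_card]
    exact Fintype.card_congr ((Equiv.mulLeft q.out⁻¹).subtypeEquiv fun g => by
      simp [← QuotientGroup.eq, eq_comm])
  have hZ0 : (Nat.card Z : ℂ) ≠ 0 := Nat.cast_ne_zero.mpr Nat.card_pos.ne'
  refine dvd_of_isIntegral_div hnpos.ne' ?_
  have hq : ((Z.index : ℂ) / (finrank ℂ V : ℂ)) = c / (Nat.card Z : ℂ) := by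
    rw [div_eq_div_iff hn hZ0, hc', ← Nat.cast_mul, Z.index_mul_card]
  rw [hq]
  refine isIntegral_of_sum_eq_scalar ρ
    (fun g => if (g : G ⧸ Z).out = g then ρ.character g⁻¹ else 0) (fun g => ?_) _ ?_
  · by_cases hg : (g : G ⧸ Z).out = g
    · simp only [if_pos hg]; exact isIntegral_character ρ g⁻¹
    · simp only [if_neg hg]; exact isIntegral_zero
  · simp only [ite_smul, zero_smul, ← Finset.sum_filter]
    have h1 : ∑ g ∈ Finset.univ.filter (fun g : G => (g : G ⧸ Z).out = g),
        ρ.character g⁻¹ • ρ g = ∑ q : G ⧸ Z, conj (ρ.character q.out) • ρ q.out := by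
      refine Finset.sum_nbij' (fun g => (g : G ⧸ Z)) (fun q => q.out) (by simp)
        (fun q _ => by simp) (fun g hg => (Finset.mem_filter.mp hg).2) (fun q _ => by simp)
        fun g hg => ?_
      rw [(Finset.mem_filter.mp hg).2, character_inv]
    rw [h1]
    have h2 := hsum.symm.trans hc
    calc ∑ q : G ⧸ Z, conj (ρ.character q.out) • ρ q.out
        = (Nat.card Z : ℂ)⁻¹ • ((Nat.card Z : ℂ) •
            ∑ q : G ⧸ Z, conj (ρ.character q.out) • ρ q.out) := by
          rw [smul_smul, inv_mul_cancel₀ hZ0, one_smul]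
      _ = _ := by rw [h2, smul_smul, div_eq_inv_mul]

omit [Finite G] in
/-- Schur: central elements act by scalars. -/
theorem exists_scalar_of_mem_center (ρ : Representation ℂ G V) [ρ.IsIrreducible] (z : G)
    (hz : z ∈ Subgroup.center G) : ∃ c : ℂ, ρ z = c • (LinearMap.id : V →ₗ[ℂ] V) := by
  let T : ρ.IntertwiningMap ρ :=
    LinearMap.intertwiningMap_of_isIntertwiningMap ρ ρ (ρ z) (fun g x => by
      rw [← Module.End.mul_apply, ← map_mul, ← Subgroup.mem_center_iff.mp hz g, map_mul,
        Module.End.mul_apply])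
  obtain ⟨c, hc⟩ :=
    (Representation.IsIrreducible.algebraMap_intertwiningMap_bijective_of_isAlgClosed (ρ := ρ)).2 T
  refine ⟨c, LinearMap.ext fun x => ?_⟩
  have h2 : T x = (algebraMap ℂ (ρ.IntertwiningMap ρ) c) x := by rw [hc]
  simpa [T] using h2

/-- The degree divides the index of the centre. -/
theorem finrank_dvd_index_center (ρ : Representation ℂ G V) [ρ.IsIrreducible] :
    finrank ℂ V ∣ (Subgroup.center G).index :=
  finrank_dvd_index_of_scalar ρ _ fun z hz => exists_scalar_of_mem_center ρ z hz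

omit [FiniteDimensional ℂ V] in
/-- A constituent has degree at most the degree of the character. -/
theorem re_le_of_inner_ne_zero [Fintype G] {χ φ : G → ℂ} (hχ : IsIrrCharacter G χ)
    (hφ : IsCharacter G φ) (h : classInner φ χ ≠ 0) : (χ 1).re ≤ (φ 1).re := by
  classical
  haveI := irrFintype G
  have h1 := congrFun (classFun_eq_sum (isClassFunction_of_isCharacter hφ)) 1
  rw [h1, Finset.sum_apply, Complex.re_sum]
  have hnn : ∀ ψ : IrrCharacter G, ∃ m n : ℕ,
      (classInner φ ψ • (ψ : G → ℂ)) 1 = ((m * n : ℕ) : ℂ) ∧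
      classInner φ ψ = m ∧ (ψ : G → ℂ) 1 = n := by
    intro ψ
    obtain ⟨m, hm⟩ := inner_irr_right_nat hφ ψ
    obtain ⟨n, -, hn⟩ := irr_degree_nat ψ.2
    exact ⟨m, n, by simp [hm, hn], hm, hn⟩
  refine le_trans ?_ (Finset.single_le_sum (fun ψ _ => ?_) (Finset.mem_univ ⟨χ, hχ⟩))
  · obtain ⟨m, n, h2, hm, hn⟩ := hnn ⟨χ, hχ⟩
    rw [h2, show χ 1 = n from hn, Complex.natCast_re, Complex.natCast_re, Nat.cast_le]
    refine Nat.le_mul_of_pos_left n (Nat.pos_of_ne_zero fun h0 => h ?_)
    rw [show classInner φ χ = m from hm, h0, Nat.cast_zero]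
  · obtain ⟨m, n, h2, -, -⟩ := hnn ψ
    rw [h2, Complex.natCast_re]
    positivity

omit [Finite G] in
theorem irr_abelian_degree {A : Type u} [Group A] (hA : ∀ a b : A, a * b = b * a)
    {θ : A → ℂ} (hθ : IsIrrCharacter A θ) : θ 1 = 1 := by
  obtain ⟨n, ρ, hρ, rfl⟩ := hθ
  haveI : IsMulCommutative A := ⟨⟨hA⟩⟩
  rw [Representation.char_one, Representation.IsIrreducible.finrank_eq_one_of_isMulCommutative ρ,
    Nat.cast_one]

/-- The degree is at most the index of an abelian subgroup. -/
theorem finrank_le_index_of_abelian (ρ : Representation ℂ G V) [ρ.IsIrreducible] (A : Subgroup G)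
    (hA : ∀ a ∈ A, ∀ b ∈ A, a * b = b * a) : finrank ℂ V ≤ A.index := by
  classical
  haveI := Fintype.ofFinite G
  haveI := Fintype.ofFinite A
  have hχ := isCharacter_character ρ
  have hne : (fun a : A => ρ.character a) ≠ 0 := fun h0 => by
    have := congrFun h0 1
    simp [(finrank_pos_of_isIrreducible ρ).ne'] at this
  obtain ⟨θ, hθ⟩ := exists_constituent (isCharacter_restrict A hχ) hne
  have h1 : classInner (indFun A θ) ρ.character ≠ 0 := by
    rw [inner_indFun A _ (isClassFunction_character ρ), ← inner_conj]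
    exact (map_ne_zero _).mpr hθ
  have h2 := re_le_of_inner_ne_zero (isIrrCharacter_character ρ)
    (isCharacter_indFun A (isCharacter_of_irr θ.2)) h1
  rw [Representation.char_one, indFun_one_apply,
    irr_abelian_degree (fun a b => Subtype.ext (hA a a.2 b b.2)) θ.2, mul_one, Complex.natCast_re,
    Complex.natCast_re, Nat.cast_le] at h2
  exact h2

end CfsgLib.Chars
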