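import Cfsg.Agent.Lib.Chars.Char

/-!
# Induced class functions, Frobenius reciprocity
-/

set_option autoImplicit false
set_option linter.style.haveILetI false

namespace CfsgLib.Chars

open Module Cfsg
open scoped ComplexConjugate

universe u

variable {G : Type u} [Group G]

theorem extendByZero_of_mem (H : Subgroup G) (θ : H → ℂ) {x : G} (hx : x ∈ H) :
    extendByZero H θ x = θ ⟨x, hx⟩ :=
  Subtype.val_injective.extend_apply θ 0 ⟨x, hx⟩

theorem extendByZero_coe (H : Subgroup G) (θ : H → ℂ) (x : H) :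
    extendByZero H θ (x : G) = θ x := Subtype.val_injective.extend_apply θ 0 x

theorem extendByZero_of_not_mem (H : Subgroup G) (θ : H → ℂ) {x : G} (hx : x ∉ H) :
    extendByZero H θ x = 0 :=
  Function.extend_apply' _ _ _ (fun ⟨a, ha⟩ => hx (ha ▸ a.2))

theorem extendByZero_add (H : Subgroup G) (θ η : H → ℂ) (x : G) :
    extendByZero H (θ + η) x = extendByZero H θ x + extendByZero H η x := by
  by_cases hx : x ∈ H <;> simp [extendByZero_of_mem, extendByZero_of_not_mem, hx]

theorem extendByZero_smul (H : Subgroup G) (c : ℂ) (θ : H → ℂ) (x : G) :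
    extendByZero H (c • θ) x = c * extendByZero H θ x := by
  by_cases hx : x ∈ H <;> simp [extendByZero_of_mem, extendByZero_of_not_mem, hx]

/-- Sum of a function supported on a subgroup. -/
theorem sum_extendByZero_mul [Fintype G] (H : Subgroup G) [Fintype H] (θ : H → ℂ) (F : G → ℂ) :
    ∑ x : G, extendByZero H θ x * F x = ∑ h : H, θ h * F h := by
  classical
  rw [← Finset.sum_filter_add_sum_filter_not Finset.univ (fun x => x ∈ H)]
  have h0 : ∑ x ∈ Finset.univ.filter (fun x => x ∉ H), extendByZero H θ x * F x = 0 :=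
    Finset.sum_eq_zero fun x hx => by
      rw [extendByZero_of_not_mem H θ (Finset.mem_filter.mp hx).2, zero_mul]
  rw [h0, add_zero, Finset.sum_subtype (p := fun x => x ∈ H) _ (by simp)]
  exact Finset.sum_congr rfl fun h _ => by rw [extendByZero_coe]

variable [Fintype G] (H : Subgroup G)

theorem indFun_apply (θ : H → ℂ) (g : G) :
    indFun H θ g = (Nat.card H : ℂ)⁻¹ * ∑ x : G, extendByZero H θ (x⁻¹ * g * x) := rfl

theorem isClassFunction_indFun (θ : H → ℂ) : IsClassFunction G (indFun H θ) := by
  intro g h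
  rw [indFun_apply, indFun_apply]
  refine congrArg _ ?_
  refine Fintype.sum_equiv (Equiv.mulLeft h⁻¹) _ _ fun x => ?_
  simp [mul_assoc]

theorem indFun_add (θ η : H → ℂ) : indFun H (θ + η) = indFun H θ + indFun H η := by
  funext g
  simp [indFun_apply, extendByZero_add, Finset.sum_add_distrib, mul_add]

theorem indFun_smul (c : ℂ) (θ : H → ℂ) : indFun H (c • θ) = c • indFun H θ := by
  funext g
  simp [indFun_apply, extendByZero_smul, ← Finset.mul_sum]
  ring

theorem indFun_zero : indFun H (0 : H → ℂ) = 0 := by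
  simpa using indFun_smul H 0 (0 : H → ℂ)

theorem indFun_sub (θ η : H → ℂ) : indFun H (θ - η) = indFun H θ - indFun H η := by
  have h : θ - η = θ + (-1 : ℂ) • η := by simp [sub_eq_add_neg]
  rw [h, indFun_add, indFun_smul]
  simp [sub_eq_add_neg]

theorem indFun_sum {ι : Type*} (s : Finset ι) (θ : ι → H → ℂ) :
    indFun H (∑ i ∈ s, θ i) = ∑ i ∈ s, indFun H (θ i) := by
  classical
  induction s using Finset.induction_on with
  | empty => simp [indFun_zero]
  | insert a s ha ih => rw [Finset.sum_insert ha, Finset.sum_insert ha, indFun_add, ih]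

theorem indFun_one_apply (θ : H → ℂ) : indFun H θ 1 = (H.index : ℂ) * θ 1 := by
  rw [indFun_apply]
  simp only [mul_one, inv_mul_cancel, extendByZero_of_mem H θ H.one_mem, Finset.sum_const,
    Finset.card_univ, nsmul_eq_mul, ← Nat.card_eq_fintype_card]
  rw [← mul_assoc, ← H.index_mul_card, Nat.cast_mul, mul_comm (H.index : ℂ), ← mul_assoc,
    inv_mul_cancel₀ (Nat.cast_ne_zero.mpr Nat.card_pos.ne'), one_mul]
  rfl

/-- Frobenius reciprocity. -/
theorem inner_indFun [Fintype H] (θ : H → ℂ) {χ : G → ℂ} (hχ : IsClassFunction G χ) :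
    classInner (indFun H θ) χ = classInner θ (fun h : H => χ h) := by
  rw [inner_def, inner_def]
  simp only [indFun_apply, mul_assoc, Finset.sum_mul, ← Finset.mul_sum]
  rw [Finset.sum_comm]
  have h1 : ∀ x : G, ∑ g : G, extendByZero H θ (x⁻¹ * (g * x)) * conj (χ g) =
      ∑ h : H, θ h * conj (χ h) := by
    intro x
    rw [← sum_extendByZero_mul H θ (fun g => conj (χ g))]
    refine Fintype.sum_equiv (MulAut.conj x⁻¹).toEquiv _ _ fun g => ?_
    have : χ (x⁻¹ * (g * x)) = χ g := by simpa [mul_assoc] using hχ g x⁻¹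
    simp [mul_assoc, this]
  rw [Finset.sum_congr rfl (fun x _ => h1 x), Finset.sum_const, Finset.card_univ, nsmul_eq_mul,
    ← Nat.card_eq_fintype_card]
  field_simp [card_ne_zero G]

/-- Frobenius reciprocity, with the class function in the first slot. -/
theorem inner_indFun_right [Fintype H] (θ : H → ℂ) {χ : G → ℂ} (hχ : IsClassFunction G χ) :
    classInner χ (indFun H θ) = classInner (fun h : H => χ h) θ := by
  rw [← inner_conj, inner_indFun H θ hχ, inner_conj]

/-- Induced characters are characters. -/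
theorem isCharacter_indFun {θ : H → ℂ} (hθ : IsCharacter H θ) : IsCharacter G (indFun H θ) := by
  classical
  haveI := Fintype.ofFinite H
  refine isCharacter_iff_inner.mpr ⟨isClassFunction_indFun H θ, fun χ => ?_⟩
  obtain ⟨m, hm⟩ := inner_char_nat hθ (isCharacter_restrict H (isCharacter_of_irr χ.2))
  exact ⟨m, by rw [inner_indFun H θ (isClassFunction_irr χ), hm]⟩

theorem isGeneralized_indFun {θ : H → ℂ} (hθ : IsGeneralizedCharacter H θ) :
    IsGeneralizedCharacter G (indFun H θ) := by
  obtain ⟨χ, ψ, h1, h2, rfl⟩ := hθ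
  exact ⟨_, _, isCharacter_indFun H h1, isCharacter_indFun H h2, indFun_sub H χ ψ⟩

omit [Fintype G] in
theorem isClassFunction_restrict {χ : G → ℂ} (hχ : IsClassFunction G χ) :
    IsClassFunction H (fun h : H => χ h) := fun g h => by simpa using hχ (g : G) h

/-- Inducing the product of a restricted class function and a function. -/
theorem indFun_mul_restrict (θ : H → ℂ) {χ : G → ℂ} (hχ : IsClassFunction G χ) :
    indFun H (fun h => χ h * θ h) = fun g => χ g * indFun H θ g := by
  funext g
  rw [indFun_apply, indFun_apply, mul_left_comm, Finset.mul_sum _ _ (χ g)]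
  refine congrArg _ (Finset.sum_congr rfl fun x _ => ?_)
  by_cases hx : x⁻¹ * g * x ∈ H
  · rw [extendByZero_of_mem _ _ hx, extendByZero_of_mem _ _ hx]
    congr 1
    simpa using hχ g x⁻¹
  · rw [extendByZero_of_not_mem _ _ hx, extendByZero_of_not_mem _ _ hx, mul_zero]

/-- Induction is transitive. -/
theorem indFun_trans (H K : Subgroup G) [Fintype K] (hHK : H ≤ K) (θ : H → ℂ) :
    indFun K (indFun (H.subgroupOf K)
      (fun x => θ ⟨(x : K), Subgroup.mem_subgroupOf.mp x.2⟩)) = indFun H θ := by
  classical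
  funext g
  let θ' : H.subgroupOf K → ℂ := fun x => θ ⟨(x : K), Subgroup.mem_subgroupOf.mp x.2⟩
  have hcard : Nat.card (H.subgroupOf K) = Nat.card H :=
    Nat.card_congr (Subgroup.subgroupOfEquivOfLe hHK).toEquiv
  have hext : ∀ y : G, extendByZero K (indFun (H.subgroupOf K) θ') y =
      (Nat.card H : ℂ)⁻¹ * ∑ k : K, extendByZero H θ ((k : G)⁻¹ * y * k) := by
    intro y
    by_cases hy : y ∈ K
    · rw [extendByZero_of_mem K _ hy, indFun_apply, hcard]
      refine congrArg _ (Finset.sum_congr rfl fun k _ => ?_)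
      by_cases hk : (k : G)⁻¹ * y * k ∈ H
      · have hk' : k⁻¹ * ⟨y, hy⟩ * k ∈ H.subgroupOf K := by
          rw [Subgroup.mem_subgroupOf]; simpa using hk
        rw [extendByZero_of_mem _ _ hk', extendByZero_of_mem _ _ hk]
        rfl
      · rw [extendByZero_of_not_mem _ _ hk, extendByZero_of_not_mem]
        intro h
        rw [Subgroup.mem_subgroupOf] at h
        exact hk (by simpa using h)
    · rw [extendByZero_of_not_mem K _ hy]
      have hz : ∀ k : K, extendByZero H θ ((k : G)⁻¹ * y * k) = 0 := fun k =>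
        extendByZero_of_not_mem _ _ fun h => hy (by
          have h2 := K.mul_mem (K.mul_mem k.2 (hHK h)) (K.inv_mem k.2)
          simpa [mul_assoc] using h2)
      simp [hz]
  change indFun K (indFun (H.subgroupOf K) θ') g = _
  rw [indFun_apply, indFun_apply]
  simp only [hext, ← Finset.mul_sum]
  rw [Finset.sum_comm]
  have h1 : ∀ k : K, ∑ x : G, extendByZero H θ ((k : G)⁻¹ * (x⁻¹ * g * x) * k) =
      ∑ x : G, extendByZero H θ (x⁻¹ * g * x) := fun k =>
    Fintype.sum_equiv (Equiv.mulRight (k : G)) _ _ fun x => by simp [mul_assoc]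
  rw [Finset.sum_congr rfl (fun k _ => h1 k), Finset.sum_const, Finset.card_univ, nsmul_eq_mul,
    ← Nat.card_eq_fintype_card]
  field_simp [(Nat.cast_ne_zero.mpr Nat.card_pos.ne' : (Nat.card K : ℂ) ≠ 0)]

/-- The permutation character of a transitive action is induced from a point stabiliser. -/
theorem indFun_stabilizer_one {X : Type*} [MulAction G X] [Finite X]
    [MulAction.IsPretransitive G X] (x : X) :
    indFun (MulAction.stabilizer G x) (fun _ => (1 : ℂ)) =
      fun g : G => (Nat.card (MulAction.fixedBy X g) : ℂ) := by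
  classical
  haveI := Fintype.ofFinite X
  funext g
  rw [indFun_apply]
  have h1 : ∀ y : G, extendByZero (MulAction.stabilizer G x) (fun _ => (1 : ℂ)) (y⁻¹ * g * y) =
      if g • (y • x) = y • x then 1 else 0 := by
    intro y
    by_cases hy : y⁻¹ * g * y ∈ MulAction.stabilizer G x
    · rw [extendByZero_of_mem _ _ hy, if_pos]
      rw [MulAction.mem_stabilizer_iff, mul_smul, mul_smul, inv_smul_eq_iff] at hy
      exact hy
    · rw [extendByZero_of_not_mem _ _ hy, if_neg]
      intro h
      exact hy (by rw [MulAction.mem_stabilizer_iff, mul_smul, mul_smul, h, inv_smul_smul])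
  rw [Finset.sum_congr rfl (fun y _ => h1 y), ← Finset.sum_fiberwise Finset.univ (fun y => y • x)]
  have h2 : ∀ z : X, ∑ y ∈ Finset.univ.filter (fun y : G => y • x = z),
      (if g • (y • x) = y • x then (1 : ℂ) else 0) =
      (Nat.card (MulAction.stabilizer G x) : ℂ) * (if g • z = z then 1 else 0) := by
    intro z
    rw [Finset.sum_congr rfl (g := fun _ : G => (if g • z = z then (1 : ℂ) else 0)) (fun y hy => by
      rw [(Finset.mem_filter.mp hy).2]), Finset.sum_const, nsmul_eq_mul]
    congr 1
    obtain ⟨y₀, rfl⟩ := MulAction.exists_smul_eq G x z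
    rw [Nat.card_eq_fintype_card, ← Fintype.card_subtype]
    norm_cast
    exact Fintype.card_congr ((Equiv.mulLeft y₀⁻¹).subtypeEquiv fun y => by
      simp [MulAction.mem_stabilizer_iff, mul_smul, inv_smul_eq_iff])
  rw [Finset.sum_congr rfl (fun z _ => h2 z), ← Finset.mul_sum, ← mul_assoc,
    inv_mul_cancel₀ (Nat.cast_ne_zero.mpr Nat.card_pos.ne'), one_mul, Finset.sum_boole,
    Nat.card_eq_fintype_card]
  congr 1
  exact (Fintype.card_subtype _).symm

/-- Values of an induced class function on a trivial intersection set. -/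
theorem indFun_TI_apply (T : Set G) (N : Subgroup G)
    (hTI : ∀ g : G, g ∉ N → ∀ t ∈ T, g * t * g⁻¹ ∈ T → t = 1) {ψ : N → ℂ}
    (hψ : IsClassFunction N ψ) (hψT : ∀ x : N, (x : G) ∉ T → ψ x = 0)
    (t : N) (htT : (t : G) ∈ T) (ht1 : t ≠ 1) : indFun N ψ t = ψ t := by
  classical
  rw [indFun_apply]
  have h1 : ∀ x : G, extendByZero N ψ (x⁻¹ * t * x) = if x ∈ N then ψ t else 0 := by
    intro x
    by_cases hx : x ∈ N
    · rw [if_pos hx, extendByZero_of_mem N ψ (N.mul_mem (N.mul_mem (N.inv_mem hx) t.2) hx)]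
      rw [← hψ t ⟨x⁻¹, N.inv_mem hx⟩]
      congr 1
      ext; simp
    · rw [if_neg hx]
      by_cases hm : x⁻¹ * t * x ∈ N
      · rw [extendByZero_of_mem N ψ hm]
        refine hψT _ fun hT => ht1 ?_
        have := hTI x⁻¹ (fun h => hx (by simpa using N.inv_mem h)) t htT (by simpa using hT)
        exact Subtype.ext this
      · rw [extendByZero_of_not_mem _ _ hm]
  rw [Finset.sum_congr rfl (fun x _ => h1 x), ← Finset.sum_filter, Finset.sum_const, nsmul_eq_mul,
    ← Fintype.card_subtype, ← Nat.card_eq_fintype_card, ← mul_assoc]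
  change (Nat.card N : ℂ)⁻¹ * (Nat.card N : ℂ) * ψ t = ψ t
  rw [inv_mul_cancel₀ (Nat.cast_ne_zero.mpr Nat.card_pos.ne'), one_mul]

/-- Induction from the normaliser of a trivial intersection set is an isometry. -/
theorem inner_indFun_TI (T : Set G) (N : Subgroup G) [Fintype N]
    (hTI : ∀ g : G, g ∉ N → ∀ t ∈ T, g * t * g⁻¹ ∈ T → t = 1) {ψ θ : N → ℂ}
    (hθ : IsClassFunction N θ)
    (hψT : ∀ x : N, (x : G) ∉ T → ψ x = 0) (hθT : ∀ x : N, (x : G) ∉ T → θ x = 0)
    (hψ1 : ψ 1 = 0) :
    classInner (indFun N ψ) (indFun N θ) = classInner ψ θ := by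
  rw [inner_indFun N ψ (isClassFunction_indFun N θ), inner_def, inner_def]
  refine congrArg _ (Finset.sum_congr rfl fun x _ => ?_)
  by_cases hx : (x : G) ∈ T
  · by_cases h1 : x = 1
    · subst h1; simp [hψ1]
    · rw [indFun_TI_apply T N hTI hθ hθT x hx h1]
  · simp [hψT x hx]

end CfsgLib.Chars
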