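import Cfsg.Agent.Lib.Chars.MonSpan
import Cfsg.Agent.Lib.Chars.Integral

/-!
# Characters of full `p`-degree vanish on `p`-singular elements
-/

set_option autoImplicit false
set_option linter.style.haveILetI false

namespace CfsgLib.Chars

open Module Cfsg
open scoped ComplexConjugate

universe u

variable {G : Type u} [Group G]

/-- A nilpotent group splits into its Sylow `p`-subgroup and the subgroup of `p'`-elements. -/
theorem exists_pRegular_subgroup {E : Type u} [Group E] [Finite E] [Group.IsNilpotent E]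
    {p : ℕ} [Fact p.Prime] (P : Sylow p E) :
    ∃ Q : Subgroup E, (∀ e, e ∈ Q ↔ ¬ p ∣ orderOf e) ∧ ¬ p ∣ Nat.card Q ∧
      Nat.card Q * Nat.card P = Nat.card E ∧ ∀ e ∈ Q, ∀ x ∈ (P : Subgroup E), e * x = x * e := by
  classical
  have hnorm : ∀ (q : ℕ) [Fact q.Prime] (R : Sylow q E), (R : Subgroup E).Normal := fun q _ R =>
    ((Group.isNilpotent_of_finite_tfae (G := E)).out 0 3 rfl rfl).mp inferInstance q inferInstance R
  haveI : (P : Subgroup E).Normal := hnorm p P
  let C : Subgroup E := Subgroup.centralizer ((P : Subgroup E) : Set E)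
  have hCidx : ∀ q : ℕ, q.Prime → q ∣ C.index → q = p := by
    intro q hq hd
    by_contra hne
    haveI := Fact.mk hq
    obtain ⟨R⟩ : Nonempty (Sylow q E) := inferInstance
    haveI : (R : Subgroup E).Normal := hnorm q R
    have hle : (R : Subgroup E) ≤ C := by
      intro r hr
      rw [Subgroup.mem_centralizer_iff]
      intro x hx
      exact Subgroup.commute_of_normal_of_disjoint (P : Subgroup E) (R : Subgroup E) inferInstance
        inferInstance (IsPGroup.disjoint_of_ne p q (fun h => hne h.symm) _ _ P.2 R.2) x r hx hr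
    exact R.not_dvd_index (hd.trans (Subgroup.index_dvd_of_le hle))
  haveI : C.Normal := inferInstance
  have hcomm : ∀ e : E, ¬ p ∣ orderOf e → e ∈ C := by
    intro e he
    have h1 : orderOf (e : E ⧸ C) ∣ orderOf e :=
      orderOf_dvd_of_pow_eq_one (by rw [← QuotientGroup.mk_pow, pow_orderOf_eq_one]; rfl)
    have h2 : orderOf (e : E ⧸ C) ∣ C.index := by
      rw [Subgroup.index_eq_card]; exact orderOf_dvd_natCard _
    rw [← QuotientGroup.eq_one_iff, ← orderOf_eq_one_iff]
    by_contra hne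
    obtain ⟨q, hq, hqd⟩ := Nat.exists_prime_and_dvd hne
    exact he (hCidx q hq (hqd.trans h2) ▸ hqd.trans h1)
  have hcop : Nat.Coprime (Nat.card P) (P : Subgroup E).index := P.card_coprime_index
  obtain ⟨Q, hQ⟩ := Subgroup.exists_right_complement'_of_coprime hcop
  have hQP : ¬ p ∣ Nat.card Q := by
    rw [← hQ.symm.index_eq_card]
    exact P.not_dvd_index
  have hmem : ∀ e ∈ Q, ¬ p ∣ orderOf e := fun e he hd => hQP (hd.trans (by
    rw [← Subgroup.orderOf_mk e he]; exact orderOf_dvd_natCard _))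
  have hQcomm : ∀ e ∈ Q, ∀ x ∈ (P : Subgroup E), e * x = x * e := fun e he x hx =>
    (Subgroup.mem_centralizer_iff.mp (hcomm e (hmem e he)) x hx).symm
  haveI hQn : Q.Normal := by
    refine ⟨fun y hy g => ?_⟩
    have hg : g ∈ (P : Subgroup E) ⊔ Q := hQ.sup_eq_top ▸ Subgroup.mem_top g
    obtain ⟨x, hx, q, hq, rfl⟩ := Subgroup.mem_sup_of_normal_left.mp hg
    have h1 : q * y * q⁻¹ ∈ Q := Q.mul_mem (Q.mul_mem hq hy) (Q.inv_mem hq)
    have h2 : x * q * y * (x * q)⁻¹ = q * y * q⁻¹ := by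
      calc x * q * y * (x * q)⁻¹ = x * (q * y * q⁻¹) * x⁻¹ := by simp [mul_assoc]
        _ = q * y * q⁻¹ := by rw [← hQcomm _ h1 x hx, mul_inv_cancel_right]
    rw [h2]
    exact h1
  refine ⟨Q, fun e => ⟨hmem e, fun he => ?_⟩, hQP, ?_, hQcomm⟩
  · rw [← QuotientGroup.eq_one_iff, ← orderOf_eq_one_iff]
    have h1 : orderOf (e : E ⧸ Q) ∣ orderOf e :=
      orderOf_dvd_of_pow_eq_one (by rw [← QuotientGroup.mk_pow, pow_orderOf_eq_one]; rfl)
    have h2 : orderOf (e : E ⧸ Q) ∣ Nat.card P := by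
      rw [← hQ.index_eq_card, Subgroup.index_eq_card]; exact orderOf_dvd_natCard _
    obtain ⟨k, hk⟩ := IsPGroup.iff_card.mp P.2
    rw [hk] at h2
    obtain ⟨j, -, hj⟩ := (Nat.dvd_prime_pow (Fact.out : p.Prime)).mp h2
    rcases Nat.eq_zero_or_pos j with h0 | h0
    · rw [hj, h0, pow_zero]
    · exact absurd ((dvd_pow_self p h0.ne').trans (hj ▸ h1)) he
  · rw [mul_comm]
    exact hQ.card_mul_card

variable [Fintype G]

/-- The `p`-regular part of a character of full `p`-degree is a generalized character. -/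
theorem isGeneralized_regularPart {χ : G → ℂ} (hχ : IsIrrCharacter G χ) {p n d : ℕ}
    (hp : p.Prime) (hd : χ 1 = (d : ℂ)) (hn' : ¬ p ^ (n + 1) ∣ Nat.card G) (hdeg : p ^ n ∣ d) :
    IsGeneralizedCharacter G (fun x => if p ∣ orderOf x then 0 else χ x) := by
  classical
  haveI := Fact.mk hp
  obtain ⟨d', hd0, hd', hdvd⟩ := irr_degree_dvd_card hχ
  have hdd : d' = d := by exact_mod_cast hd'.symm.trans hd
  subst hdd
  obtain ⟨b, hb⟩ := hdvd
  have hpb : ¬ p ∣ b := fun h => hn' (by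
    rw [hb, pow_succ]; exact Nat.mul_dvd_mul hdeg h)
  have hcl := isClassFunction_of_isCharacter (isCharacter_of_irr hχ)
  refine CharsMore.isGeneralized_of_elementary (fun g h => ?_) fun E r hr hE => ?_
  · have : orderOf (h * g * h⁻¹) = orderOf g :=
      orderOf_injective (MulAut.conj h).toMonoidHom (MulAut.conj h).injective g
    simp only [this, hcl g h]
  haveI := Fintype.ofFinite E
  haveI : Group.IsNilpotent E := isNilpotent_of_isElementary hr hE
  obtain ⟨P⟩ : Nonempty (Sylow p E) := inferInstance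
  obtain ⟨Q, hQ, hQp, hcard, hQc⟩ := exists_pRegular_subgroup P
  haveI := Fintype.ofFinite Q
  refine isGeneralized_iff_inner.mpr ⟨fun g h => ?_, fun ψ => ?_⟩
  · have : orderOf ((h * g * h⁻¹ : E) : G) = orderOf (g : G) := by
      rw [Subgroup.orderOf_coe, Subgroup.orderOf_coe]
      exact orderOf_injective (MulAut.conj h).toMonoidHom (MulAut.conj h).injective g
    simp only [this]
    have h2 : χ ((h * g * h⁻¹ : E) : G) = χ (g : G) := by simpa using hcl (g : G) h
    simp only [h2]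
  obtain ⟨m, hm⟩ := inner_char_nat
    (isCharacter_restrict Q (isCharacter_restrict E (isCharacter_of_irr hχ)))
    (isCharacter_restrict Q (isCharacter_of_irr ψ.2))
  set S := ∑ q : Q, χ ((q : E) : G) * conj ((ψ : E → ℂ) q) with hS
  have hsum : ∑ e : E, (if p ∣ orderOf (e : G) then 0 else χ e) * conj ((ψ : E → ℂ) e) = S := by
    rw [hS, ← Finset.sum_filter_add_sum_filter_not Finset.univ (fun e : E => e ∈ Q)]
    have h0 : ∑ e ∈ Finset.univ.filter (fun e : E => e ∉ Q),
        (if p ∣ orderOf (e : G) then 0 else χ e) * conj ((ψ : E → ℂ) e) = 0 :=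
      Finset.sum_eq_zero fun e he => by
        have h1 : p ∣ orderOf (e : G) := by
          rw [Subgroup.orderOf_coe]
          exact not_not.mp fun h => (Finset.mem_filter.mp he).2 ((hQ e).mpr h)
        simp only [if_pos h1, zero_mul]
    rw [h0, add_zero, Finset.sum_subtype (p := fun e : E => e ∈ Q) _ (by simp)]
    refine Finset.sum_congr rfl fun q _ => ?_
    have h1 : ¬ p ∣ orderOf ((q : E) : G) := by rw [Subgroup.orderOf_coe]; exact (hQ q).mp q.2
    simp only [if_neg h1]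
  have hS' : S = (Nat.card Q : ℂ) * m := by
    rw [← hm, inner_def, ← mul_assoc, mul_inv_cancel₀ (card_ne_zero Q), one_mul]
  -- integrality of the values, divided by the order of the Sylow subgroup
  have hterm : ∀ q : Q, IsIntegral ℤ ((b : ℂ) * χ ((q : E) : G) / (Nat.card P : ℂ)) := by
    intro q
    have hle : (P : Subgroup E).map E.subtype ≤ Subgroup.centralizer ({((q : E) : G)} : Set G) := by
      rintro - ⟨x, hx, rfl⟩
      rw [Subgroup.mem_centralizer_singleton_iff]
      exact (congrArg Subtype.val (hQc q q.2 x hx)).symm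
    obtain ⟨t, ht⟩ := Subgroup.card_dvd_of_le hle
    rw [Subgroup.card_map_of_injective E.subtype_injective] at ht
    have h1 := irr_isIntegral_centralChar hχ ((q : E) : G)
    have h2 : (b : ℂ) * χ ((q : E) : G) / (Nat.card P : ℂ) = (t : ℂ) *
        ((Nat.card {x : G // IsConj ((q : E) : G) x} : ℂ) * χ ((q : E) : G) / χ 1) := by
      have hP : (Nat.card P : ℂ) ≠ 0 := Nat.cast_ne_zero.mpr Nat.card_pos.ne'
      have hd1 : (d' : ℂ) ≠ 0 := Nat.cast_ne_zero.mpr hd0.ne'
      have e0 := card_isConj_mul_card_centralizer ((q : E) : G)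
      rw [ht, hb] at e0
      have e1 : (Nat.card {x : G // IsConj ((q : E) : G) x} : ℂ) * ((Nat.card P : ℂ) * t) =
          (d' : ℂ) * b := by exact_mod_cast e0
      rw [hd, mul_div_assoc', div_eq_div_iff hP hd1]
      linear_combination (-χ ((q : E) : G)) * e1
    rw [h2]
    exact (isIntegral_natCast t).mul h1
  have hint : IsIntegral ℤ ((((b * Nat.card Q * m : ℕ) : ℂ)) / (Nat.card P : ℂ)) := by
    have h1 : (((b * Nat.card Q * m : ℕ) : ℂ)) / (Nat.card P : ℂ) =
        ∑ q : Q, ((b : ℂ) * χ ((q : E) : G) / (Nat.card P : ℂ)) * conj ((ψ : E → ℂ) q) := by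
      rw [Nat.cast_mul, Nat.cast_mul, mul_assoc (b : ℂ), ← hS', hS, Finset.mul_sum, Finset.sum_div]
      exact Finset.sum_congr rfl fun q _ => by ring
    rw [h1]
    exact IsIntegral.sum _ fun q _ =>
      (hterm q).mul (char_isIntegral (isCharacter_of_irr (isIrrCharacter_conj ψ.2)) q)
  have hdiv : Nat.card P ∣ m := by
    have h1 := dvd_of_isIntegral_div Nat.card_pos.ne' hint
    obtain ⟨k, hk⟩ := IsPGroup.iff_card.mp P.2
    refine Nat.Coprime.dvd_of_dvd_mul_left ?_ h1
    rw [hk]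
    exact Nat.Coprime.pow_left k (Nat.Coprime.mul_right ((Nat.Prime.coprime_iff_not_dvd hp).mpr hpb)
      ((Nat.Prime.coprime_iff_not_dvd hp).mpr hQp))
  obtain ⟨z, hz⟩ := hdiv
  refine ⟨(z : ℤ), ?_⟩
  rw [inner_def, hsum, hS', hz, ← hcard, Nat.cast_mul, Nat.cast_mul]
  have hQ0 := card_ne_zero Q
  have hP0 : (Nat.card P : ℂ) ≠ 0 := Nat.cast_ne_zero.mpr Nat.card_pos.ne'
  push_cast
  field_simp

/-- A character of full `p`-degree vanishes on `p`-singular elements. -/
theorem eq_zero_of_dvd_orderOf {χ : G → ℂ} (hχ : IsIrrCharacter G χ) {p n d : ℕ}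
    (hp : p.Prime) (hd : χ 1 = (d : ℂ)) (hn' : ¬ p ^ (n + 1) ∣ Nat.card G) (hdeg : p ^ n ∣ d)
    {x : G} (hx : p ∣ orderOf x) : χ x = 0 := by
  classical
  obtain ⟨m, hm⟩ := (isGeneralized_iff_inner.mp
    (isGeneralized_regularPart hχ hp hd hn' hdeg)).2 ⟨χ, hχ⟩
  have h1 : classInner (fun y => if p ∣ orderOf y then (0 : ℂ) else χ y) χ =
      (((Nat.card G : ℝ)⁻¹ * ∑ y : G, (if p ∣ orderOf y then 0 else ‖χ y‖ ^ 2) : ℝ) : ℂ) := by
    rw [inner_def]
    push_cast
    refine congrArg _ (Finset.sum_congr rfl fun y _ => ?_)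
    by_cases hy : p ∣ orderOf y
    · simp [hy]
    · simp [hy, Complex.mul_conj, Complex.normSq_eq_norm_sq]
  have hle : ∀ y ∈ (Finset.univ : Finset G),
      (if p ∣ orderOf y then 0 else ‖χ y‖ ^ 2) ≤ ‖χ y‖ ^ 2 := fun y _ => by
    by_cases hy : p ∣ orderOf y <;> simp [hy]
  have hfull : (Nat.card G : ℝ)⁻¹ * ∑ y : G, ‖χ y‖ ^ 2 = 1 := by
    have h := inner_irr_self ⟨χ, hχ⟩
    rw [inner_self_eq] at h
    exact_mod_cast h
  have hG : (0 : ℝ) < (Nat.card G : ℝ)⁻¹ :=
    inv_pos.mpr (Nat.cast_pos.mpr Nat.card_pos)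
  have hm' : (m : ℝ) = (Nat.card G : ℝ)⁻¹ * ∑ y : G, (if p ∣ orderOf y then 0 else ‖χ y‖ ^ 2) := by
    exact_mod_cast hm.symm.trans h1
  have hpos : (0 : ℝ) < (m : ℝ) := by
    rw [hm']
    refine mul_pos hG (Finset.sum_pos' (fun y _ => ?_) ⟨1, Finset.mem_univ _, ?_⟩)
    · by_cases hy : p ∣ orderOf y <;> simp [hy]
    · have : ¬ p ∣ orderOf (1 : G) := by rw [orderOf_one]; exact hp.not_dvd_one
      simp only [if_neg this]
      exact pow_pos (norm_pos_iff.mpr (irr_degree_ne_zero hχ)) 2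
  have hone : (1 : ℝ) ≤ (m : ℝ) := by
    exact_mod_cast (Int.cast_pos.mp hpos : (0 : ℤ) < m)
  have heq : ∑ y : G, (if p ∣ orderOf y then 0 else ‖χ y‖ ^ 2) = ∑ y : G, ‖χ y‖ ^ 2 := by
    refine le_antisymm (Finset.sum_le_sum hle) ?_
    refine le_of_mul_le_mul_left ?_ hG
    rw [hfull, ← hm']
    exact hone
  have h2 := (Finset.sum_eq_sum_iff_of_le hle).mp heq x (Finset.mem_univ x)
  rw [if_pos hx] at h2
  simpa using h2.symm

end CfsgLib.Chars
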