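import Cfsg.Agent.Lib.Chars.Misc

/-!
# Permutation characters, double transitivity
-/

set_option autoImplicit false
set_option linter.style.haveILetI false

namespace CfsgLib.Chars

open Module Cfsg
open scoped ComplexConjugate

universe u v

variable {G : Type u} [Group G] {X : Type v} [MulAction G X] [Finite X]

theorem isCharacter_fixedBy : IsCharacter G (fun g : G => (Nat.card (MulAction.fixedBy X g) : ℂ)) := by
  haveI := Fintype.ofFinite X
  have h : (fun g : G => (Nat.card (MulAction.fixedBy X g) : ℂ)) = (permRep G X).character :=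
    funext fun g => (character_permRep g).symm
  rw [h]
  exact isCharacter_character _

variable [Fintype G]

/-- The average number of fixed points is the number of orbits. -/
theorem inner_fixedBy_one :
    classInner (fun g : G => (Nat.card (MulAction.fixedBy X g) : ℂ)) (fun _ => 1) =
      (Nat.card (MulAction.orbitRel.Quotient G X) : ℂ) := by
  classical
  haveI := Fintype.ofFinite X
  haveI := Fintype.ofFinite (MulAction.orbitRel.Quotient G X)
  have h := MulAction.sum_card_fixedBy_eq_card_orbits_mul_card_group G X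
  rw [inner_def, Nat.card_eq_fintype_card (α := MulAction.orbitRel.Quotient G X)]
  simp only [map_one, mul_one, Nat.card_eq_fintype_card]
  have h' : (∑ g : G, (Fintype.card (MulAction.fixedBy X g) : ℂ)) =
      (Fintype.card (MulAction.orbitRel.Quotient G X) : ℂ) * (Fintype.card G : ℂ) := by
    exact_mod_cast h
  rw [h', mul_comm _ (Fintype.card G : ℂ), inv_mul_cancel_left₀]
  exact_mod_cast Fintype.card_ne_zero

omit [Fintype G] in
/-- Two orbits of the stabiliser mean double transitivity. -/
theorem card_orbits_stabilizer_eq_two_iff [MulAction.IsPretransitive G X] (hX : 2 ≤ Nat.card X)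
    (x : X) : Nat.card (MulAction.orbitRel.Quotient (MulAction.stabilizer G x) X) = 2 ↔
      MulAction.IsMultiplyPretransitive G X 2 := by
  classical
  have hmk : ∀ a b : X, (Quotient.mk'' a : MulAction.orbitRel.Quotient (MulAction.stabilizer G x) X)
      = Quotient.mk'' b ↔ ∃ h : MulAction.stabilizer G x, h • b = a := fun a b => by
    rw [Quotient.eq'', MulAction.orbitRel_apply, MulAction.mem_orbit_iff]
  obtain ⟨y, hy⟩ : ∃ y, y ≠ x := by
    haveI : Nontrivial X := Finite.one_lt_card_iff_nontrivial.mp hX
    exact exists_ne x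
  have hx_ne : ∀ a : X, a ≠ x →
      (Quotient.mk'' a : MulAction.orbitRel.Quotient (MulAction.stabilizer G x) X) ≠ Quotient.mk'' x := by
    intro a ha h
    obtain ⟨h', hh⟩ := (hmk a x).mp h
    exact ha (hh.symm.trans h'.2)
  rw [MulAction.is_two_pretransitive_iff]
  constructor
  · intro h2 a b c d hab hcd
    have key : ∀ p : X, p ≠ x → ∃ h : MulAction.stabilizer G x, h • y = p := by
      intro p hp
      rw [← hmk]
      rw [Nat.card_eq_two_iff' (Quotient.mk'' x :
        MulAction.orbitRel.Quotient (MulAction.stabilizer G x) X)] at h2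
      exact h2.unique (hx_ne p hp) (hx_ne y hy)
    obtain ⟨g1, hg1⟩ := MulAction.exists_smul_eq G a x
    obtain ⟨g2, hg2⟩ := MulAction.exists_smul_eq G c x
    obtain ⟨k1, hk1⟩ := key (g1 • b) (fun h => hab (smul_left_cancel g1 (hg1.trans h.symm)))
    obtain ⟨k2, hk2⟩ := key (g2 • d) (fun h => hcd (smul_left_cancel g2 (hg2.trans h.symm)))
    refine ⟨g2⁻¹ * (k2 : G) * (k1 : G)⁻¹ * g1, ?_, ?_⟩
    · simp only [mul_smul, hg1]
      rw [show (k1 : G)⁻¹ • x = x from (MulAction.stabilizer G x).inv_mem k1.2,
        show (k2 : G) • x = x from k2.2, inv_smul_eq_iff, hg2]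
    · simp only [mul_smul]
      rw [show g1 • b = (k1 : G) • y from hk1.symm, inv_smul_smul,
        show (k2 : G) • y = g2 • d from hk2, inv_smul_smul]
  · intro h2
    rw [Nat.card_eq_two_iff' (Quotient.mk'' x :
      MulAction.orbitRel.Quotient (MulAction.stabilizer G x) X)]
    refine ⟨Quotient.mk'' y, hx_ne y hy, fun q hq => ?_⟩
    obtain ⟨p, rfl⟩ := Quotient.mk''_surjective q
    obtain ⟨g, hg1, hg2⟩ := h2 (Ne.symm hy) (fun h : x = p => hq (h ▸ rfl))
    exact (hmk p y).mpr ⟨⟨g, hg1⟩, hg2⟩

theorem inner_fixedBy_self [MulAction.IsPretransitive G X] (x : X) :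
    classInner (fun g : G => (Nat.card (MulAction.fixedBy X g) : ℂ))
      (fun g : G => (Nat.card (MulAction.fixedBy X g) : ℂ)) =
      (Nat.card (MulAction.orbitRel.Quotient (MulAction.stabilizer G x) X) : ℂ) := by
  classical
  haveI := Fintype.ofFinite (MulAction.stabilizer G x)
  conv_lhs => arg 2; rw [← indFun_stabilizer_one x]
  rw [inner_indFun_right (MulAction.stabilizer G x) _
    (isClassFunction_of_isCharacter isCharacter_fixedBy)]
  exact inner_fixedBy_one (G := MulAction.stabilizer G x) (X := X)

/-- `π - 1` is irreducible exactly for doubly transitive actions. -/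
theorem isIrr_fixedBy_sub_one_iff [MulAction.IsPretransitive G X] (hX : 2 ≤ Nat.card X) :
    IsIrrCharacter G (fun g : G => (Nat.card (MulAction.fixedBy X g) : ℂ) - 1) ↔
      MulAction.IsMultiplyPretransitive G X 2 := by
  classical
  obtain ⟨x⟩ : Nonempty X := (Nat.card_pos_iff.mp (by omega)).1
  rw [← card_orbits_stabilizer_eq_two_iff hX x, isIrrCharacter_iff_inner_self]
  set π := fun g : G => (Nat.card (MulAction.fixedBy X g) : ℂ) with hπ
  have hfun : (fun g : G => (Nat.card (MulAction.fixedBy X g) : ℂ) - 1) = π - fun _ => 1 := rfl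
  rw [hfun]
  have horb : Nat.card (MulAction.orbitRel.Quotient G X) = 1 := by
    rw [Nat.card_eq_one_iff_unique]
    refine ⟨⟨fun a b => ?_⟩, ⟨Quotient.mk'' x⟩⟩
    obtain ⟨a, rfl⟩ := Quotient.mk''_surjective a
    obtain ⟨b, rfl⟩ := Quotient.mk''_surjective b
    rw [Quotient.eq'', MulAction.orbitRel_apply, MulAction.mem_orbit_iff]
    exact MulAction.exists_smul_eq G b a
  have h1 : classInner π (fun _ => 1) = 1 := by rw [hπ, inner_fixedBy_one, horb, Nat.cast_one]
  have h1' : classInner (fun _ => (1 : ℂ)) π = 1 := by rw [← inner_conj, h1, map_one]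
  have h2 : classInner (π - fun _ => 1) (π - fun _ => 1) =
      (Nat.card (MulAction.orbitRel.Quotient (MulAction.stabilizer G x) X) : ℂ) - 1 := by
    rw [inner_sub_left, inner_sub_right, inner_sub_right, h1, h1', inner_one_one, hπ,
      inner_fixedBy_self x]
    ring
  rw [h2, sub_eq_iff_eq_add]
  refine ⟨fun h => ?_, fun h => ⟨?_, by rw [h]; norm_num⟩⟩
  · have h3 := h.2
    norm_num at h3
    exact_mod_cast h3
  refine isCharacter_iff_inner.mpr ⟨isClassFunction_sub (isClassFunction_of_isCharacter
    (show IsCharacter G π from isCharacter_fixedBy)) (isClassFunction_of_isCharacter isCharacter_one),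
    fun χ => ?_⟩
  obtain ⟨m, hm⟩ := inner_irr_right_nat (show IsCharacter G π from isCharacter_fixedBy) χ
  by_cases hχ : χ = principal G
  · subst hχ
    refine ⟨0, ?_⟩
    rw [inner_sub_left]
    show classInner π (fun _ => 1) - classInner (fun _ : G => (1 : ℂ)) (fun _ => 1) = _
    rw [h1, inner_one_one]; simp
  · refine ⟨m, ?_⟩
    rw [inner_sub_left, hm,
      show classInner (fun _ : G => (1 : ℂ)) (χ : G → ℂ) = 0 from
        inner_irr_ne (χ := principal G) (fun h => hχ h.symm), sub_zero]

end CfsgLib.Chars
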