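import Cfsg.Agent.Lib.Chars.Char

/-!
# Irreducible characters of direct products
-/

set_option autoImplicit false
set_option linter.style.haveILetI false

namespace CfsgLib.Chars

open Module Cfsg
open scoped ComplexConjugate

universe u v

variable {G : Type u} [Group G] {H : Type v} [Group H]

theorem inner_prod [Fintype G] [Fintype H] (φ φ' : G → ℂ) (ψ ψ' : H → ℂ) :
    classInner (fun x : G × H => φ x.1 * ψ x.2) (fun x => φ' x.1 * ψ' x.2) =
      classInner φ φ' * classInner ψ ψ' := by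
  simp only [inner_def, Nat.card_prod, Nat.cast_mul, mul_inv, map_mul, Fintype.sum_prod_type,
    Finset.mul_sum, Finset.sum_mul]
  rw [Finset.sum_comm]
  refine Finset.sum_congr rfl fun a _ => Finset.sum_congr rfl fun b _ => ?_
  ring

theorem isIrrCharacter_prod [Finite G] [Finite H] {φ : G → ℂ} {ψ : H → ℂ}
    (hφ : IsIrrCharacter G φ) (hψ : IsIrrCharacter H ψ) :
    IsIrrCharacter (G × H) (fun x => φ x.1 * ψ x.2) := by
  haveI := Fintype.ofFinite G
  haveI := Fintype.ofFinite H
  refine isIrrCharacter_iff_inner_self.mpr ⟨isCharacter_mul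
    (isCharacter_comp (MonoidHom.fst G H) (isCharacter_of_irr hφ))
    (isCharacter_comp (MonoidHom.snd G H) (isCharacter_of_irr hψ)), ?_⟩
  rw [inner_prod, inner_irr_self ⟨φ, hφ⟩, inner_irr_self ⟨ψ, hψ⟩, one_mul]

theorem card_conjClasses_prod (G : Type u) [Group G] (H : Type v) [Group H] :
    Nat.card (ConjClasses (G × H)) = Nat.card (ConjClasses G) * Nat.card (ConjClasses H) := by
  rw [← Nat.card_prod]
  refine Nat.card_congr (Equiv.ofBijective
    (fun C => (ConjClasses.map (MonoidHom.fst G H) C, ConjClasses.map (MonoidHom.snd G H) C))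
    ⟨fun a b h => ?_, fun ⟨a, b⟩ => ?_⟩)
  · obtain ⟨x, rfl⟩ := ConjClasses.mk_surjective a
    obtain ⟨y, rfl⟩ := ConjClasses.mk_surjective b
    obtain ⟨c, hc⟩ := isConj_iff.mp (ConjClasses.mk_eq_mk_iff_isConj.mp (congrArg Prod.fst h))
    obtain ⟨d, hd⟩ := isConj_iff.mp (ConjClasses.mk_eq_mk_iff_isConj.mp (congrArg Prod.snd h))
    exact ConjClasses.mk_eq_mk_iff_isConj.mpr (isConj_iff.mpr ⟨(c, d), Prod.ext hc hd⟩)
  · obtain ⟨x, rfl⟩ := ConjClasses.mk_surjective a
    obtain ⟨y, rfl⟩ := ConjClasses.mk_surjective b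
    exact ⟨ConjClasses.mk (x, y), rfl⟩

/-- The irreducible characters of a direct product are the products. -/
theorem isIrrCharacter_prod_iff [Finite G] [Finite H] (θ : G × H → ℂ) :
    IsIrrCharacter (G × H) θ ↔ ∃ (φ : G → ℂ) (ψ : H → ℂ),
      IsIrrCharacter G φ ∧ IsIrrCharacter H ψ ∧ θ = fun x => φ x.1 * ψ x.2 := by
  classical
  refine ⟨fun hθ => ?_, fun ⟨φ, ψ, h1, h2, h⟩ => h ▸ isIrrCharacter_prod h1 h2⟩
  haveI := Fintype.ofFinite G
  haveI := Fintype.ofFinite H
  let F : IrrCharacter G × IrrCharacter H → IrrCharacter (G × H) :=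
    fun p => ⟨fun x => (p.1 : G → ℂ) x.1 * (p.2 : H → ℂ) x.2, isIrrCharacter_prod p.1.2 p.2.2⟩
  have hinj : Function.Injective F := by
    rintro ⟨a, b⟩ ⟨a', b'⟩ h
    have h1 : classInner (fun x : G × H => (a : G → ℂ) x.1 * (b : H → ℂ) x.2)
        (fun x : G × H => (a' : G → ℂ) x.1 * (b' : H → ℂ) x.2) = 1 := by
      have := inner_irr_self (F (a', b'))
      nth_rw 1 [← h] at this
      exact this
    rw [inner_prod, inner_irr, inner_irr] at h1
    split at h1
    · split at h1
      · subst_vars; rfl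
      · simp at h1
    · simp at h1
  have hbij := hinj.bijective_of_nat_card_le (by
    rw [Nat.card_prod, card_irr_eq_card_classes, card_irr_eq_card_classes,
      card_irr_eq_card_classes, card_conjClasses_prod])
  obtain ⟨⟨a, b⟩, hab⟩ := hbij.2 ⟨θ, hθ⟩
  exact ⟨a, b, a.2, b.2, (congrArg Subtype.val hab).symm⟩

end CfsgLib.Chars
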