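import Cfsg.Agent.Lib.Chars.Monomial
import Cfsg.Agent.Lib.CharApps.Galois

/-!
# Artin's and Brauer's induction theorems in list form
-/

set_option autoImplicit false
set_option linter.style.haveILetI false

namespace CfsgLib.Chars

open Module Cfsg
open scoped ComplexConjugate

universe u

variable {G : Type u} [Group G] [Fintype G]

/-- Integer combinations of characters induced from linear characters of subgroups satisfying `P`. -/
def monSpan (P : Subgroup G → Prop) : AddSubgroup (G → ℂ) :=
  AddSubgroup.closure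
    {f | ∃ (H : Subgroup G) (lam : H →* ℂˣ), P H ∧ f = indFun H (fun h => (lam h : ℂ))}

theorem exists_list_of_mem_monSpan {P : Subgroup G → Prop} {f : G → ℂ} (hf : f ∈ monSpan P) :
    ∃ l : List ((H : Subgroup G) × ((H →* ℂˣ) × ℤ)), (∀ t ∈ l, P t.1) ∧
      f = (l.map fun t => (t.2.2 : ℂ) • indFun t.1 (fun e => (t.2.1 e : ℂ))).sum := by
  induction hf using AddSubgroup.closure_induction with
  | mem f hf =>
    obtain ⟨H, lam, hP, rfl⟩ := hf
    exact ⟨[⟨H, lam, 1⟩], by simpa using hP, by simp⟩
  | zero => exact ⟨[], by simp, by simp⟩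
  | add x y _ _ hx hy =>
    obtain ⟨l, hl, rfl⟩ := hx
    obtain ⟨m, hm, rfl⟩ := hy
    exact ⟨l ++ m, fun t ht => (List.mem_append.mp ht).elim (hl t) (hm t), by simp⟩
  | neg x _ hx =>
    obtain ⟨l, hl, rfl⟩ := hx
    refine ⟨l.map fun t => ⟨t.1, t.2.1, -t.2.2⟩, fun t ht => ?_, ?_⟩
    · obtain ⟨s, hs, rfl⟩ := List.mem_map.mp ht
      exact hl s hs
    · rw [List.map_map]
      have hgoal : ∀ l : List ((H : Subgroup G) × ((H →* ℂˣ) × ℤ)),
          -(l.map fun t => (t.2.2 : ℂ) • indFun t.1 (fun e => (t.2.1 e : ℂ))).sum =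
          (l.map ((fun t : (H : Subgroup G) × ((H →* ℂˣ) × ℤ) =>
              (t.2.2 : ℂ) • indFun t.1 (fun e => (t.2.1 e : ℂ))) ∘
            fun t : (H : Subgroup G) × ((H →* ℂˣ) × ℤ) =>
              (⟨t.1, t.2.1, -t.2.2⟩ : (H : Subgroup G) × ((H →* ℂˣ) × ℤ)))).sum := by
        intro l
        induction l with
        | nil => simp
        | cons a l ih =>
          rw [List.map_cons, List.map_cons, List.sum_cons, List.sum_cons, neg_add, ih]
          simp
      exact hgoal l

theorem indFun_linear_mem_monSpan {P : Subgroup G → Prop} {H : Subgroup G} (hP : P H)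
    (lam : H →* ℂˣ) : indFun H (fun h => (lam h : ℂ)) ∈ monSpan P :=
  AddSubgroup.subset_closure ⟨H, lam, hP, rfl⟩

/-- Inducing a character of a subgroup all whose irreducible characters are monomial. -/
theorem indFun_mem_monSpan {P : Subgroup G → Prop} {E : Subgroup G} [Fintype E]
    (hmon : ∀ ψ : E → ℂ, IsIrrCharacter E ψ → IsMonomial ψ)
    (hP : ∀ K : Subgroup E, P (K.map E.subtype)) {θ : E → ℂ} (hθ : IsGeneralizedCharacter E θ) :
    indFun E θ ∈ monSpan P := by
  classical
  haveI := irrFintype E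
  obtain ⟨hc, hm⟩ := isGeneralized_iff_inner.mp hθ
  choose m hm using hm
  rw [classFun_eq_sum hc, indFun_sum]
  refine AddSubgroup.sum_mem _ fun ψ _ => ?_
  rw [indFun_smul, hm ψ, Int.cast_smul_eq_zsmul]
  refine AddSubgroup.zsmul_mem _ ?_ _
  obtain ⟨K, lam, hK⟩ := hmon ψ ψ.2
  rw [hK, CharsMore.indFun_map_subtype]
  exact indFun_linear_mem_monSpan (hP K)
    (lam.comp (K.equivMapOfInjective E.subtype E.subtype_injective).symm.toMonoidHom)

omit [Fintype G] in
theorem isNilpotent_of_isElementary [Finite G] {p : ℕ} (hp : p.Prime) (h : IsElementary p G) :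
    Group.IsNilpotent G := by
  obtain ⟨x, hx, -, k, hk⟩ := h
  haveI : (Subgroup.zpowers x).Normal := ⟨fun y hy g => by
    obtain ⟨i, rfl⟩ := Subgroup.mem_zpowers_iff.mp hy
    have h2 : g * x ^ i * g⁻¹ = x ^ i := by
      rw [Subgroup.mem_center_iff.mp ((Subgroup.center G).zpow_mem hx i) g, mul_inv_cancel_right]
    rw [h2]
    exact Subgroup.zpow_mem _ (Subgroup.mem_zpowers x) i⟩
  haveI := Fact.mk hp
  have hq : IsPGroup p (G ⧸ Subgroup.zpowers x) := IsPGroup.of_card (n := k) (by
    rw [← Subgroup.index_eq_card, hk])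
  haveI := hq.isNilpotent
  refine Subgroup.isNilpotent_of_ker_le_center (QuotientGroup.mk' (Subgroup.zpowers x)) ?_
  rw [QuotientGroup.ker_mk', Subgroup.zpowers_le]
  exact hx

omit [Fintype G] in
theorem isElementary_subgroup [Finite G] {p : ℕ} (hp : p.Prime) (h : IsElementary p G)
    (H : Subgroup G) : IsElementary p H := by
  obtain ⟨x, hx, hcop, k, hk⟩ := h
  haveI : IsCyclic ↥(Subgroup.zpowers x ⊓ H) :=
    isCyclic_of_injective (Subgroup.inclusion inf_le_left) (Subgroup.inclusion_injective _)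
  obtain ⟨⟨y, hy⟩, hgen⟩ := IsCyclic.exists_generator (α := ↥(Subgroup.zpowers x ⊓ H))
  have hy1 : y ∈ Subgroup.zpowers x := hy.1
  have hyc : y ∈ Subgroup.center G := by
    obtain ⟨i, rfl⟩ := Subgroup.mem_zpowers_iff.mp hy1
    exact (Subgroup.center G).zpow_mem hx i
  refine ⟨⟨y, hy.2⟩, Subgroup.mem_center_iff.mpr fun z => Subtype.ext
    (Subgroup.mem_center_iff.mp hyc z), ?_, ?_⟩
  · rw [Subgroup.orderOf_mk]
    exact Nat.Coprime.coprime_dvd_left (orderOf_dvd_of_mem_zpowers hy1) hcop
  · have hz : Subgroup.zpowers (⟨y, hy.2⟩ : H) = (Subgroup.zpowers x).subgroupOf H := by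
      ext z
      rw [Subgroup.mem_subgroupOf]
      constructor
      · intro hzm
        obtain ⟨i, rfl⟩ := Subgroup.mem_zpowers_iff.mp hzm
        exact Subgroup.zpow_mem _ hy1 i
      · intro hzm
        obtain ⟨i, hi⟩ := Subgroup.mem_zpowers_iff.mp (hgen ⟨(z : G), hzm, z.2⟩)
        refine Subgroup.mem_zpowers_iff.mpr ⟨i, Subtype.ext ?_⟩
        have := congrArg Subtype.val hi
        simpa using this
    haveI : (Subgroup.zpowers x).Normal := ⟨fun v hv g => by
      obtain ⟨i, rfl⟩ := Subgroup.mem_zpowers_iff.mp hv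
      have h2 : g * x ^ i * g⁻¹ = x ^ i := by
        rw [Subgroup.mem_center_iff.mp ((Subgroup.center G).zpow_mem hx i) g, mul_inv_cancel_right]
      rw [h2]
      exact Subgroup.zpow_mem _ (Subgroup.mem_zpowers x) i⟩
    have hdvd : (Subgroup.zpowers (⟨y, hy.2⟩ : H)).index ∣ p ^ k := by
      rw [hz, ← hk]
      exact Subgroup.relIndex_dvd_index_of_normal (Subgroup.zpowers x) H
    obtain ⟨j, -, hj⟩ := (Nat.dvd_prime_pow hp).mp hdvd
    exact ⟨j, hj⟩

/-- Brauer's induction theorem. -/
theorem brauer_induction {χ : G → ℂ} (hχ : IsCharacter G χ) :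
    ∃ l : List ((E : Subgroup G) × ((E →* ℂˣ) × ℤ)),
      (∀ t ∈ l, ∃ p : ℕ, p.Prime ∧ IsElementary p t.1) ∧
      χ = (l.map fun t => (t.2.2 : ℂ) • indFun t.1 (fun e => (t.2.1 e : ℂ))).sum := by
  classical
  refine exists_list_of_mem_monSpan (P := fun H => ∃ p : ℕ, p.Prime ∧ IsElementary p H) ?_
  have key : ∀ f ∈ CharsMore.elemSpanAll G,
      χ * f ∈ monSpan (fun H : Subgroup G => ∃ p : ℕ, p.Prime ∧ IsElementary p H) := by
    intro f hf
    induction hf using AddSubgroup.closure_induction with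
    | mem f hf =>
      obtain ⟨E, ψ, p, hp, hE, hψ, rfl⟩ := hf
      have e : χ * indFun E ψ = indFun E ((fun h : E => χ h) * ψ) :=
        (indFun_mul_restrict E ψ (isClassFunction_of_isCharacter hχ)).symm
      rw [e]
      haveI := Fintype.ofFinite E
      haveI := isNilpotent_of_isElementary hp hE
      refine indFun_mem_monSpan (fun ψ hψ => isMonomial_of_nilpotent hψ) (fun K => ?_)
        ⟨_, 0, isCharacter_mul (isCharacter_restrict E hχ) hψ, isCharacter_zero, (sub_zero _).symm⟩
      exact ⟨p, hp, CharsMore.isElementary_of_mulEquiv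
        (K.equivMapOfInjective E.subtype E.subtype_injective) (isElementary_subgroup hp hE K)⟩
    | zero => rw [mul_zero]; exact AddSubgroup.zero_mem _
    | add x y _ _ hx hy => rw [mul_add]; exact AddSubgroup.add_mem _ hx hy
    | neg x _ hx => rw [mul_neg]; exact AddSubgroup.neg_mem _ hx
  have := key _ CharsMore.one_mem_elemSpanAll
  simpa [show χ * (fun _ : G => (1 : ℂ)) = χ from mul_one χ] using this

/-- `|C|` on the generators, zero elsewhere. -/
noncomputable def artinFun (C : Subgroup G) : C → ℂ :=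
  fun c => open scoped Classical in if Subgroup.zpowers (c : G) = C then (Nat.card C : ℂ) else 0

theorem isGeneralized_artinFun (C : Subgroup G) [Fintype C] [IsMulCommutative C] :
    IsGeneralizedCharacter C (artinFun C) := by
  classical
  have hab : ∀ a b : C, a * b = b * a := mul_comm'
  refine isGeneralized_iff_inner.mpr ⟨fun g h => ?_, fun χ => ?_⟩
  · rw [hab h g, mul_inv_cancel_right]
  haveI : NeZero (Nat.card C) := ⟨Nat.card_pos.ne'⟩
  have hval : classInner (artinFun C) (χ : C → ℂ) =
      ∑ c ∈ Finset.univ.filter (fun c : C => Subgroup.zpowers (c : G) = C),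
        conj ((χ : C → ℂ) c) := by
    rw [inner_def, Finset.mul_sum, Finset.sum_filter]
    refine Finset.sum_congr rfl fun c _ => ?_
    by_cases hc : Subgroup.zpowers (c : G) = C
    · simp only [artinFun, if_pos hc]
      rw [← mul_assoc, inv_mul_cancel₀ (card_ne_zero C), one_mul]
    · simp only [artinFun, if_neg hc, zero_mul, mul_zero]
  rw [hval]
  have hconj := isCharacter_of_irr (isIrrCharacter_conj χ.2)
  set x := ∑ c ∈ Finset.univ.filter (fun c : C => Subgroup.zpowers (c : G) = C),
    conj ((χ : C → ℂ) c) with hx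
  have hint : IsIntegral ℤ x := IsIntegral.sum _ fun c _ => char_isIntegral hconj c
  have hmem : x ∈ IntermediateField.adjoin ℚ ({CharApps.rootN (Nat.card C)} : Set ℂ) :=
    sum_mem fun c _ => CharApps.char_mem_cyclo hconj c pow_card_eq_one'
  obtain ⟨m, hm⟩ := CharApps.exists_int_of_rat hint (CharApps.exists_rat_of_fixed hmem
    fun k σ hk hσ => by
      rw [hx, map_sum, Finset.sum_congr rfl
        (fun c _ => CharApps.galois_apply σ hσ hconj c pow_card_eq_one')]
      refine Finset.sum_equiv (powCoprime hk.symm) (fun c => ?_) (fun c _ => rfl)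
      simp only [Finset.mem_filter, Finset.mem_univ, true_and, powCoprime_apply]
      have heq : Subgroup.zpowers ((c ^ k : C) : G) = Subgroup.zpowers (c : G) := by
        rw [SubgroupClass.coe_pow]
        refine le_antisymm (Subgroup.zpowers_le.mpr ((Subgroup.zpowers (c : G)).pow_mem
          (Subgroup.mem_zpowers _) k)) (Subgroup.zpowers_le.mpr ?_)
        have hcop : Nat.Coprime k (orderOf (c : G)) := by
          rw [Subgroup.orderOf_coe]
          exact hk.coprime_dvd_right (orderOf_dvd_natCard c)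
        obtain ⟨r, hr⟩ := exists_pow_eq_self_of_coprime hcop
        exact Subgroup.mem_zpowers_iff.mpr ⟨r, by rw [zpow_natCast]; exact hr⟩
      rw [heq])
  exact ⟨m, hm.symm⟩

/-- Artin's induction theorem. -/
theorem artin_induction {χ : G → ℂ} (hχ : IsCharacter G χ) :
    ∃ l : List ((A : Subgroup G) × ((A →* ℂˣ) × ℤ)), (∀ t ∈ l, IsCyclic t.1) ∧
      (Nat.card G : ℂ) • χ =
        (l.map fun t => (t.2.2 : ℂ) • indFun t.1 (fun a => (t.2.1 a : ℂ))).sum := by
  classical
  refine exists_list_of_mem_monSpan (P := fun H => IsCyclic H) ?_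
  haveI := Fintype.ofFinite (Subgroup G)
  let 𝒞 : Finset (Subgroup G) := Finset.univ.filter (fun C => IsCyclic C)
  have hone : ∑ C ∈ 𝒞, indFun C (artinFun C) = fun _ => (Nat.card G : ℂ) := by
    funext g
    rw [Finset.sum_apply]
    simp only [indFun_apply, Finset.mul_sum]
    rw [Finset.sum_comm]
    have hcol : ∀ x : G, ∑ C ∈ 𝒞,
        (Nat.card C : ℂ)⁻¹ * extendByZero C (artinFun C) (x⁻¹ * g * x) = 1 := by
      intro x
      have hmem : Subgroup.zpowers (x⁻¹ * g * x) ∈ 𝒞 :=
        Finset.mem_filter.mpr ⟨Finset.mem_univ _, inferInstance⟩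
      rw [Finset.sum_eq_single_of_mem _ hmem]
      · rw [extendByZero_of_mem _ _ (Subgroup.mem_zpowers _)]
        simp only [artinFun, if_pos rfl]
        exact inv_mul_cancel₀ (Nat.cast_ne_zero.mpr Nat.card_pos.ne')
      · intro C _ hne
        by_cases hm : x⁻¹ * g * x ∈ C
        · rw [extendByZero_of_mem _ _ hm]
          simp only [artinFun, if_neg (fun h => hne (Eq.symm h)), mul_zero]
        · rw [extendByZero_of_not_mem _ _ hm, mul_zero]
    rw [Finset.sum_congr rfl (fun x _ => hcol x), Finset.sum_const, Finset.card_univ, nsmul_one,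
      Nat.card_eq_fintype_card]
  have h : (Nat.card G : ℂ) • χ = ∑ C ∈ 𝒞, indFun C ((fun c : C => χ c) * artinFun C) := by
    funext g
    rw [Finset.sum_apply]
    have := congrFun hone g
    rw [Finset.sum_apply] at this
    rw [Pi.smul_apply, smul_eq_mul, ← this, Finset.sum_mul]
    refine Finset.sum_congr rfl fun C _ => ?_
    have e := congrFun (indFun_mul_restrict C (artinFun C) (isClassFunction_of_isCharacter hχ)) g
    rw [mul_comm]
    exact e.symm
  rw [h]
  refine AddSubgroup.sum_mem _ fun C hC => ?_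
  haveI : IsCyclic C := (Finset.mem_filter.mp hC).2
  haveI := Fintype.ofFinite C
  letI : CommGroup C := IsCyclic.commGroup
  have hab : ∀ a b : C, a * b = b * a := mul_comm
  haveI : IsMulCommutative C := ⟨⟨hab⟩⟩
  refine indFun_mem_monSpan (fun ψ hψ => isMonomial_of_degree_one (isCharacter_of_irr hψ)
    (irr_abelian_degree hab hψ)) (fun K => isCyclic_of_surjective
      (K.equivMapOfInjective C.subtype C.subtype_injective).toMonoidHom
      (K.equivMapOfInjective C.subtype C.subtype_injective).surjective) ?_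
  obtain ⟨hc, hm⟩ := isGeneralized_iff_inner.mp (isGeneralized_artinFun C)
  obtain ⟨a, b, ha, hb, hab'⟩ := isGeneralized_iff_inner.mpr ⟨hc, hm⟩
  exact ⟨_, _, isCharacter_mul (isCharacter_restrict C hχ) ha,
    isCharacter_mul (isCharacter_restrict C hχ) hb, by rw [hab', mul_sub]⟩

end CfsgLib.Chars
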