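import Cfsg.Agent.Lib.Chars.Induction

/-!
# Virtual characters of norm two and coherent families of differences
-/

set_option autoImplicit false
set_option linter.style.haveILetI false

namespace CfsgLib.Chars

open Module Cfsg
open scoped ComplexConjugate

universe u

variable {G : Type u} [Group G] [Fintype G]

/-- A virtual character of norm two vanishing at the identity is a difference of two
irreducible characters. -/
theorem exists_diff_of_norm_two {θ : G → ℂ} (h : IsGeneralizedCharacter G θ)
    (h2 : classInner θ θ = 2) (h1 : θ 1 = 0) :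
    ∃ a b : IrrCharacter G, a ≠ b ∧ θ = (a : G → ℂ) - b := by
  classical
  haveI := irrFintype G
  obtain ⟨hc, hm⟩ := isGeneralized_iff_inner.mp h
  choose m hm using hm
  have hsum : (∑ χ : IrrCharacter G, m χ * m χ) = 2 := by
    have := inner_eq_sum hc θ
    simp only [hm, h2, map_intCast] at this
    exact_mod_cast this.symm
  have hval : θ = ∑ χ : IrrCharacter G, (m χ : ℂ) • (χ : G → ℂ) := by
    conv_lhs => rw [classFun_eq_sum hc]
    simp only [hm]
  choose d hd hd' using fun χ : IrrCharacter G => irr_degree_nat χ.2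
  have hdeg : (∑ χ : IrrCharacter G, m χ * (d χ : ℤ)) = 0 := by
    have h3 := congrFun hval 1
    rw [h1, Finset.sum_apply] at h3
    simp only [Pi.smul_apply, smul_eq_mul, hd'] at h3
    exact_mod_cast h3.symm
  have hle : ∀ χ, m χ = 0 ∨ m χ = 1 ∨ m χ = -1 := by
    intro χ
    have h4 : m χ * m χ ≤ 2 := by
      rw [← hsum]
      exact Finset.single_le_sum (fun i _ => mul_self_nonneg (m i)) (Finset.mem_univ χ)
    have h5 : -1 ≤ m χ := by nlinarith
    have h6 : m χ ≤ 1 := by nlinarith
    omega
  obtain ⟨a, ha⟩ : ∃ a, m a = 1 := by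
    by_contra hno
    push Not at hno
    have h0 : ∀ χ, m χ = 0 := fun χ => by
      have hnp : ∀ i ∈ (Finset.univ : Finset (IrrCharacter G)), m i * (d i : ℤ) ≤ 0 := fun i _ => by
        rcases hle i with e | e | e <;> simp_all
      have h5 := (Finset.sum_eq_zero_iff_of_nonpos hnp).mp hdeg χ (Finset.mem_univ χ)
      rcases mul_eq_zero.mp h5 with e | e
      · exact e
      · exact absurd (by exact_mod_cast e) (hd χ).ne'
    simp [h0] at hsum
  obtain ⟨b, hb⟩ : ∃ b, m b = -1 := by
    by_contra hno
    push Not at hno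
    have hnn : ∀ i ∈ (Finset.univ : Finset (IrrCharacter G)), 0 ≤ m i * (d i : ℤ) := fun i _ => by
      rcases hle i with e | e | e <;> simp_all
    have h5 := (Finset.sum_eq_zero_iff_of_nonneg hnn).mp hdeg a (Finset.mem_univ a)
    rw [ha, one_mul] at h5
    exact (hd a).ne' (by exact_mod_cast h5)
  have hab : a ≠ b := fun e => by rw [e, hb] at ha; exact absurd ha (by norm_num)
  refine ⟨a, b, hab, ?_⟩
  have hrest : ∀ χ, χ ≠ a ∧ χ ≠ b → m χ = 0 := by
    rintro χ ⟨h3, h4⟩
    by_contra h0
    have h5 : ∑ ψ ∈ ({χ, a, b} : Finset (IrrCharacter G)), m ψ * m ψ ≤ 2 := by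
      rw [← hsum]
      exact Finset.sum_le_sum_of_subset_of_nonneg (Finset.subset_univ _)
        (fun i _ _ => mul_self_nonneg _)
    rw [Finset.sum_insert (by simp [h3, h4]), Finset.sum_pair hab, ha, hb] at h5
    have := mul_self_pos.mpr h0
    omega
  conv_lhs => rw [hval, Fintype.sum_eq_add a b hab (fun χ hχ => by simp [hrest χ hχ]), ha, hb]
  simp [sub_eq_add_neg]

/-- A family with the Gram matrix of the differences `χ_i - χ_0` consists of such differences. -/
theorem coherent_family (n : ℕ) (i₀ : Fin n) (τ : Fin n → (G → ℂ)) (h0 : τ i₀ = 0)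
    (hgen : ∀ i, IsGeneralizedCharacter G (τ i)) (hone : ∀ i, τ i 1 = 0)
    (hgram : ∀ i j, i ≠ i₀ → j ≠ i₀ → classInner (τ i) (τ j) = if i = j then 2 else 1) :
    ∃ ε : ℂ, (ε = 1 ∨ ε = -1) ∧ ∃ μ : Fin n → (G → ℂ), (∀ i, IsIrrCharacter G (μ i)) ∧
      Function.Injective μ ∧ ∀ i, τ i = ε • (μ i - μ i₀) := by
  classical
  by_cases hsingle : ∀ i, i = i₀
  · refine ⟨1, Or.inl rfl, fun _ => (principal G : G → ℂ), fun _ => (principal G).2,
      fun a b _ => (hsingle a).trans (hsingle b).symm, fun i => ?_⟩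
    rw [hsingle i, h0, sub_self, smul_zero]
  push Not at hsingle
  obtain ⟨i₁, hi₁⟩ := hsingle
  have hd : ∀ i, ∃ a b : IrrCharacter G, i ≠ i₀ → a ≠ b ∧ τ i = (a : G → ℂ) - b := by
    intro i
    by_cases hi : i = i₀
    · exact ⟨principal G, principal G, fun h => absurd hi h⟩
    · obtain ⟨a, b, h⟩ := exists_diff_of_norm_two (hgen i) (by rw [hgram i i hi hi, if_pos rfl]) (hone i)
      exact ⟨a, b, fun _ => h⟩
  choose a b hab using hd
  have key : ∀ i j, i ≠ i₀ → j ≠ i₀ → i ≠ j →
      (a i = a j ∧ b i ≠ b j) ∨ (b i = b j ∧ a i ≠ a j) := by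
    intro i j hi hj hij
    have h := hgram i j hi hj
    rw [if_neg hij, (hab i hi).2, (hab j hj).2, inner_sub_left, inner_sub_right, inner_sub_right,
      inner_irr, inner_irr, inner_irr, inner_irr] at h
    by_cases h1 : a i = a j
    · by_cases h2 : b i = b j
      · have h3 : a i ≠ b j := fun e => (hab j hj).1 (h1.symm.trans e)
        have h4 : b i ≠ a j := fun e => (hab i hi).1 (h1.trans e.symm)
        simp [h1, h2, h1 ▸ h3, h2 ▸ h4] at h
      · exact Or.inl ⟨h1, h2⟩
    · by_cases h2 : b i = b j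
      · exact Or.inr ⟨h2, h1⟩
      · exfalso
        rw [if_neg h1, if_neg h2] at h
        have hre := congrArg Complex.re h
        by_cases h3 : a i = b j <;> by_cases h4 : b i = a j <;> simp [h3, h4] at hre <;> linarith
  by_cases hB : ∀ j, j ≠ i₀ → b j = b i₁
  · refine ⟨1, Or.inl rfl, fun i => if i = i₀ then (b i₁ : G → ℂ) else (a i : G → ℂ),
      fun i => ?_, fun i j hij => ?_, fun i => ?_⟩
    · by_cases hi : i = i₀
      · simp only [if_pos hi]; exact (b i₁).2
      · simp only [if_neg hi]; exact (a i).2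
    · by_cases hi : i = i₀ <;> by_cases hj : j = i₀
      · rw [hi, hj]
      · simp only [if_pos hi, if_neg hj] at hij
        exact absurd ((hB j hj).trans (Subtype.ext hij)) (hab j hj).1.symm
      · simp only [if_neg hi, if_pos hj] at hij
        exact absurd ((Subtype.ext hij).trans (hB i hi).symm) (hab i hi).1
      · simp only [if_neg hi, if_neg hj] at hij
        by_contra hne
        rcases key i j hi hj hne with ⟨-, h⟩ | ⟨-, h⟩
        · exact h ((hB i hi).trans (hB j hj).symm)
        · exact h (Subtype.ext hij)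
    · by_cases hi : i = i₀
      · simp [hi, h0]
      · simp [hi, (hab i hi).2, hB i hi]
  · push Not at hB
    obtain ⟨j₁, hj₁, hj₁'⟩ := hB
    have hne₁ : j₁ ≠ i₁ := fun e => hj₁' (by rw [e])
    have haj : a j₁ = a i₁ := by
      rcases key j₁ i₁ hj₁ hi₁ hne₁ with ⟨h, -⟩ | ⟨h, -⟩
      · exact h
      · exact absurd h hj₁'
    have hA : ∀ k, k ≠ i₀ → a k = a i₁ := by
      intro k hk
      by_cases hki : k = i₁
      · rw [hki]
      rcases key k i₁ hk hi₁ hki with ⟨h, -⟩ | ⟨h, h'⟩
      · exact h
      have hkj : k ≠ j₁ := fun e => hj₁' (e ▸ h)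
      rcases key k j₁ hk hj₁ hkj with ⟨e, -⟩ | ⟨e, -⟩
      · exact absurd (e.trans haj) h'
      · exact absurd (e.symm.trans h) hj₁'
    refine ⟨-1, Or.inr rfl, fun i => if i = i₀ then (a i₁ : G → ℂ) else (b i : G → ℂ),
      fun i => ?_, fun i j hij => ?_, fun i => ?_⟩
    · by_cases hi : i = i₀
      · simp only [if_pos hi]; exact (a i₁).2
      · simp only [if_neg hi]; exact (b i).2
    · by_cases hi : i = i₀ <;> by_cases hj : j = i₀
      · rw [hi, hj]
      · simp only [if_pos hi, if_neg hj] at hij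
        exact absurd ((hA j hj).trans (Subtype.ext hij)) (hab j hj).1
      · simp only [if_neg hi, if_pos hj] at hij
        exact absurd ((Subtype.ext hij).trans (hA i hi).symm) (hab i hi).1.symm
      · simp only [if_neg hi, if_neg hj] at hij
        by_contra hne
        rcases key i j hi hj hne with ⟨-, h⟩ | ⟨-, h⟩
        · exact h (Subtype.ext hij)
        · exact h ((hA i hi).trans (hA j hj).symm)
    · by_cases hi : i = i₀
      · simp [hi, h0]
      · simp [hi, (hab i hi).2, hA i hi]

end CfsgLib.Chars
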