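import Cfsg.Agent.Lib.Chars.Permutation
import Cfsg.Agent.Lib.CharsMore.Clifford

/-!
# Characters and classes of a group with a fixed-point-free complement
-/

set_option autoImplicit false
set_option linter.style.haveILetI false

namespace CfsgLib.Chars

open Module Cfsg
open scoped ComplexConjugate

universe u

variable {G : Type u} [Group G] {K H : Subgroup G}

section

variable (hKH : K ⊓ H = ⊥) (hfpf : ∀ h ∈ H, h ≠ 1 → ∀ k ∈ K, h * k = k * h → k = 1)

include hfpf in
theorem fpf_conj_injective {h : G} (hh : h ∈ H) (hne : h ≠ 1) {a b : G} (ha : a ∈ K) (hb : b ∈ K)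
    (e : a * h * a⁻¹ = b * h * b⁻¹) : a = b := by
  have h2 : h * (b⁻¹ * a) = (b⁻¹ * a) * h := by
    have := congrArg (fun y => b⁻¹ * y * a) e
    simpa [mul_assoc] using this.symm
  exact (inv_mul_eq_one.mp (hfpf h hh hne _ (K.mul_mem (K.inv_mem hb) ha) h2)).symm

include hfpf in
/-- Every element of `K h` is conjugate to `h` under `K`. -/
theorem fpf_exists_conj [Finite G] [K.Normal] {h : G} (hh : h ∈ H) (hne : h ≠ 1) {a : G}
    (ha : a ∈ K) : ∃ c ∈ K, c * h * c⁻¹ = a * h := by
  let f : K → K := fun k => ⟨(k : G) * h * (k : G)⁻¹ * h⁻¹, by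
    have := K.mul_mem k.2 (‹K.Normal›.conj_mem _ (K.inv_mem k.2) h)
    simpa [mul_assoc] using this⟩
  have hf : Function.Injective f := fun x y e =>
    Subtype.ext (fpf_conj_injective hfpf hh hne x.2 y.2 (mul_right_cancel (congrArg Subtype.val e)))
  obtain ⟨c, hc⟩ := Finite.surjective_of_injective hf ⟨a, ha⟩
  refine ⟨c, c.2, ?_⟩
  have hc' : (c : G) * h * (c : G)⁻¹ * h⁻¹ = a := congrArg Subtype.val hc
  rw [← hc', inv_mul_cancel_right]

end

/-- Nonprincipal irreducible characters of the kernel induce irreducibly. -/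
theorem isIrr_indFun_of_fpf [Fintype G] [K.Normal] (hKH' : K ⊔ H = ⊤)
    (hfpf : ∀ h ∈ H, h ≠ 1 → ∀ k ∈ K, h * k = k * h → k = 1) {τ : K → ℂ}
    (hτ : IsIrrCharacter K τ) (hτ1 : τ ≠ fun _ => 1) : IsIrrCharacter G (indFun K τ) := by
  classical
  haveI := Fintype.ofFinite K
  have hcl := isClassFunction_of_isCharacter (isCharacter_of_irr hτ)
  have hin : ∀ g : G, g ∈ CharsMore.inertia K τ → g ∈ K := by
    intro g hg
    have hg' : g ∈ K ⊔ H := hKH' ▸ Subgroup.mem_top g
    obtain ⟨a, ha, h, hh, rfl⟩ := Subgroup.mem_sup_of_normal_left.mp hg'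
    by_cases hne : h = 1
    · simpa [hne] using ha
    exfalso
    have hhI : h ∈ CharsMore.inertia K τ :=
      ((CharsMore.inertia K τ).mul_mem_cancel_left (CharsMore.le_inertia K hcl ha)).mp hg
    let α : K ≃* K := MulAut.conjNormal h
    have hfix : (τ : K → ℂ) ∘ α = τ := by
      funext n
      exact (CharsMore.mem_inertia K).mp hhI n
    have hcard := card_fixed_classes_eq_card_fixed_irr α
    haveI : Nontrivial {χ : IrrCharacter K // (χ : K → ℂ) ∘ α = (χ : K → ℂ)} :=
      ⟨⟨⟨⟨τ, hτ⟩, hfix⟩, ⟨principal K, rfl⟩, fun e => hτ1 (congrArg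
        (fun x : {χ : IrrCharacter K // (χ : K → ℂ) ∘ α = (χ : K → ℂ)} => ((x.1 : IrrCharacter K) : K → ℂ)) e)⟩⟩
    have h2 : 1 < Nat.card {C : ConjClasses K // ConjClasses.map α.toMonoidHom C = C} := by
      rw [hcard]; exact Finite.one_lt_card
    haveI := Finite.one_lt_card_iff_nontrivial.mp h2
    obtain ⟨⟨C, hC⟩, hne1⟩ := exists_ne (⟨ConjClasses.mk 1,
      congrArg ConjClasses.mk (map_one α)⟩ : {C : ConjClasses K // ConjClasses.map α.toMonoidHom C = C})
    obtain ⟨k, rfl⟩ := ConjClasses.mk_surjective C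
    have hk : k ≠ 1 := fun e => hne1 (Subtype.ext (congrArg ConjClasses.mk e))
    obtain ⟨b, hb⟩ := isConj_iff.mp (ConjClasses.mk_eq_mk_iff_isConj.mp hC)
    have hb' : (b : G) * (h * k * h⁻¹) * (b : G)⁻¹ = k := congrArg Subtype.val hb
    obtain ⟨c, hc, hc'⟩ := fpf_exists_conj hfpf hh hne b.2
    have h3 : h * (c⁻¹ * k * c) = (c⁻¹ * k * c) * h := by
      have e : (b : G) * h * k * ((b : G) * h)⁻¹ = k := by
        simpa [mul_assoc] using hb'
      rw [← hc'] at e
      have := congrArg (fun y => c⁻¹ * y * c * h) e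
      simpa [mul_assoc] using this
    have h4 := hfpf h hh hne (c⁻¹ * k * c)
      (K.mul_mem (K.mul_mem (K.inv_mem hc) k.2) hc) h3
    refine hk (Subtype.ext ?_)
    have h5 := congrArg (fun y => c * y * c⁻¹) h4
    simpa [mul_assoc] using h5
  refine isIrrCharacter_iff_inner_self.mpr ⟨isCharacter_indFun K (isCharacter_of_irr hτ), ?_⟩
  rw [inner_indFun K τ (isClassFunction_indFun K τ), ← inner_conj,
    CharsMore.inner_indFun_restrict K hτ hτ]
  have hc : Nat.card {x : G // CharsMore.conjFn K x τ = τ} = Nat.card K :=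
    Nat.card_congr (Equiv.subtypeEquivRight fun x => ⟨hin x, fun hx => CharsMore.le_inertia K hcl hx⟩)
  rw [hc, inv_mul_cancel₀ (Nat.cast_ne_zero.mpr Nat.card_pos.ne'), map_one]

/-- The total order of all centralisers. -/
theorem sum_card_centralizer (G : Type u) [Group G] [Fintype G] :
    ∑ x : G, Nat.card (Subgroup.centralizer ({x} : Set G)) =
      Nat.card (ConjClasses G) * Nat.card G := by
  classical
  rw [← card_comm_eq_card_conjClasses_mul_card, Nat.card_congr
    (Equiv.subtypeProdEquivSigmaSubtype fun a b : G => Commute a b), Nat.card_sigma]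
  refine Finset.sum_congr rfl fun x _ => Nat.card_congr (Equiv.subtypeEquivRight fun y => ?_)
  rw [Subgroup.mem_centralizer_singleton_iff]
  exact ⟨Eq.symm, Eq.symm⟩

/-- Class numbers of a group with a fixed-point-free complement. -/
theorem card_classes_of_fpf [Finite G] [K.Normal] (hKH : K ⊓ H = ⊥) (hKH' : K ⊔ H = ⊤)
    (hfpf : ∀ h ∈ H, h ≠ 1 → ∀ k ∈ K, h * k = k * h → k = 1) :
    Nat.card H * Nat.card (ConjClasses G) + 1 =
      Nat.card H * Nat.card (ConjClasses H) + Nat.card (ConjClasses K) := by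
  classical
  haveI := Fintype.ofFinite G
  haveI := Fintype.ofFinite K
  haveI := Fintype.ofFinite H
  have hdec : ∀ x : G, ∃ a ∈ K, ∃ h ∈ H, a * h = x := fun x =>
    Subgroup.mem_sup_of_normal_left.mp (hKH' ▸ Subgroup.mem_top x)
  have huniq : ∀ {a a' h h' : G}, a ∈ K → a' ∈ K → h ∈ H → h' ∈ H → a * h = a' * h' →
      a = a' ∧ h = h' := by
    intro a a' h h' ha ha' hh hh' e
    have h1 : a'⁻¹ * a = h' * h⁻¹ := by
      have := congrArg (fun y => a'⁻¹ * y * h⁻¹) e
      simpa [mul_assoc] using this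
    have h2 : a'⁻¹ * a ∈ K ⊓ H :=
      ⟨K.mul_mem (K.inv_mem ha') ha, h1 ▸ H.mul_mem hh' (H.inv_mem hh)⟩
    rw [hKH, Subgroup.mem_bot] at h2
    exact ⟨(inv_mul_eq_one.mp h2).symm, (mul_inv_eq_one.mp (h1.symm.trans h2)).symm⟩
  -- conjugates of the nontrivial elements of the complement
  have hΦ : Function.Bijective (fun p : K × {h : H // h ≠ 1} =>
      (⟨(p.1 : G) * p.2.1 * (p.1 : G)⁻¹, fun hm => p.2.2 (Subtype.ext (by
        have h1 := ‹K.Normal›.conj_mem _ hm (p.1 : G)⁻¹
        have h2 : ((p.2.1 : H) : G) ∈ K ⊓ H := ⟨by simpa [mul_assoc] using h1, p.2.1.2⟩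
        rwa [hKH, Subgroup.mem_bot] at h2))⟩ : {x : G // x ∉ K})) := by
    constructor
    · rintro ⟨c, ⟨h, hne⟩⟩ ⟨d, ⟨h', hne'⟩⟩ e
      have e' : (c : G) * h * (c : G)⁻¹ = (d : G) * h' * (d : G)⁻¹ := congrArg Subtype.val e
      have hmem : ∀ k : K, ∀ x : H, (k : G) * ((x : G) * (k : G)⁻¹ * (x : G)⁻¹) ∈ K := fun k x =>
        K.mul_mem k.2 (‹K.Normal›.conj_mem _ (K.inv_mem k.2) _)
      obtain ⟨-, hh⟩ := huniq (hmem c h) (hmem d h') h.2 h'.2 (by simpa [mul_assoc] using e')
      have hh' : h = h' := Subtype.ext hh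
      subst hh'
      have hcd : c = d := Subtype.ext
        (fpf_conj_injective hfpf h.2 (fun e0 => hne (Subtype.ext e0)) c.2 d.2 e')
      subst hcd
      rfl
    · rintro ⟨x, hx⟩
      obtain ⟨a, ha, h, hh, rfl⟩ := hdec x
      have hne : h ≠ 1 := fun e => hx (by simpa [e] using ha)
      obtain ⟨c, hc, hc'⟩ := fpf_exists_conj hfpf hh hne ha
      exact ⟨(⟨c, hc⟩, ⟨⟨h, hh⟩, fun e => hne (congrArg Subtype.val e)⟩), Subtype.ext hc'⟩
  have hconj : ∀ c x : G, Nat.card (Subgroup.centralizer ({c * x * c⁻¹} : Set G)) =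
      Nat.card (Subgroup.centralizer ({x} : Set G)) := by
    intro c x
    refine Nat.card_congr ((MulAut.conj c⁻¹).toEquiv.subtypeEquiv fun y => ?_)
    simp only [Subgroup.mem_centralizer_singleton_iff, MulEquiv.toEquiv_eq_coe, EquivLike.coe_coe,
      MulAut.conj_apply, inv_inv]
    constructor <;> intro e
    · have := congrArg (fun z => c⁻¹ * z * c) e
      simpa [mul_assoc] using this
    · have := congrArg (fun z => c * z * c⁻¹) e
      simpa [mul_assoc] using this
  have hCK : ∀ k : K, k ≠ 1 → Nat.card (Subgroup.centralizer ({(k : G)} : Set G)) =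
      Nat.card (Subgroup.centralizer ({k} : Set K)) := by
    intro k hk
    have hmem : ∀ y : Subgroup.centralizer ({(k : G)} : Set G), y.1 ∈ K := by
      intro y
      obtain ⟨a, ha, h, hh, he⟩ := hdec y.1
      by_cases hne : h = 1
      · rw [← he, hne, mul_one]; exact ha
      exfalso
      obtain ⟨c, hc, hc'⟩ := fpf_exists_conj hfpf hh hne ha
      have h1 : y.1 * k = k * y.1 := Subgroup.mem_centralizer_singleton_iff.mp y.2
      rw [← he, ← hc'] at h1
      have h3 : h * (c⁻¹ * k * c) = (c⁻¹ * k * c) * h := by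
        have := congrArg (fun z => c⁻¹ * z * c) h1
        simpa [mul_assoc] using this
      have h4 := congrArg (fun z => c * z * c⁻¹) (hfpf h hh hne (c⁻¹ * k * c)
        (K.mul_mem (K.mul_mem (K.inv_mem hc) k.2) hc) h3)
      exact hk (Subtype.ext (by simpa [mul_assoc] using h4))
    exact (Nat.card_congr
      { toFun := fun y => ⟨(y.1 : G), Subgroup.mem_centralizer_singleton_iff.mpr
          (congrArg Subtype.val (Subgroup.mem_centralizer_singleton_iff.mp y.2))⟩
        invFun := fun y => ⟨⟨y.1, hmem y⟩, Subgroup.mem_centralizer_singleton_iff.mpr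
          (Subtype.ext (Subgroup.mem_centralizer_singleton_iff.mp y.2))⟩
        left_inv := fun y => rfl
        right_inv := fun y => rfl }).symm
  have hCH : ∀ h : H, h ≠ 1 → Nat.card (Subgroup.centralizer ({(h : G)} : Set G)) =
      Nat.card (Subgroup.centralizer ({h} : Set H)) := by
    intro h hne
    have hmem : ∀ y : Subgroup.centralizer ({(h : G)} : Set G), y.1 ∈ H := by
      intro y
      obtain ⟨a, ha, h', hh', he⟩ := hdec y.1
      have hy : y.1 * (h : G) = h * y.1 := Subgroup.mem_centralizer_singleton_iff.mp y.2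
      rw [← he] at hy
      have h1 : a * (h' * (h : G)) = ((h : G) * a * (h : G)⁻¹) * ((h : G) * h') := by
        rw [← mul_assoc, hy]; simp [mul_assoc]
      obtain ⟨h2, -⟩ := huniq ha (‹K.Normal›.conj_mem a ha h) (H.mul_mem hh' h.2)
        (H.mul_mem h.2 hh') h1
      have h3 : a = 1 := hfpf h h.2 (fun e => hne (Subtype.ext e)) a ha (by
        conv_rhs => rw [h2]
        simp [mul_assoc])
      rw [← he, h3, one_mul]
      exact hh'
    exact (Nat.card_congr
      { toFun := fun y => ⟨(y.1 : G), Subgroup.mem_centralizer_singleton_iff.mpr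
          (congrArg Subtype.val (Subgroup.mem_centralizer_singleton_iff.mp y.2))⟩
        invFun := fun y => ⟨⟨y.1, hmem y⟩, Subgroup.mem_centralizer_singleton_iff.mpr
          (Subtype.ext (Subgroup.mem_centralizer_singleton_iff.mp y.2))⟩
        left_inv := fun y => rfl
        right_inv := fun y => rfl }).symm
  -- the count
  have hone : ∀ (L : Type u) [Group L] [Fintype L] [DecidableEq L],
      Nat.card (Subgroup.centralizer ({(1 : L)} : Set L)) +
        ∑ x ∈ Finset.univ.erase (1 : L), Nat.card (Subgroup.centralizer ({x} : Set L)) =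
      Nat.card (ConjClasses L) * Nat.card L := by
    intro L _ _ _
    rw [← sum_card_centralizer L]
    exact Finset.add_sum_erase Finset.univ
      (fun x => Nat.card (Subgroup.centralizer ({x} : Set L))) (Finset.mem_univ 1)
  have hc1 : ∀ (L : Type u) [Group L],
      Nat.card (Subgroup.centralizer ({(1 : L)} : Set L)) = Nat.card L := fun L _ => by
    have : Subgroup.centralizer ({1} : Set L) = ⊤ := by
      ext x; simp [Subgroup.mem_centralizer_iff]
    rw [this, Subgroup.card_top]
  have hout : ∑ x ∈ Finset.univ.filter (fun x : G => x ∉ K),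
      Nat.card (Subgroup.centralizer ({x} : Set G)) =
      Nat.card K * ∑ h ∈ Finset.univ.erase (1 : H), Nat.card (Subgroup.centralizer ({h} : Set H)) := by
    rw [Finset.sum_subtype (p := fun x : G => x ∉ K) _ (by simp),
      ← Fintype.sum_bijective _ hΦ _ _ (fun _ => rfl), Fintype.sum_prod_type]
    have hin : ∀ c : K, ∑ p : {h : H // h ≠ 1},
        Nat.card (Subgroup.centralizer ({(c : G) * (p.1 : G) * (c : G)⁻¹} : Set G)) =
        ∑ h ∈ Finset.univ.erase (1 : H), Nat.card (Subgroup.centralizer ({h} : Set H)) := by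
      intro c
      rw [Finset.sum_subtype (p := fun h : H => h ≠ 1) (Finset.univ.erase (1 : H)) (by simp)]
      exact Finset.sum_congr rfl fun p _ => by rw [hconj, hCH p.1 p.2]
    rw [Finset.sum_congr rfl (fun c _ => hin c), Finset.sum_const, Finset.card_univ, smul_eq_mul,
      Nat.card_eq_fintype_card]
  have hinK : ∑ x ∈ Finset.univ.filter (fun x : G => x ∈ K),
      Nat.card (Subgroup.centralizer ({x} : Set G)) =
      Nat.card G + ∑ k ∈ Finset.univ.erase (1 : K), Nat.card (Subgroup.centralizer ({k} : Set K)) := by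
    rw [Finset.sum_subtype (p := fun x : G => x ∈ K) _ (by simp),
      ← Finset.add_sum_erase _ _ (Finset.mem_univ (1 : K))]
    congr 1
    · exact hc1 G
    · exact Finset.sum_congr rfl fun k hk => hCK k (Finset.ne_of_mem_erase hk)
  have hsum := sum_card_centralizer G
  rw [← Finset.sum_filter_add_sum_filter_not Finset.univ (fun x => x ∈ K), hinK, hout] at hsum
  have hK := hone K
  have hH := hone H
  rw [hc1] at hK hH
  have hG : Nat.card G = Nat.card K * Nat.card H := by
    rw [← Nat.card_prod]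
    refine (Nat.card_congr (Equiv.ofBijective (fun p : K × H => (p.1 : G) * p.2)
      ⟨fun p q e => ?_, fun x => ?_⟩)).symm
    · obtain ⟨e1, e2⟩ := huniq p.1.2 q.1.2 p.2.2 q.2.2 e
      exact Prod.ext (Subtype.ext e1) (Subtype.ext e2)
    · obtain ⟨a, ha, h, hh, e⟩ := hdec x
      exact ⟨(⟨a, ha⟩, ⟨h, hh⟩), e⟩
  rw [hG] at hsum
  have hpos : 0 < Nat.card K := Nat.card_pos
  refine Nat.eq_of_mul_eq_mul_left hpos ?_
  set A := ∑ k ∈ Finset.univ.erase (1 : K), Nat.card (Subgroup.centralizer ({k} : Set K))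
  set B := ∑ h ∈ Finset.univ.erase (1 : H), Nat.card (Subgroup.centralizer ({h} : Set H))
  nlinarith [hsum, hK, congrArg (fun t => Nat.card K * t) hH]

end CfsgLib.Chars
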