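import Cfsg.Agent.Lib.Chars.Degree
import Cfsg.Agent.Lib.Chars.Quotient
import Cfsg.Agent.Lib.Chars.Integral

/-!
# Commutator counting, Burnside–Brauer, sums over subgroups
-/

set_option autoImplicit false
set_option linter.style.haveILetI false

namespace CfsgLib.Chars

open Module Cfsg
open scoped ComplexConjugate

universe u v

variable {G : Type u} [Group G]

/-- Frobenius: number of ways of writing `g` as a commutator. -/
theorem card_commutator_eq [Fintype G] [Fintype (IrrCharacter G)] (g : G) :
    (Nat.card {p : G × G // g = p.1 * p.2 * p.1⁻¹ * p.2⁻¹} : ℂ) =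
      (Nat.card G : ℂ) * ∑ χ : IrrCharacter G, (χ : G → ℂ) g / (χ : G → ℂ) 1 := by
  classical
  let f : G → ℂ := fun x => (Nat.card {p : G × G // x = p.1 * p.2 * p.1⁻¹ * p.2⁻¹} : ℂ)
  have hf : IsClassFunction G f := by
    intro x h
    simp only [f, Nat.cast_inj]
    refine Nat.card_congr (Equiv.subtypeEquiv
      (Equiv.prodCongr (MulAut.conj h⁻¹).toEquiv (MulAut.conj h⁻¹).toEquiv) ?_)
    rintro ⟨a, b⟩
    simp only [Equiv.prodCongr_apply, Prod.map_fst, Prod.map_snd, MulEquiv.toEquiv_eq_coe,
      EquivLike.coe_coe, MulAut.conj_apply, inv_inv]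
    constructor <;> intro e
    · calc x = h⁻¹ * (h * x * h⁻¹) * h := by simp [mul_assoc]
        _ = _ := by rw [e]; simp [mul_assoc]
    · calc h * x * h⁻¹ = h * (h⁻¹ * (a * b * a⁻¹ * b⁻¹) * h) * h⁻¹ := by
            rw [e]; simp [mul_assoc]
        _ = _ := by simp [mul_assoc]
  have key : ∀ χ : IrrCharacter G, classInner f (χ : G → ℂ) =
      (Nat.card G : ℂ) / (χ : G → ℂ) 1 := by
    intro χ
    have hn := irr_degree_ne_zero χ.2
    have h1 : ∑ x : G, f x * conj ((χ : G → ℂ) x) =
        ∑ a : G, ∑ b : G, conj ((χ : G → ℂ) (a * b * a⁻¹ * b⁻¹)) := by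
      rw [← Fintype.sum_prod_type',
        ← Finset.sum_fiberwise (Finset.univ : Finset (G × G))
          (fun p => p.1 * p.2 * p.1⁻¹ * p.2⁻¹)
          (fun p => conj ((χ : G → ℂ) (p.1 * p.2 * p.1⁻¹ * p.2⁻¹)))]
      refine Finset.sum_congr rfl fun x _ => ?_
      rw [Finset.sum_congr rfl (g := fun _ => conj ((χ : G → ℂ) x))
        (fun p hp => by rw [(Finset.mem_filter.mp hp).2]), Finset.sum_const, nsmul_eq_mul]
      congr 1
      simp only [f, Nat.card_eq_fintype_card, Fintype.card_subtype, eq_comm (a := x)]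
    have h2 : ∀ a : G, ∑ b : G, (χ : G → ℂ) (a * b * a⁻¹ * b⁻¹) =
        (Nat.card G : ℂ) * (χ : G → ℂ) a⁻¹ * (χ : G → ℂ) a / (χ : G → ℂ) 1 := by
      intro a
      have h3 := sum_translate_class χ.2 a a⁻¹
      have h4 : ∑ b : G, (χ : G → ℂ) (a * b * a⁻¹ * b⁻¹) =
          (Nat.card (Subgroup.centralizer ({a⁻¹} : Set G)) : ℂ) *
            ∑ y : G, (if IsConj a⁻¹ y then (χ : G → ℂ) (a * y) else 0) := by
        rw [Finset.mul_sum, ← Finset.sum_fiberwise (Finset.univ : Finset G)
          (fun b => b * a⁻¹ * b⁻¹) (fun b => (χ : G → ℂ) (a * b * a⁻¹ * b⁻¹))]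
        refine Finset.sum_congr rfl fun y _ => ?_
        rw [Finset.sum_congr rfl (g := fun _ => (χ : G → ℂ) (a * y))
          (fun b hb => by rw [← (Finset.mem_filter.mp hb).2]; simp [mul_assoc]),
          Finset.sum_const, nsmul_eq_mul]
        by_cases hy : IsConj a⁻¹ y
        · rw [if_pos hy]
          congr 1
          obtain ⟨c, rfl⟩ := isConj_iff.mp hy
          rw [Nat.card_eq_fintype_card, ← Fintype.card_subtype]
          norm_cast
          refine Fintype.card_congr ((Equiv.mulLeft c⁻¹).subtypeEquiv fun b => ?_)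
          simp only [Equiv.coe_mulLeft, Subgroup.mem_centralizer_singleton_iff]
          constructor <;> intro e
          · have := congrArg (fun z => c⁻¹ * z * b) e
            simpa [mul_assoc] using this
          · have := congrArg (fun z => c * z * (c⁻¹ * b)⁻¹ * c⁻¹) e
            simpa [mul_assoc] using this
        · rw [if_neg hy, mul_zero]
          have : (Finset.univ.filter fun b : G => b * a⁻¹ * b⁻¹ = y) = ∅ :=
            Finset.filter_eq_empty_iff.mpr fun {b} _ hb => hy (isConj_iff.mpr ⟨b, hb⟩)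
          rw [this, Finset.card_empty, Nat.cast_zero, zero_mul]
      rw [h4, h3, ← card_isConj_mul_card_centralizer a⁻¹, Nat.cast_mul]
      ring
    rw [inner_def, h1]
    simp_rw [← map_sum, h2]
    have h5 : ∑ a : G, (Nat.card G : ℂ) * (χ : G → ℂ) a⁻¹ * (χ : G → ℂ) a / (χ : G → ℂ) 1 =
        (Nat.card G : ℂ) * ((Nat.card G : ℂ) * classInner (χ : G → ℂ) χ) / (χ : G → ℂ) 1 := by
      rw [← Finset.sum_div, inner_def, ← mul_assoc (Nat.card G : ℂ) (Nat.card G : ℂ)⁻¹,
        mul_inv_cancel₀ (card_ne_zero G), one_mul, Finset.mul_sum]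
      congr 1
      refine Finset.sum_congr rfl fun a _ => ?_
      rw [irr_inv]; ring
    rw [h5, inner_irr_self, mul_one]
    obtain ⟨n, -, hn'⟩ := irr_degree_nat χ.2
    rw [hn', map_div₀, map_mul, map_natCast, map_natCast]
    field_simp [card_ne_zero G]
  have h := congrFun (classFun_eq_sum hf) g
  rw [Finset.sum_apply] at h
  show f g = _
  rw [h, Finset.mul_sum]
  refine Finset.sum_congr rfl fun χ _ => ?_
  rw [Pi.smul_apply, smul_eq_mul, key, div_mul_eq_mul_div, mul_div_assoc]

/-- Burnside–Brauer. -/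
theorem exists_pow_inner_ne_zero [Fintype G] {V : Type v} [AddCommGroup V] [Module ℂ V]
    [FiniteDimensional ℂ V] (ρ : Representation ℂ G V) (hfaithful : Function.Injective ρ)
    {ψ : G → ℂ} (hψ : IsIrrCharacter G ψ) :
    ∃ i : ℕ, i < Nat.card (Set.range ρ.character) ∧
      classInner (fun g => ρ.character g ^ i) ψ ≠ 0 := by
  classical
  by_contra h
  push Not at h
  let S : Finset ℂ := (Finset.univ.image ρ.character).erase (ρ.character 1)
  let P : Polynomial ℂ := ∏ v ∈ S, (Polynomial.X - Polynomial.C v)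
  have hcard : Nat.card (Set.range ρ.character) = S.card + 1 := by
    rw [Finset.card_erase_add_one (Finset.mem_image_of_mem _ (Finset.mem_univ 1)),
      ← Set.toFinset_range, Set.toFinset_card, Nat.card_eq_fintype_card]
  have hdeg : P.natDegree = S.card := by
    rw [Polynomial.natDegree_prod_of_monic _ _ fun v _ => Polynomial.monic_X_sub_C v]
    simp
  have h0 : ∑ g : G, P.eval (ρ.character g) * conj (ψ g) = 0 := by
    simp only [Polynomial.eval_eq_sum_range, Finset.sum_mul]
    rw [Finset.sum_comm]
    refine Finset.sum_eq_zero fun i hi => ?_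
    have hi' : i < Nat.card (Set.range ρ.character) := by
      rw [hcard, ← hdeg]; exact Finset.mem_range.mp hi
    have h1 := h i hi'
    rw [inner_def, mul_eq_zero, or_iff_right (inv_ne_zero (card_ne_zero G))] at h1
    simp only [mul_assoc, ← Finset.mul_sum]
    rw [h1, mul_zero]
  rw [Finset.sum_eq_single (1 : G)] at h0
  · rcases mul_eq_zero.mp h0 with h1 | h1
    · rw [Polynomial.eval_prod, Finset.prod_eq_zero_iff] at h1
      obtain ⟨v, hv, hv'⟩ := h1
      rw [Polynomial.eval_sub, Polynomial.eval_X, Polynomial.eval_C, sub_eq_zero] at hv'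
      exact Finset.ne_of_mem_erase hv hv'.symm
    · exact irr_degree_ne_zero hψ (by simpa using h1)
  · intro g _ hg
    have hne : ρ.character g ≠ ρ.character 1 := fun he => hg (hfaithful (by
      rw [map_one, Module.End.one_eq_id]
      exact (character_eq_finrank_iff ρ g).mp (he.trans ρ.char_one)))
    rw [Polynomial.eval_prod, Finset.prod_eq_zero
      (Finset.mem_erase.mpr ⟨hne, Finset.mem_image_of_mem _ (Finset.mem_univ g)⟩) (by simp),
      zero_mul]
  · simp

/-- The inner product with the principal character is the dimension of the fixed space. -/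
theorem inner_one_eq_finrank_invariants [Fintype G] {V : Type v} [AddCommGroup V] [Module ℂ V]
    [FiniteDimensional ℂ V] (ρ : Representation ℂ G V) :
    classInner ρ.character (fun _ => 1) = (finrank ℂ ρ.invariants : ℂ) := by
  haveI := invertibleCard G
  rw [← ρ.card_inv_mul_sum_char_eq_finrank, inner_def]
  simp

/-- The invariants of a nonprincipal irreducible representation vanish. -/
theorem invariants_eq_bot {V : Type v} [AddCommGroup V] [Module ℂ V]
    [FiniteDimensional ℂ V] (ρ : Representation ℂ G V) [hρ : ρ.IsIrreducible]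
    (hne : ρ.character ≠ fun _ => 1) : ρ.invariants = ⊥ := by
  refine (((isIrreducible_iff ρ).mp hρ).2 ρ.invariants fun g x hx => ?_).resolve_right fun htop => ?_
  · rw [hx g]; exact hx
  · have hid : ∀ g, ρ g = LinearMap.id := fun g => LinearMap.ext fun x => by
      have hx : x ∈ ρ.invariants := htop ▸ Submodule.mem_top
      exact hx g
    obtain ⟨v, hv⟩ := @exists_ne V (nontrivial_of_isIrreducible ρ) 0
    have hspan := ((isIrreducible_iff ρ).mp hρ).2 (Submodule.span ℂ {v})
      (fun g x hx => by rw [hid g]; exact hx)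
    rw [Submodule.span_singleton_eq_bot, or_iff_right hv] at hspan
    have h1 : finrank ℂ V = 1 := by
      rw [← finrank_top ℂ V, ← hspan, finrank_span_singleton hv]
    exact hne (funext fun g => by simp [Representation.character, hid g, LinearMap.trace_id, h1])

end CfsgLib.Chars
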