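import Cfsg.Agent.Lib.Chars.Quotient
import Cfsg.Agent.Lib.Chars.Integral

/-!
# Brauer's permutation lemma, real characters, groups of odd order
-/

set_option autoImplicit false
set_option linter.style.haveILetI false

namespace CfsgLib.Chars

open Module Cfsg
open scoped ComplexConjugate

universe u v

variable {G : Type u} [Group G]

/-- The trace of a coordinate permutation counts fixed points. -/
theorem trace_funLeft {X : Type v} [Finite X] (f : X → X) :
    LinearMap.trace ℂ (X → ℂ) (LinearMap.funLeft ℂ ℂ f) =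
      (Nat.card {x : X // f x = x} : ℂ) := by
  classical
  haveI := Fintype.ofFinite X
  rw [LinearMap.trace_eq_matrix_trace ℂ (Pi.basisFun ℂ X), Matrix.trace]
  have h : ∀ x : X, Matrix.diag (LinearMap.toMatrix (Pi.basisFun ℂ X) (Pi.basisFun ℂ X)
      (LinearMap.funLeft ℂ ℂ f)) x = if f x = x then 1 else 0 := by
    intro x
    rw [Matrix.diag_apply, LinearMap.toMatrix_apply, Pi.basisFun_repr, Pi.basisFun_apply,
      LinearMap.funLeft_apply]
    by_cases hx : f x = x
    · simp [hx]
    · simp [hx]
  rw [Finset.sum_congr rfl (fun x _ => h x), Finset.sum_boole, Nat.card_eq_fintype_card,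
    Fintype.card_subtype]

/-- The inner products with irreducible characters, as a linear isomorphism. -/
noncomputable def classEquiv (G : Type u) [Group G] [Fintype G] :
    (ConjClasses G → ℂ) ≃ₗ[ℂ] (IrrCharacter G → ℂ) :=
  let Φ : (ConjClasses G → ℂ) →ₗ[ℂ] (IrrCharacter G → ℂ) :=
    { toFun := fun F χ => classInner (ofClasses G F) (χ : G → ℂ)
      map_add' := fun a b => by funext χ; simp [inner_add_left]
      map_smul' := fun c a => by funext χ; simp [inner_smul_left] }
  LinearEquiv.ofBijective Φ
    ⟨by
      rw [← LinearMap.ker_eq_bot, LinearMap.ker_eq_bot']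
      intro F hF
      have h0 := eq_zero_of_inner_irr (isClassFunction_ofClasses F) (fun χ => congrFun hF χ)
      funext C
      obtain ⟨g, rfl⟩ := ConjClasses.mk_surjective C
      exact congrFun h0 g,
    fun c => by
      classical
      haveI := irrFintype G
      refine ⟨Quotient.lift (∑ χ : IrrCharacter G, c χ • (χ : G → ℂ)) ?_, ?_⟩
      · intro a b hab
        obtain ⟨d, rfl⟩ := isConj_iff.mp hab
        exact (isClassFunction_sum _ (fun χ _ =>
          isClassFunction_smul (c χ) (isClassFunction_irr χ)) a d).symm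
      · funext χ
        show classInner (∑ ψ : IrrCharacter G, c ψ • (ψ : G → ℂ)) χ = c χ
        simp [inner_sum_left, inner_smul_left, inner_irr]⟩

theorem classEquiv_apply [Fintype G] (F : ConjClasses G → ℂ) (χ : IrrCharacter G) :
    classEquiv G F χ = classInner (ofClasses G F) (χ : G → ℂ) := rfl

/-- Brauer's permutation lemma: a permutation of the classes and one of the irreducible characters
that agree through the character table fix equally many points. -/
theorem brauer_permutation [Finite G] (e : G ≃ G) (τ : ConjClasses G → ConjClasses G)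
    (hτ : ∀ g, τ (ConjClasses.mk g) = ConjClasses.mk (e g)) (σ : IrrCharacter G → IrrCharacter G)
    (hσ : ∀ (χ : IrrCharacter G) (g : G), (σ χ : G → ℂ) g = (χ : G → ℂ) (e.symm g)) :
    Nat.card {C : ConjClasses G // τ C = C} = Nat.card {χ : IrrCharacter G // σ χ = χ} := by
  haveI := Fintype.ofFinite G
  have hconj : (classEquiv G).conj (LinearMap.funLeft ℂ ℂ τ) = LinearMap.funLeft ℂ ℂ σ := by
    refine LinearMap.ext fun F => funext fun χ => ?_
    obtain ⟨F, rfl⟩ := (classEquiv G).surjective F
    rw [LinearEquiv.conj_apply_apply, LinearEquiv.symm_apply_apply, LinearMap.funLeft_apply,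
      classEquiv_apply, classEquiv_apply, inner_def, inner_def]
    refine congrArg _ (Fintype.sum_equiv e _ _ fun g => ?_)
    rw [hσ, e.symm_apply_apply]
    show F (τ (ConjClasses.mk g)) * _ = F (ConjClasses.mk (e g)) * _
    rw [hτ]
  have h := LinearMap.trace_conj' (LinearMap.funLeft ℂ ℂ τ) (classEquiv G)
  rw [hconj, trace_funLeft, trace_funLeft] at h
  exact_mod_cast h.symm

/-- Automorphisms fix as many classes as irreducible characters. -/
theorem card_fixed_classes_eq_card_fixed_irr [Finite G] (α : G ≃* G) :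
    Nat.card {C : ConjClasses G // ConjClasses.map α.toMonoidHom C = C} =
      Nat.card {χ : IrrCharacter G // (χ : G → ℂ) ∘ α = (χ : G → ℂ)} := by
  let σ : IrrCharacter G → IrrCharacter G := fun χ => ⟨fun g => (χ : G → ℂ) (α.symm g),
    isIrrCharacter_comp α.symm.toMonoidHom α.symm.surjective χ.2⟩
  rw [brauer_permutation α.toEquiv (ConjClasses.map α.toMonoidHom) (fun g => rfl) σ
    (fun χ g => rfl)]
  refine Nat.card_congr (Equiv.subtypeEquivRight fun χ => ?_)
  constructor
  · intro h
    funext g
    have h2 := congrFun (congrArg Subtype.val h) (α g)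
    simp only [σ, MulEquiv.symm_apply_apply] at h2
    exact h2.symm
  · intro h
    refine Subtype.ext (funext fun g => ?_)
    have h2 := congrFun h (α.symm g)
    simp only [Function.comp_apply, MulEquiv.apply_symm_apply] at h2
    exact h2.symm

/-- The complex conjugate irreducible character. -/
noncomputable def conjIrr [Finite G] (χ : IrrCharacter G) : IrrCharacter G :=
  ⟨fun g => conj ((χ : G → ℂ) g), isIrrCharacter_conj χ.2⟩

theorem conjIrr_conjIrr [Finite G] (χ : IrrCharacter G) : conjIrr (conjIrr χ) = χ :=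
  Subtype.ext (funext fun _ => Complex.conj_conj _)

theorem conjIrr_eq_iff [Finite G] (χ : IrrCharacter G) :
    conjIrr χ = χ ↔ ∀ g, ((χ : G → ℂ) g).im = 0 := by
  rw [Subtype.ext_iff, funext_iff]
  exact forall_congr' fun g => Complex.conj_eq_iff_im

/-- The number of real irreducible characters is the number of real classes. -/
theorem card_real_irr_eq_card_real_classes [Finite G] :
    Nat.card {χ : IrrCharacter G // ∀ g : G, ((χ : G → ℂ) g).im = 0} =
      Nat.card {C : ConjClasses G // ∀ g : G, ConjClasses.mk g = C → IsConj g g⁻¹} := by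
  classical
  let τ : ConjClasses G → ConjClasses G := Quotient.lift (fun g => ConjClasses.mk g⁻¹)
    (fun a b hab => by
      obtain ⟨c, rfl⟩ := isConj_iff.mp hab
      exact ConjClasses.mk_eq_mk_iff_isConj.mpr (isConj_iff.mpr ⟨c, by simp [mul_assoc]⟩))
  have h := brauer_permutation (Equiv.inv G) τ (fun g => rfl) conjIrr
    (fun χ g => (irr_inv χ g).symm)
  rw [← Nat.card_congr (Equiv.subtypeEquivRight fun χ => conjIrr_eq_iff χ), ← h]
  refine Nat.card_congr (Equiv.subtypeEquivRight fun C => ?_)
  obtain ⟨g, rfl⟩ := ConjClasses.mk_surjective C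
  constructor
  · intro h1 x hx
    have hxg := ConjClasses.mk_eq_mk_iff_isConj.mp hx
    obtain ⟨c, rfl⟩ := isConj_iff.mp hxg.symm
    have h2 : IsConj g⁻¹ g := ConjClasses.mk_eq_mk_iff_isConj.mp h1
    exact hxg.trans (h2.symm.trans (isConj_iff.mpr ⟨c, by simp [mul_assoc]⟩))
  · intro h1
    exact (ConjClasses.mk_eq_mk_iff_isConj.mpr (h1 g rfl)).symm

/-- In a group of odd order only the identity is conjugate to its inverse. -/
theorem eq_one_of_isConj_inv [Finite G] (hodd : Odd (Nat.card G)) {g : G} (h : IsConj g g⁻¹) :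
    g = 1 := by
  obtain ⟨x, hx⟩ := isConj_iff.mp h
  have hox : Odd (orderOf x) := hodd.of_dvd_nat (orderOf_dvd_natCard x)
  obtain ⟨m, hm⟩ := hox
  have hc : Commute g (x * x) := by
    have h2 : (x * x) * g * (x * x)⁻¹ = g := by
      calc (x * x) * g * (x * x)⁻¹ = x * (x * g * x⁻¹) * x⁻¹ := by simp [mul_assoc]
        _ = x * g⁻¹ * x⁻¹ := by rw [hx]
        _ = (x * g * x⁻¹)⁻¹ := by simp [mul_assoc]
        _ = g := by rw [hx, inv_inv]
    exact (mul_inv_eq_iff_eq_mul.mp h2).symm
  have hcx : Commute g x := by
    have h3 : x = (x * x) ^ (m + 1) := by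
      have h4 : (x * x) ^ (m + 1) = x ^ (2 * m + 1) * x := by
        rw [← pow_two, ← pow_mul, ← pow_succ]; congr 1
      rw [h4, ← hm, pow_orderOf_eq_one, one_mul]
    rw [h3]
    exact hc.pow_right _
  have h5 : g = g⁻¹ := by
    conv_rhs => rw [← hx]
    rw [← hcx.eq, mul_inv_cancel_right]
  have h6 : g ^ 2 = 1 := by rw [pow_two]; nth_rw 2 [h5]; exact mul_inv_cancel g
  have h7 : orderOf g ∣ 2 := orderOf_dvd_of_pow_eq_one h6
  have h8 : Odd (orderOf g) := hodd.of_dvd_nat (orderOf_dvd_natCard g)
  rcases (Nat.dvd_prime Nat.prime_two).mp h7 with h9 | h9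
  · exact orderOf_eq_one_iff.mp h9
  · rw [h9] at h8; exact absurd h8 (by decide)

/-- In a group of odd order the only real irreducible character is the principal one. -/
theorem eq_principal_of_real_of_odd [Finite G] (hodd : Odd (Nat.card G)) (χ : IrrCharacter G)
    (hreal : ∀ g : G, ((χ : G → ℂ) g).im = 0) : χ = principal G := by
  have h := card_real_irr_eq_card_real_classes (G := G)
  haveI : Subsingleton {C : ConjClasses G // ∀ g : G, ConjClasses.mk g = C → IsConj g g⁻¹} := by
    refine ⟨fun a b => ?_⟩
    obtain ⟨C, hC⟩ := a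
    obtain ⟨D, hD⟩ := b
    obtain ⟨x, rfl⟩ := ConjClasses.mk_surjective C
    obtain ⟨y, rfl⟩ := ConjClasses.mk_surjective D
    refine Subtype.ext ?_
    show ConjClasses.mk x = ConjClasses.mk y
    rw [eq_one_of_isConj_inv hodd (hC x rfl), eq_one_of_isConj_inv hodd (hD y rfl)]
  have h1 : Nat.card {χ : IrrCharacter G // ∀ g : G, ((χ : G → ℂ) g).im = 0} ≤ 1 := by
    rw [h]
    exact Finite.card_le_one_iff_subsingleton.mpr inferInstance
  haveI := Finite.card_le_one_iff_subsingleton.mp h1
  exact congrArg Subtype.val (Subsingleton.elim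
    (⟨χ, hreal⟩ : {χ : IrrCharacter G // ∀ g : G, ((χ : G → ℂ) g).im = 0})
    ⟨principal G, fun g => by simp [principal_apply]⟩)

theorem conjIrr_principal [Finite G] : conjIrr (principal G) = principal G :=
  Subtype.ext (funext fun _ => map_one _)

/-- For odd order, the order and the class number agree modulo 16. -/
theorem card_modEq_card_classes [Finite G] (hodd : Odd (Nat.card G)) :
    Nat.card G ≡ Nat.card (ConjClasses G) [MOD 16] := by
  classical
  haveI := irrFintype G
  rw [← ZMod.natCast_eq_natCast_iff, ← card_irr_eq_card_classes, Nat.card_eq_fintype_card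
    (α := IrrCharacter G)]
  choose d hd hd' hdvd using fun χ : IrrCharacter G => irr_degree_dvd_card χ.2
  have hsum : (∑ χ : IrrCharacter G, d χ ^ 2 : ℕ) = Nat.card G := by
    have := sum_degree_sq (G := G)
    simp only [hd'] at this
    exact_mod_cast this
  have h0 : ∑ χ : IrrCharacter G, (((d χ ^ 2 : ℕ) : ZMod 16) - 1) = 0 := by
    refine Finset.sum_involution (fun χ _ => conjIrr χ) (fun χ _ => ?_) (fun χ _ hne hc => hne ?_)
      (fun χ _ => Finset.mem_univ _) (fun χ _ => conjIrr_conjIrr χ)
    · have hdc : d (conjIrr χ) = d χ := by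
        have h1 : ((d (conjIrr χ) : ℕ) : ℂ) = (d χ : ℂ) := by
          rw [← hd', ← Complex.conj_natCast (d χ), ← hd']
          rfl
        exact_mod_cast h1
      obtain ⟨k, hk⟩ := hodd.of_dvd_nat (hdvd χ)
      rw [hdc, hk]
      obtain ⟨t, ht⟩ : 2 ∣ k * (k + 1) := (Nat.even_mul_succ_self k).two_dvd
      have h2 : (2 * k + 1) ^ 2 = 8 * t + 1 := by nlinarith
      rw [h2]
      push_cast
      ring_nf
      have : (16 : ZMod 16) = 0 := by decide
      rw [this, mul_zero]
    · have h1 : χ = principal G :=
        eq_principal_of_real_of_odd hodd χ ((conjIrr_eq_iff χ).mp hc)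
      have h2 : ((d χ : ℕ) : ℂ) = 1 := by rw [← hd', h1]; rfl
      have h3 : d χ = 1 := by exact_mod_cast h2
      simp [h3]
  rw [Finset.sum_sub_distrib, ← Nat.cast_sum, hsum, Finset.sum_const, Finset.card_univ,
    nsmul_one, sub_eq_zero] at h0
  exact h0

end CfsgLib.Chars
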