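import Cfsg.Agent.Lib.Chars.Misc
import Cfsg.Agent.Lib.Chars.Permutation

/-!
# The Frobenius–Schur indicator
-/

set_option autoImplicit false
set_option linter.style.haveILetI false

namespace CfsgLib.Chars

open Module Cfsg
open scoped ComplexConjugate Matrix

universe u v

variable {G : Type u} [Group G]

/-- The action `X ↦ A X Aᵀ` on matrices, the tensor square of a representation. -/
noncomputable def squareRep {n : ℕ} (ρ : Representation ℂ G (Fin n → ℂ)) :
    Representation ℂ G (Matrix (Fin n) (Fin n) ℂ) where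
  toFun g :=
    { toFun := fun X => LinearMap.toMatrix' (ρ g) * X * (LinearMap.toMatrix' (ρ g))ᵀ
      map_add' := fun X Y => by rw [Matrix.mul_add, Matrix.add_mul]
      map_smul' := fun c X => by simp }
  map_one' := by
    refine LinearMap.ext fun X => ?_
    simp [Module.End.one_eq_id]
  map_mul' a b := by
    refine LinearMap.ext fun X => ?_
    simp [Module.End.mul_eq_comp, LinearMap.toMatrix'_comp, Matrix.transpose_mul, Matrix.mul_assoc]

theorem squareRep_apply {n : ℕ} (ρ : Representation ℂ G (Fin n → ℂ)) (g : G)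
    (X : Matrix (Fin n) (Fin n) ℂ) :
    squareRep ρ g X = LinearMap.toMatrix' (ρ g) * X * (LinearMap.toMatrix' (ρ g))ᵀ := rfl

theorem character_eq_trace {n : ℕ} (ρ : Representation ℂ G (Fin n → ℂ)) (g : G) :
    ρ.character g = Matrix.trace (LinearMap.toMatrix' (ρ g)) := by
  rw [Representation.character, LinearMap.trace_eq_matrix_trace ℂ (Pi.basisFun ℂ (Fin n)),
    LinearMap.toMatrix_eq_toMatrix']

theorem character_squareRep {n : ℕ} (ρ : Representation ℂ G (Fin n → ℂ)) (g : G) :
    (squareRep ρ).character g = ρ.character g * ρ.character g := by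
  classical
  rw [Representation.character, LinearMap.trace_eq_matrix_trace ℂ (Matrix.stdBasis ℂ (Fin n) (Fin n)),
    Matrix.trace, Fintype.sum_prod_type, character_eq_trace, Matrix.trace, Finset.sum_mul_sum]
  refine Finset.sum_congr rfl fun i _ => Finset.sum_congr rfl fun j _ => ?_
  rw [Matrix.diag_apply, LinearMap.toMatrix_apply, squareRep_apply, Matrix.stdBasis_eq_single]
  show (LinearMap.toMatrix' (ρ g) * Matrix.single i j (1 : ℂ) * (LinearMap.toMatrix' (ρ g))ᵀ) i j = _
  simp [Matrix.mul_apply, Matrix.single_apply, ite_and]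

theorem trace_transpose_squareRep {n : ℕ} (ρ : Representation ℂ G (Fin n → ℂ)) (g : G) :
    LinearMap.trace ℂ (Matrix (Fin n) (Fin n) ℂ)
      ((Matrix.transposeLinearEquiv (Fin n) (Fin n) ℂ ℂ).toLinearMap ∘ₗ squareRep ρ g) =
      ρ.character (g * g) := by
  classical
  rw [LinearMap.trace_eq_matrix_trace ℂ (Matrix.stdBasis ℂ (Fin n) (Fin n)), Matrix.trace,
    Fintype.sum_prod_type, character_eq_trace, map_mul, Module.End.mul_eq_comp,
    LinearMap.toMatrix'_comp, Matrix.trace]
  refine Finset.sum_congr rfl fun i _ => ?_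
  rw [Matrix.diag_apply (LinearMap.toMatrix' (ρ g) * LinearMap.toMatrix' (ρ g)), Matrix.mul_apply]
  refine Finset.sum_congr rfl fun j _ => ?_
  rw [Matrix.diag_apply, LinearMap.toMatrix_apply, Matrix.stdBasis_eq_single, LinearMap.comp_apply,
    squareRep_apply]
  show (LinearMap.toMatrix' (ρ g) * Matrix.single i j (1 : ℂ) * (LinearMap.toMatrix' (ρ g))ᵀ)ᵀ i j = _
  simp [Matrix.mul_apply, Matrix.single_apply, ite_and, mul_comm]

/-- The Frobenius–Schur theorem. -/
theorem indicator_trichotomy [Fintype G] {χ : G → ℂ} (hχ : IsIrrCharacter G χ) :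
    ((Nat.card G : ℂ)⁻¹ * ∑ s : G, χ (s * s) = 0 ∨
      (Nat.card G : ℂ)⁻¹ * ∑ s : G, χ (s * s) = 1 ∨
      (Nat.card G : ℂ)⁻¹ * ∑ s : G, χ (s * s) = -1) ∧
    ((Nat.card G : ℂ)⁻¹ * ∑ s : G, χ (s * s) = 0 ↔ ∃ s : G, (χ s).im ≠ 0) := by
  classical
  obtain ⟨n, ρ, hρ, rfl⟩ := hχ
  set ν := (Nat.card G : ℂ)⁻¹ * ∑ s : G, ρ.character (s * s) with hν
  set σ := squareRep ρ with hσ
  let t := (Matrix.transposeLinearEquiv (Fin n) (Fin n) ℂ ℂ).toLinearMap
  let P : Module.End ℂ (Matrix (Fin n) (Fin n) ℂ) := (Nat.card G : ℂ)⁻¹ • ∑ g : G, σ g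
  have hP : LinearMap.IsProj σ.invariants P := by
    refine ⟨fun x h => ?_, fun x hx => ?_⟩
    · simp only [P, LinearMap.smul_apply, LinearMap.sum_apply, map_smul, map_sum]
      congr 1
      simp only [← Module.End.mul_apply, ← map_mul]
      exact Fintype.sum_equiv (Equiv.mulLeft h) _ _ fun g => rfl
    · have hx' : ∀ g, σ g x = x := hx
      simp only [P, LinearMap.smul_apply, LinearMap.sum_apply, hx', Finset.sum_const,
        Finset.card_univ, ← Nat.cast_smul_eq_nsmul ℂ, smul_smul, ← Nat.card_eq_fintype_card,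
        inv_mul_cancel₀ (card_ne_zero G), one_smul]
  have hd : (finrank ℂ σ.invariants : ℂ) =
      classInner ρ.character (fun g => conj (ρ.character g)) := by
    rw [← inner_one_eq_finrank_invariants, inner_def, inner_def]
    simp only [hσ, character_squareRep, Complex.conj_conj, map_one, mul_one]
  have hν' : ν = LinearMap.trace ℂ _ (t ∘ₗ P) := by
    rw [hν]
    show _ = LinearMap.trace ℂ _ (t * ((Nat.card G : ℂ)⁻¹ • ∑ g : G, σ g))
    rw [mul_smul_comm, map_smul, Finset.mul_sum Finset.univ _ t, map_sum, smul_eq_mul]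
    refine congrArg _ ?_
    exact Finset.sum_congr rfl fun g _ => (trace_transpose_squareRep ρ g).symm
  by_cases hreal : conjIrr ⟨ρ.character, n, ρ, hρ, rfl⟩ = ⟨ρ.character, n, ρ, hρ, rfl⟩
  · have him := (conjIrr_eq_iff _).mp hreal
    have h1 : finrank ℂ σ.invariants = 1 := by
      have hc : (fun g => conj (ρ.character g)) = ρ.character := congrArg Subtype.val hreal
      rw [hc, inner_self_irr ρ] at hd
      exact_mod_cast hd
    obtain ⟨v, hv0, hv⟩ := finrank_eq_one_iff'.mp h1
    have hinv : ∀ x ∈ σ.invariants, t x ∈ σ.invariants := by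
      intro x hx g
      show σ g x.transpose = x.transpose
      conv_rhs => rw [← hx g]
      rw [hσ, squareRep_apply, squareRep_apply, Matrix.transpose_mul, Matrix.transpose_mul,
        Matrix.transpose_transpose, Matrix.mul_assoc]
    obtain ⟨c, hc⟩ := hv ⟨t v, hinv v v.2⟩
    have hc' : t (v : Matrix (Fin n) (Fin n) ℂ) = c • (v : Matrix (Fin n) (Fin n) ℂ) :=
      (congrArg Subtype.val hc).symm
    have htP : t ∘ₗ P = c • P := by
      refine LinearMap.ext fun x => ?_
      obtain ⟨a, ha⟩ := hv ⟨P x, hP.map_mem x⟩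
      have ha' : P x = a • (v : Matrix (Fin n) (Fin n) ℂ) := (congrArg Subtype.val ha).symm
      show t (P x) = c • P x
      rw [ha', map_smul, hc', smul_comm]
    have hcc : c * c = 1 := by
      have h2 : t (t (v : Matrix (Fin n) (Fin n) ℂ)) = v := Matrix.transpose_transpose _
      rw [hc', map_smul, hc', smul_smul] at h2
      have hv' : (v : Matrix (Fin n) (Fin n) ℂ) ≠ 0 := fun h => hv0 (Subtype.ext h)
      exact smul_left_injective ℂ hv' (by simpa using h2)
    have hνc : ν = c := by
      rw [hν', htP, map_smul, hP.trace, h1, Nat.cast_one, smul_eq_mul, mul_one]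
    rcases mul_self_eq_one_iff.mp hcc with h | h
    · exact ⟨Or.inr (Or.inl (hνc.trans h)), by simp [hνc, h, show ∀ g, (ρ.character g).im = 0 from him]⟩
    · exact ⟨Or.inr (Or.inr (hνc.trans h)), by simp [hνc, h, show ∀ g, (ρ.character g).im = 0 from him]⟩
  · have h0 : finrank ℂ σ.invariants = 0 := by
      rw [show classInner ρ.character (fun g => conj (ρ.character g)) = 0 from
        inner_irr_ne (χ := ⟨ρ.character, n, ρ, hρ, rfl⟩) (ψ := conjIrr ⟨ρ.character, n, ρ, hρ, rfl⟩)
          (fun h => hreal h.symm)] at hd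
      exact_mod_cast hd
    have hP0 : P = 0 := LinearMap.ext fun x => by
      have h2 := hP.map_mem x
      rwa [Submodule.finrank_eq_zero.mp h0, Submodule.mem_bot] at h2
    have hν0 : ν = 0 := by rw [hν', hP0, LinearMap.comp_zero, map_zero]
    refine ⟨Or.inl hν0, iff_of_true hν0 ?_⟩
    rw [conjIrr_eq_iff] at hreal
    push Not at hreal
    exact hreal

end CfsgLib.Chars
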