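import Cfsg.Agent.Lib.Chars.Integral
import Cfsg.Agent.Lib.Chars.Irr

/-!
# Products of two conjugates of an element, and the character estimates used with them
-/

set_option autoImplicit false

namespace CfsgLib.Chars

open Cfsg Finset
open scoped ComplexConjugate

universe u

variable {G : Type u} [Group G]

theorem exists_two_conjugates [Fintype G] [Fintype (IrrCharacter G)] {x g : G}
    (h : ∑ χ : IrrCharacter G,
      (χ : G → ℂ) x * (χ : G → ℂ) x * conj ((χ : G → ℂ) g) / (χ : G → ℂ) 1 ≠ 0) :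
    ∃ u v : G, g = (u * x * u⁻¹) * (v * x * v⁻¹) := by
  classical
  by_contra hne
  push Not at hne
  apply h
  have h0 : ∀ y : G, IsConj x y →
      ∑ χ : IrrCharacter G, (χ : G → ℂ) (x * y) * conj ((χ : G → ℂ) g) = 0 := by
    intro y hy
    rw [second_orthogonality (x * y) g, if_neg]
    intro hc
    obtain ⟨c, hc⟩ := isConj_iff.1 hc.symm
    obtain ⟨v, rfl⟩ := isConj_iff.1 hy
    exact hne c (c * v) (by rw [← hc]; group)
  have hk : (Nat.card {y : G // IsConj x y} : ℂ) ≠ 0 := by
    haveI : Nonempty {y : G // IsConj x y} := ⟨⟨x, IsConj.refl x⟩⟩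
    exact Nat.cast_ne_zero.mpr Nat.card_pos.ne'
  apply mul_left_cancel₀ hk
  rw [mul_zero, Finset.mul_sum]
  calc ∑ χ : IrrCharacter G, (Nat.card {y : G // IsConj x y} : ℂ) *
        ((χ : G → ℂ) x * (χ : G → ℂ) x * conj ((χ : G → ℂ) g) / (χ : G → ℂ) 1)
      = ∑ χ : IrrCharacter G, (∑ y : G, if IsConj x y then (χ : G → ℂ) (x * y) else 0) *
          conj ((χ : G → ℂ) g) := by
        refine Finset.sum_congr rfl fun χ _ => ?_
        rw [sum_translate_class χ.2 x x]
        ring
    _ = ∑ y : G, ∑ χ : IrrCharacter G,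
          (if IsConj x y then (χ : G → ℂ) (x * y) else 0) * conj ((χ : G → ℂ) g) := by
        rw [Finset.sum_comm]
        exact Finset.sum_congr rfl fun χ _ => Finset.sum_mul _ _ _
    _ = 0 := Finset.sum_eq_zero fun y _ => by
        by_cases hy : IsConj x y
        · simp only [if_pos hy]; exact h0 y hy
        · exact Finset.sum_eq_zero fun χ _ => by rw [if_neg hy, zero_mul]

/-- The values on an element whose fourth power is one are Gaussian integers. -/
theorem exists_gauss [Finite G] {χ : G → ℂ} (hχ : IsCharacter G χ) {x : G} (hx : x ^ 4 = 1) :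
    ∃ a b : ℤ, χ x = a + b * Complex.I ∧ ∃ k : ℕ, χ 1 = k ∧ 2 ∣ a + b - k := by
  classical
  obtain ⟨n, ρ, rfl⟩ := hχ
  obtain ⟨-, μ, hμ, -, -, -, hsum, -⟩ := exists_eigenbasis_rep ρ x
  suffices h : ∀ s : Finset (Fin (Module.finrank ℂ (Fin n → ℂ))),
      ∃ a b : ℤ, ∑ i ∈ s, μ i = a + b * Complex.I ∧ 2 ∣ a + b - (s.card : ℕ) by
    obtain ⟨a, b, hab, hd⟩ := h univ
    refine ⟨a, b, by rw [hsum, hab], _, by rw [Representation.char_one], ?_⟩
    simpa using hd
  intro s
  induction s using Finset.induction with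
  | empty => exact ⟨0, 0, by simp, by simp⟩
  | insert i s hi ih =>
    obtain ⟨a, b, hab, hd⟩ := ih
    have h4 : μ i ^ 4 = 1 := by
      obtain ⟨c, hc⟩ := orderOf_dvd_of_pow_eq_one hx
      rw [hc, pow_mul, hμ i, one_pow]
    have h0 : (μ i - 1) * (μ i + 1) * ((μ i - Complex.I) * (μ i + Complex.I)) = 0 := by
      linear_combination h4 - (μ i ^ 2 - 1) * Complex.I_sq
    rw [Finset.sum_insert hi, Finset.card_insert_of_notMem hi]
    rcases mul_eq_zero.1 h0 with h | h <;> rcases mul_eq_zero.1 h with h | h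
    · exact ⟨a + 1, b, by rw [hab, sub_eq_zero.1 h]; push_cast; ring, by push_cast; omega⟩
    · exact ⟨a - 1, b, by rw [hab, eq_neg_of_add_eq_zero_left h]; push_cast; ring,
        by push_cast; omega⟩
    · exact ⟨a, b + 1, by rw [hab, sub_eq_zero.1 h]; push_cast; ring, by push_cast; omega⟩
    · exact ⟨a, b - 1, by rw [hab, eq_neg_of_add_eq_zero_left h]; push_cast; ring,
        by push_cast; omega⟩

/-- Second orthogonality on the diagonal. -/
theorem sum_normSq [Finite G] [Fintype (IrrCharacter G)] (g : G) :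
    ∑ χ : IrrCharacter G, Complex.normSq ((χ : G → ℂ) g) =
      Nat.card (Subgroup.centralizer ({g} : Set G)) := by
  classical
  apply Complex.ofReal_injective
  rw [Complex.ofReal_sum, Complex.ofReal_natCast]
  simp only [← Complex.mul_conj]
  rw [second_orthogonality g g, if_pos (IsConj.refl g)]

/-- A term of the sum over `χ x * χ x * conj (χ g) / χ 1`, for characters of one degree `d`. -/
theorem norm_sum_le_of_degree {s : Finset (IrrCharacter G)} {x g : G} {d B : ℝ} (hd : 0 < d)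
    (h1 : ∀ χ ∈ s, (χ : G → ℂ) 1 = (d : ℂ)) (hB : ∀ χ ∈ s, Complex.normSq ((χ : G → ℂ) g) ≤ B ^ 2)
    (hB0 : 0 ≤ B) :
    ‖∑ χ ∈ s, (χ : G → ℂ) x * (χ : G → ℂ) x * conj ((χ : G → ℂ) g) / (χ : G → ℂ) 1‖ ≤
      B * (∑ χ ∈ s, Complex.normSq ((χ : G → ℂ) x)) / d := by
  refine (norm_sum_le _ _).trans ?_
  rw [Finset.mul_sum, Finset.sum_div]
  refine Finset.sum_le_sum fun χ hχ => ?_
  rw [h1 χ hχ, norm_div, norm_mul, norm_mul, Complex.norm_conj, Complex.norm_real,
    Real.norm_of_nonneg hd.le, Complex.norm_mul_self_eq_normSq, mul_comm B]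
  refine div_le_div_of_nonneg_right (mul_le_mul_of_nonneg_left ?_ (Complex.normSq_nonneg _)) hd.le
  have := hB χ hχ
  rw [Complex.normSq_eq_norm_sq] at this
  exact abs_le_of_sq_le_sq' this hB0 |>.2

end CfsgLib.Chars
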