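import Cfsg.Agent.Lib.Chars.Degree
import Cfsg.Agent.Lib.Chars.Quotient
import Cfsg.Agent.Lib.CharsMore.BrauerInduction

/-!
# Monomial characters: nilpotent groups, Taketa's theorem, monomial spans
-/

set_option autoImplicit false
set_option linter.style.haveILetI false

namespace CfsgLib.Chars

open Module Cfsg
open scoped ComplexConjugate commutatorElement

universe u

/-- Induction commutes with inflation. -/
theorem indFun_comap {G Q : Type u} [Group G] [Fintype G] [Group Q] [Fintype Q] (φ : G →* Q)
    (hφ : Function.Surjective φ) (H : Subgroup Q) (θ : H → ℂ) :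
    indFun (H.comap φ) (fun x => θ ⟨φ x, x.2⟩) = fun g => indFun H θ (φ g) := by
  classical
  funext g
  rw [indFun_apply, indFun_apply]
  have h1 : ∀ x : G, extendByZero (H.comap φ) (fun x => θ ⟨φ x, x.2⟩) (x⁻¹ * g * x) =
      extendByZero H θ ((φ x)⁻¹ * φ g * φ x) := by
    intro x
    by_cases hx : x⁻¹ * g * x ∈ H.comap φ
    · have hx' : (φ x)⁻¹ * φ g * φ x ∈ H := by
        rw [Subgroup.mem_comap] at hx
        simpa using hx
      rw [extendByZero_of_mem _ _ hx, extendByZero_of_mem _ _ hx']
      congr 1
      ext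
      simp
    · have hx' : (φ x)⁻¹ * φ g * φ x ∉ H := fun h => hx (by
        rw [Subgroup.mem_comap]
        simpa using h)
      rw [extendByZero_of_not_mem _ _ hx, extendByZero_of_not_mem _ _ hx']
  have hfib : ∀ q : Q, (Finset.univ.filter (fun x : G => φ x = q)).card = Nat.card φ.ker := by
    intro q
    obtain ⟨x₀, rfl⟩ := hφ q
    rw [Nat.card_eq_fintype_card, ← Fintype.card_subtype]
    exact Fintype.card_congr ((Equiv.mulLeft x₀⁻¹).subtypeEquiv fun x => by
      simp [MonoidHom.mem_ker, eq_inv_mul_iff_mul_eq, eq_comm])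
  have hcard : Nat.card (H.comap φ) = Nat.card φ.ker * Nat.card H := by
    have e1 := (H.comap φ).index_mul_card
    have e2 := H.index_mul_card
    rw [H.index_comap_of_surjective hφ] at e1
    have e3 : Nat.card Q * Nat.card φ.ker = Nat.card G := by
      rw [Subgroup.card_eq_card_quotient_mul_card_subgroup φ.ker,
        Nat.card_congr (QuotientGroup.quotientKerEquivOfSurjective φ hφ).toEquiv]
    have hpos : 0 < H.index := Nat.pos_of_ne_zero Subgroup.index_ne_zero_of_finite
    refine Nat.eq_of_mul_eq_mul_left hpos ?_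
    rw [e1, ← e3, ← e2]
    ring
  rw [Finset.sum_congr rfl (fun x _ => h1 x), ← Finset.sum_fiberwise Finset.univ φ]
  have h2 : ∀ q : Q, ∑ x ∈ Finset.univ.filter (fun x : G => φ x = q),
      extendByZero H θ ((φ x)⁻¹ * φ g * φ x) =
      (Nat.card φ.ker : ℂ) * extendByZero H θ (q⁻¹ * φ g * q) := by
    intro q
    rw [Finset.sum_congr rfl (g := fun _ => extendByZero H θ (q⁻¹ * φ g * q))
      (fun x hx => by rw [(Finset.mem_filter.mp hx).2]), Finset.sum_const, hfib, nsmul_eq_mul]
  rw [Finset.sum_congr rfl (fun q _ => h2 q), ← Finset.mul_sum, hcard, Nat.cast_mul, mul_inv]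
  have : (Nat.card φ.ker : ℂ) ≠ 0 := Nat.cast_ne_zero.mpr Nat.card_pos.ne'
  field_simp

variable {G : Type u} [Group G] [Fintype G]

theorem indFun_top (θ : G → ℂ) (hθ : IsClassFunction G θ) :
    indFun (⊤ : Subgroup G) (fun x => θ x) = θ := by
  classical
  funext g
  rw [indFun_apply]
  have h1 : ∀ x : G, extendByZero (⊤ : Subgroup G) (fun x => θ x) (x⁻¹ * g * x) = θ g := by
    intro x
    rw [extendByZero_of_mem _ _ (Subgroup.mem_top _)]
    simpa using hθ g x⁻¹
  rw [Finset.sum_congr rfl (fun x _ => h1 x), Finset.sum_const, Finset.card_univ, nsmul_eq_mul,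
    Subgroup.card_top, ← Nat.card_eq_fintype_card, ← mul_assoc, inv_mul_cancel₀ (card_ne_zero G),
    one_mul]

/-- `χ` is induced from a linear character. -/
def IsMonomial (χ : G → ℂ) : Prop :=
  ∃ (H : Subgroup G) (lam : H →* ℂˣ), χ = indFun H (fun h => (lam h : ℂ))

theorem isMonomial_of_degree_one {χ : G → ℂ} (h : IsCharacter G χ) (h1 : χ 1 = 1) :
    IsMonomial χ := by
  obtain ⟨lam, hlam⟩ := exists_hom_of_degree_one h h1
  refine ⟨⊤, lam.comp (⊤ : Subgroup G).subtype, ?_⟩
  conv_lhs => rw [← indFun_top χ (isClassFunction_of_isCharacter h)]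
  congr 1
  funext x
  rw [hlam]
  rfl

theorem isMonomial_indFun_of_isMonomial {T : Subgroup G} [Fintype T] {ψ : T → ℂ}
    (h : IsMonomial ψ) : IsMonomial (indFun T ψ) := by
  obtain ⟨H, lam, rfl⟩ := h
  exact ⟨H.map T.subtype,
    lam.comp (H.equivMapOfInjective T.subtype T.subtype_injective).symm.toMonoidHom,
    CharsMore.indFun_map_subtype T H _⟩

/-- Irreducible characters of nilpotent groups are monomial. -/
theorem isMonomial_of_nilpotent {G : Type u} [Group G] [Fintype G] [Group.IsNilpotent G]
    {χ : G → ℂ} (hχ : IsIrrCharacter G χ) : IsMonomial χ := by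
  classical
  suffices H : ∀ (n : ℕ) (G : Type u) [Group G] [Fintype G] [Group.IsNilpotent G] (χ : G → ℂ),
      Nat.card G = n → IsIrrCharacter G χ → IsMonomial χ from H _ G χ rfl hχ
  intro n
  induction n using Nat.strong_induction_on with
  | h n ih =>
    intro G _ _ _ χ hn hχ
    obtain ⟨m, ρ, hρ, hρχ⟩ := id hχ
    by_cases hker : MonoidHom.ker ρ = ⊥
    swap
    · let N := MonoidHom.ker ρ
      haveI : Fintype (G ⧸ N) := Fintype.ofFinite _
      have hlt : Nat.card (G ⧸ N) < n := by
        have := N.card_eq_card_quotient_mul_card_subgroup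
        have h3 : 1 < Nat.card N := (Subgroup.one_lt_card_iff_ne_bot N).mpr hker
        have h4 : 0 < Nat.card (G ⧸ N) := Nat.card_pos
        nlinarith
      obtain ⟨ψ, hψ, hχψ⟩ := exists_deflate_irr N hχ (fun x hx => (ker_iff ρ hρχ x).mpr hx)
      obtain ⟨H, lam, hψH⟩ := ih _ hlt (G ⧸ N) ψ rfl hψ
      refine ⟨H.comap (QuotientGroup.mk' N), lam.comp
        (((QuotientGroup.mk' N).comp (H.comap (QuotientGroup.mk' N)).subtype).codRestrict H
          (fun x => x.2)), ?_⟩
      rw [hχψ, hψH]
      exact (indFun_comap (QuotientGroup.mk' N) (QuotientGroup.mk'_surjective N) H _).symm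
    have hinj : Function.Injective ρ := (MonoidHom.ker_eq_bot_iff ρ).mp hker
    by_cases hab : ∀ a b : G, a * b = b * a
    · exact isMonomial_of_degree_one (isCharacter_of_irr hχ) (irr_abelian_degree hab hχ)
    -- a normal abelian subgroup which is not central
    haveI : Nontrivial (G ⧸ Subgroup.center G) := QuotientGroup.nontrivial_iff.mpr
      fun htop => hab fun a b => (Subgroup.mem_center_iff.mp (htop ▸ Subgroup.mem_top b) a)
    haveI : Nontrivial (Subgroup.center (G ⧸ Subgroup.center G)) :=
      (Subgroup.nontrivial_iff_ne_bot _).mpr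
        (fun h0 => absurd h0 (by
          have := Group.IsNilpotent.center_ne_bot (G := G ⧸ Subgroup.center G)
          exact this))
    obtain ⟨q, hq⟩ := exists_ne (1 : Subgroup.center (G ⧸ Subgroup.center G))
    obtain ⟨a, ha⟩ := QuotientGroup.mk_surjective (q : G ⧸ Subgroup.center G)
    have haZ : a ∉ Subgroup.center G := fun h => hq (Subtype.ext (by
      rw [← ha, (QuotientGroup.eq_one_iff a).mpr h]
      rfl))
    have hcomm : ∀ g : G, g * a * g⁻¹ * a⁻¹ ∈ Subgroup.center G := by
      intro g
      rw [← QuotientGroup.eq_one_iff, QuotientGroup.mk_mul, QuotientGroup.mk_mul,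
        QuotientGroup.mk_mul, QuotientGroup.mk_inv, QuotientGroup.mk_inv, ha,
        Subgroup.mem_center_iff.mp q.2 (g : G ⧸ Subgroup.center G)]
      simp
    let A : Subgroup G := Subgroup.closure ((Subgroup.center G : Set G) ∪ {a})
    have hAab : ∀ x ∈ A, ∀ y ∈ A, x * y = y * x := by
      have key : ∀ x ∈ ((Subgroup.center G : Set G) ∪ {a}),
          ∀ y ∈ ((Subgroup.center G : Set G) ∪ {a}), x * y = y * x := by
        rintro x (hx | hx) y (hy | hy)
        · exact (Subgroup.mem_center_iff.mp hy x)
        · exact (Subgroup.mem_center_iff.mp hx y).symm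
        · exact (Subgroup.mem_center_iff.mp hy x)
        · rw [Set.mem_singleton_iff.mp hx, Set.mem_singleton_iff.mp hy]
      intro x hx y hy
      haveI := Subgroup.isMulCommutative_closure key
      exact congrArg Subtype.val (mul_comm' (⟨x, hx⟩ : A) ⟨y, hy⟩)
    haveI hAn : A.Normal := by
      refine ⟨fun x hx g => ?_⟩
      have : A ≤ A.comap (MulAut.conj g).toMonoidHom := by
        rw [Subgroup.closure_le]
        rintro y (hy | hy)
        · show g * y * g⁻¹ ∈ A
          rw [Subgroup.mem_center_iff.mp hy g, mul_inv_cancel_right]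
          exact Subgroup.subset_closure (Or.inl hy)
        · show g * y * g⁻¹ ∈ A
          rw [Set.mem_singleton_iff] at hy
          subst hy
          have h2 : g * y * g⁻¹ = (g * y * g⁻¹ * y⁻¹) * y := by simp
          rw [h2]
          exact A.mul_mem (Subgroup.subset_closure (Or.inl (hcomm g)))
            (Subgroup.subset_closure (Or.inr rfl))
      exact this hx
    haveI := Fintype.ofFinite A
    have hne : (fun x : A => χ x) ≠ 0 := fun h0 => irr_degree_ne_zero hχ (by
      have := congrFun h0 1; simpa using this)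
    obtain ⟨θ, hθ⟩ := exists_constituent (isCharacter_restrict A (isCharacter_of_irr hχ)) hne
    let T := CharsMore.inertia A (θ : A → ℂ)
    haveI := Fintype.ofFinite T
    have hAT : A ≤ T := CharsMore.le_inertia A (isClassFunction_irr θ)
    have hTlt : Nat.card T < n := by
      rw [← hn]
      refine lt_of_le_of_ne (Subgroup.card_le_card_group T) fun he => haZ ?_
      have hTtop := Subgroup.eq_top_of_card_eq T he
      have hinv : ∀ g x, (θ : A → ℂ) (CharsMore.conjBy A g x) = (θ : A → ℂ) x := fun g x =>
        (CharsMore.mem_inertia A).mp (show g ∈ T from hTtop ▸ Subgroup.mem_top g) x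
      have haA : a ∈ A := Subgroup.subset_closure (Or.inr rfl)
      have h1 := CharsMore.restrict_eq_mul_of_invariant A hχ θ.2 hinv hθ ⟨a, haA⟩
      have h2 := CharsMore.restrict_eq_mul_of_invariant A hχ θ.2 hinv hθ 1
      rw [irr_abelian_degree (fun x y => Subtype.ext (hAab x x.2 y y.2)) θ.2, mul_one] at h2
      obtain ⟨lam, hlam⟩ := exists_hom_of_degree_one (isCharacter_of_irr θ.2)
        (irr_abelian_degree (fun x y => Subtype.ext (hAab x x.2 y y.2)) θ.2)
      have hnorm : ‖(θ : A → ℂ) ⟨a, haA⟩‖ = 1 := by
        rw [hlam]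
        refine Complex.norm_eq_one_of_pow_eq_one (n := Nat.card A) ?_ Nat.card_pos.ne'
        rw [← Units.val_pow_eq_pow_val, ← map_pow, pow_card_eq_one', map_one, Units.val_one]
      subst hρχ
      have hsc : ‖ρ.character a‖ = (finrank ℂ (Fin m → ℂ) : ℝ) := by
        have h1' : ρ.character a = classInner (fun n : A => ρ.character n) (θ : A → ℂ) *
            (θ : A → ℂ) ⟨a, haA⟩ := h1
        rw [h1', norm_mul, hnorm, mul_one, ← h2, OneMemClass.coe_one, Representation.char_one,
          Complex.norm_natCast]
      obtain ⟨ω, hω⟩ := (norm_character_eq_iff ρ a).mp hsc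
      refine Subgroup.mem_center_iff.mpr fun g => hinj ?_
      rw [map_mul, map_mul, hω]
      ext; simp
    obtain ⟨ψ, hψ, hind, -, -⟩ := CharsMore.exists_correspondent A hAT θ.2 rfl hχ hθ
    haveI : Group.IsNilpotent T := inferInstance
    rw [← hind]
    exact isMonomial_indFun_of_isMonomial (ih _ hTlt T ψ rfl hψ)

/-- Taketa: groups with only monomial irreducible characters are solvable. -/
theorem isSolvable_of_monomial (hM : ∀ χ : G → ℂ, IsIrrCharacter G χ → IsMonomial χ) :
    Group.IsSolvable G := by
  classical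
  suffices key : ∀ (n : ℕ) (χ : G → ℂ), IsIrrCharacter G χ → χ 1 = (n : ℂ) →
      ∀ k, n ≤ k → ∀ x ∈ derivedSeries G k, χ x = χ 1 by
    refine ⟨Nat.card G, eq_bot_iff.mpr fun x hx => Subgroup.mem_bot.mpr ?_⟩
    refine eq_one_of_forall_irr fun χ => ?_
    obtain ⟨d, hd, hd', hdvd⟩ := irr_degree_dvd_card χ.2
    exact key d χ χ.2 hd' _ (Nat.le_of_dvd Nat.card_pos hdvd) x hx
  intro n
  induction n using Nat.strong_induction_on with
  | h n ih =>
    intro χ hχ hn k hk x hx
    obtain ⟨H, lam, hlam⟩ := hM χ hχ
    have hidx : H.index = n := by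
      have := congrFun hlam 1
      rw [indFun_one_apply, map_one, Units.val_one, mul_one, hn] at this
      exact_mod_cast this.symm
    obtain ⟨j, rfl⟩ : ∃ j, k = j + 1 := by
      obtain ⟨d, hd, hd'⟩ := irr_degree_nat hχ
      have : n = d := by exact_mod_cast hn.symm.trans hd'
      exact ⟨k - 1, by omega⟩
    -- the derived subgroup one step earlier lies in `H`
    have hH : derivedSeries G j ≤ H := by
      by_cases hn1 : n ≤ 1
      · have htop : H = ⊤ := by
          rw [← Subgroup.index_eq_one]
          have : H.index ≠ 0 := Subgroup.index_ne_zero_of_finite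
          omega
        rw [htop]
        exact le_top
      intro y hy
      haveI := Fintype.ofFinite H
      haveI := irrFintype G
      let π := indFun H (fun _ : H => (1 : ℂ))
      have hπ : IsCharacter G π := isCharacter_indFun H isCharacter_one
      have hπ1 : π 1 = (n : ℂ) := by simp [π, indFun_one_apply, hidx]
      have hpr : classInner π (principal G : G → ℂ) = 1 := by
        rw [inner_indFun H _ (isClassFunction_irr (principal G))]
        exact inner_one_one
      have hπy : π y = π 1 := by
        have hd := fun g => congrFun (classFun_eq_sum (isClassFunction_of_isCharacter hπ)) g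
        rw [hd y, hd 1, Finset.sum_apply, Finset.sum_apply]
        refine Finset.sum_congr rfl fun ψ _ => ?_
        obtain ⟨c, hc⟩ := inner_irr_right_nat hπ ψ
        simp only [Pi.smul_apply, smul_eq_mul, hc]
        rcases Nat.eq_zero_or_pos c with h0 | h0
        · simp [h0]
        congr 1
        by_cases hψ : ψ = principal G
        · subst hψ; rfl
        obtain ⟨e, he, he'⟩ := irr_degree_nat ψ.2
        -- other constituents have smaller degree
        have hlt : e < n := by
          choose c' hc' using fun φ : IrrCharacter G => inner_irr_right_nat hπ φ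
          choose d hd0 hd' using fun φ : IrrCharacter G => irr_degree_nat φ.2
          have htot : n = ∑ φ : IrrCharacter G, c' φ * d φ := by
            have h3 := hd 1
            rw [hπ1, Finset.sum_apply] at h3
            simp only [Pi.smul_apply, smul_eq_mul, hc', hd'] at h3
            exact_mod_cast h3
          have hcc : c' ψ = c := by exact_mod_cast (hc' ψ).symm.trans hc
          have hee : d ψ = e := by exact_mod_cast (hd' ψ).symm.trans he'
          have hp1 : c' (principal G) = 1 := by exact_mod_cast (hc' _).symm.trans hpr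
          have hpd : d (principal G) = 1 := by
            exact_mod_cast (hd' (principal G)).symm.trans (principal_apply (1 : G))
          have h4 : ∑ φ ∈ ({ψ, principal G} : Finset (IrrCharacter G)), c' φ * d φ ≤ n := by
            rw [htot]
            exact Finset.sum_le_sum_of_subset (Finset.subset_univ _)
          rw [Finset.sum_pair hψ, hcc, hee, hp1, hpd] at h4
          have : e ≤ c * e := Nat.le_mul_of_pos_left e h0
          omega
        exact ih e hlt ψ ψ.2 he' j (by omega) y hy
      by_contra hyH
      have hlt : ∑ z : G, (extendByZero H (fun _ => (1 : ℂ)) (z⁻¹ * y * z)).re <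
          ∑ _z : G, (1 : ℝ) := by
        refine Finset.sum_lt_sum (fun z _ => ?_) ⟨1, Finset.mem_univ 1, ?_⟩
        · by_cases hz : z⁻¹ * y * z ∈ H
          · rw [extendByZero_of_mem _ _ hz]; simp
          · rw [extendByZero_of_not_mem _ _ hz]; simp
        · simp [extendByZero_of_not_mem _ _ hyH]
      have h5 : ∑ z : G, extendByZero H (fun _ => (1 : ℂ)) (z⁻¹ * y * z) = (Nat.card G : ℂ) := by
        have hc : (Nat.card H : ℂ) ≠ 0 := Nat.cast_ne_zero.mpr Nat.card_pos.ne'
        have h6 : π y = (H.index : ℂ) := by rw [hπy, hπ1, hidx]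
        simp only [π, indFun_apply] at h6
        rw [inv_mul_eq_iff_eq_mul₀ hc, ← Nat.cast_mul, mul_comm, H.index_mul_card] at h6
        exact h6
      have h7 := congrArg Complex.re h5
      rw [Complex.re_sum, Complex.natCast_re] at h7
      rw [h7, Finset.sum_const, Finset.card_univ, nsmul_eq_mul, mul_one,
        ← Nat.card_eq_fintype_card] at hlt
      exact lt_irrefl _ hlt
    have hsub : ∀ y ∈ derivedSeries G (j + 1), ∃ hy : y ∈ H, lam ⟨y, hy⟩ = 1 := by
      intro y hy
      rw [derivedSeries_succ] at hy
      have h2 : ⁅derivedSeries G j, derivedSeries G j⁆ ≤ (MonoidHom.ker lam).map H.subtype := by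
        rw [Subgroup.commutator_le]
        intro a ha b hb
        refine ⟨⁅(⟨a, hH ha⟩ : H), ⟨b, hH hb⟩⁆, ?_, rfl⟩
        show lam ⁅(⟨a, hH ha⟩ : H), ⟨b, hH hb⟩⁆ = 1
        rw [map_commutatorElement, commutatorElement_eq_one_iff_mul_comm]
        exact mul_comm _ _
      obtain ⟨z, hz, rfl⟩ := h2 hy
      exact ⟨z.2, hz⟩
    have hval : ∀ z : G, extendByZero H (fun h => (lam h : ℂ)) (z⁻¹ * x * z) = 1 := by
      intro z
      have h3 : z⁻¹ * x * z ∈ derivedSeries G (j + 1) := by
        simpa using (derivedSeries_normal G (j + 1)).conj_mem x hx z⁻¹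
      obtain ⟨hm, hl⟩ := hsub _ h3
      rw [extendByZero_of_mem _ _ hm, hl, Units.val_one]
    rw [hn, hlam, indFun_apply, Finset.sum_congr rfl (fun z _ => hval z), Finset.sum_const,
      Finset.card_univ, nsmul_eq_mul, mul_one, ← Nat.card_eq_fintype_card, ← hidx,
      ← H.index_mul_card, Nat.cast_mul]
    field_simp [(Nat.cast_ne_zero.mpr Nat.card_pos.ne' : (Nat.card H : ℂ) ≠ 0)]

end CfsgLib.Chars
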