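import Cfsg.Agent.Lib.Chars.MonSpan

/-!
# Brauer's splitting field theorem

Every character is realised over any subfield of `ℂ` containing the values of the linear
characters of the subgroups.
-/

set_option autoImplicit false
set_option linter.style.haveILetI false

namespace CfsgLib.Chars

open Module Cfsg
open scoped ComplexConjugate

universe u

variable {G : Type u} [Group G]

/-- `f` is the character of a representation over the subfield `K`. -/
def IsKChar (K : IntermediateField ℚ ℂ) (f : G → ℂ) : Prop :=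
  ∃ (n : ℕ) (ρ : Representation K G (Fin n → K)), f = fun g => (ρ.character g : ℂ)

/-- `f` is the character of an irreducible representation over the subfield `K`. -/
def IsKIrr (K : IntermediateField ℚ ℂ) (f : G → ℂ) : Prop :=
  ∃ (n : ℕ) (ρ : Representation K G (Fin n → K)), ρ.IsIrreducible ∧
    f = fun g => (ρ.character g : ℂ)

variable {K : IntermediateField ℚ ℂ}

theorem isKChar_character {V : Type*} [AddCommGroup V] [Module K V] [FiniteDimensional K V]
    (ρ : Representation K G V) : IsKChar K (fun g => (ρ.character g : ℂ)) := by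
  let e := (Module.finBasis K V).equivFun
  let σ : Representation K G (Fin (finrank K V) → K) :=
    { toFun := fun g => e.conj (ρ g)
      map_one' := by simp [Module.End.one_eq_id]
      map_mul' := fun a b => by
        refine LinearMap.ext fun x => ?_
        simp [LinearEquiv.conj_apply_apply] }
  refine ⟨_, σ, funext fun g => ?_⟩
  congr 1
  show LinearMap.trace K V (ρ g) = LinearMap.trace K _ (e.conj (ρ g))
  rw [LinearMap.trace_conj']

theorem isKChar_add {f f' : G → ℂ} (h : IsKChar K f) (h' : IsKChar K f') : IsKChar K (f + f') := by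
  obtain ⟨n, ρ, rfl⟩ := h
  obtain ⟨m, σ, rfl⟩ := h'
  have h2 := isKChar_character (ρ.prod σ)
  convert h2 using 1
  funext g
  have h3 : (ρ.prod σ).character g = ρ.character g + σ.character g :=
    LinearMap.trace_prodMap' (ρ g) (σ g)
  rw [h3]
  push_cast
  rfl

theorem isKChar_zero : IsKChar K (0 : G → ℂ) := by
  refine ⟨0, 1, funext fun g => ?_⟩
  have : (1 : Representation K G (Fin 0 → K)) g = 0 := Subsingleton.elim _ _
  simp [Representation.character, this]

variable [Fintype G]

theorem inner_KChar {n m : ℕ} (ρ : Representation K G (Fin n → K))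
    (σ : Representation K G (Fin m → K)) (hσ : IsCharacter G (fun g => (σ.character g : ℂ))) :
    classInner (fun g => (ρ.character g : ℂ)) (fun g => (σ.character g : ℂ)) =
      (finrank K (σ.IntertwiningMap ρ) : ℂ) := by
  haveI : Invertible (Nat.card G : K) :=
    invertibleOfNonzero (Nat.cast_ne_zero.mpr Nat.card_pos.ne')
  have h := congrArg (fun t : K => (t : ℂ))
    (Representation.card_inv_mul_sum_char_mul_char_eq_finrank σ ρ)
  push_cast at h
  rw [← h, inner_def]
  refine congrArg _ (Finset.sum_congr rfl fun g _ => ?_)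
  rw [← char_inv hσ g]

omit [Fintype G] in
theorem isCharacter_of_isKChar {f : G → ℂ} (h : IsKChar K f) : IsCharacter G f := by
  obtain ⟨n, ρ, rfl⟩ := h
  let σ : Representation ℂ G (Fin n → ℂ) :=
    { toFun := fun g => Matrix.toLin' ((LinearMap.toMatrix' (ρ g)).map (algebraMap K ℂ))
      map_one' := by
        rw [map_one, Module.End.one_eq_id, LinearMap.toMatrix'_id,
          Matrix.map_one _ (map_zero _) (map_one _), Matrix.toLin'_one]
        rfl
      map_mul' := fun a b => by
        rw [map_mul, Module.End.mul_eq_comp, LinearMap.toMatrix'_comp, Matrix.map_mul,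
          Matrix.toLin'_mul]
        rfl }
  refine ⟨n, σ, funext fun g => ?_⟩
  show LinearMap.trace ℂ (Fin n → ℂ) (Matrix.toLin' ((LinearMap.toMatrix' (ρ g)).map (algebraMap K ℂ))) = _
  rw [Matrix.trace_toLin'_eq, Representation.character,
    LinearMap.trace_eq_matrix_trace K (Pi.basisFun K (Fin n)) (ρ g), LinearMap.toMatrix_eq_toMatrix']
  simp [Matrix.trace]

omit [Fintype G] in
/-- A representation with the same character and entries in `K`. -/
theorem exists_rep_of_isKChar {f : G → ℂ} (h : IsKChar K f) :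
    ∃ (n : ℕ) (σ : Representation ℂ G (Fin n → ℂ)), σ.character = f ∧
      ∀ g, ∀ i j : Fin n, LinearMap.toMatrix' (σ g) i j ∈ K := by
  obtain ⟨n, ρ, rfl⟩ := h
  let σ : Representation ℂ G (Fin n → ℂ) :=
    { toFun := fun g => Matrix.toLin' ((LinearMap.toMatrix' (ρ g)).map (algebraMap K ℂ))
      map_one' := by
        rw [map_one, Module.End.one_eq_id, LinearMap.toMatrix'_id,
          Matrix.map_one _ (map_zero _) (map_one _), Matrix.toLin'_one]
        rfl
      map_mul' := fun a b => by
        rw [map_mul, Module.End.mul_eq_comp, LinearMap.toMatrix'_comp, Matrix.map_mul,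
          Matrix.toLin'_mul]
        rfl }
  refine ⟨n, σ, funext fun g => ?_, fun g i j => ?_⟩
  · show LinearMap.trace ℂ (Fin n → ℂ)
      (Matrix.toLin' ((LinearMap.toMatrix' (ρ g)).map (algebraMap K ℂ))) = _
    rw [Matrix.trace_toLin'_eq, Representation.character,
      LinearMap.trace_eq_matrix_trace K (Pi.basisFun K (Fin n)) (ρ g),
      LinearMap.toMatrix_eq_toMatrix']
    simp [Matrix.trace]
  · show LinearMap.toMatrix' (Matrix.toLin' ((LinearMap.toMatrix' (ρ g)).map (algebraMap K ℂ))) i j ∈ K
    rw [LinearMap.toMatrix'_toLin']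
    exact (LinearMap.toMatrix' (ρ g) i j).2

theorem inner_KIrr_self {f : G → ℂ} (hf : IsKIrr K f) :
    ∃ d : ℕ, 0 < d ∧ classInner f f = d := by
  obtain ⟨n, ρ, hρ, rfl⟩ := hf
  refine ⟨_, ?_, inner_KChar ρ ρ (isCharacter_of_isKChar ⟨n, ρ, rfl⟩)⟩
  have : Nontrivial (Fin n → K) := by
    by_contra hn
    rw [not_nontrivial_iff_subsingleton] at hn
    obtain ⟨x, y, hxy⟩ := hρ.toNontrivial.exists_pair_ne
    exact hxy (Subrepresentation.toSubmodule_injective (Subsingleton.elim _ _))
  haveI : Nontrivial (ρ.IntertwiningMap ρ) := by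
    refine ⟨⟨Representation.IntertwiningMap.id ρ, 0, fun h => ?_⟩⟩
    obtain ⟨x, hx⟩ := exists_ne (0 : Fin n → K)
    exact hx (DFunLike.congr_fun h x)
  haveI : Module.Finite K (ρ.IntertwiningMap ρ) :=
    Module.Finite.of_injective (Representation.IntertwiningMap.toLinearMapl ρ ρ)
      (Representation.IntertwiningMap.toLinearMap_injective ρ ρ)
  exact Module.finrank_pos

theorem inner_KIrr_ne {f f' : G → ℂ} (hf : IsKIrr K f) (hf' : IsKIrr K f') (h : f ≠ f') :
    classInner f f' = 0 := by
  obtain ⟨n, ρ, hρ, rfl⟩ := hf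
  obtain ⟨m, σ, hσ, rfl⟩ := hf'
  haveI : IsEmpty (σ.Equiv ρ) := ⟨fun e => h (by rw [Representation.char_iso e])⟩
  rw [inner_KChar ρ σ (isCharacter_of_isKChar ⟨m, σ, rfl⟩), Module.finrank_zero_of_subsingleton,
    Nat.cast_zero]

omit [Fintype G] in
/-- Representations over `K` are sums of irreducible ones. -/
theorem mem_closure_of_isKChar [Finite G] {f : G → ℂ} (h : IsKChar K f) :
    f ∈ AddSubmonoid.closure {f : G → ℂ | IsKIrr K f} := by
  obtain ⟨n, ρ, rfl⟩ := h
  induction n using Nat.strong_induction_on with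
  | h n ih =>
    rcases Nat.eq_zero_or_pos n with h0 | h0
    · subst h0
      have : (fun g => (ρ.character g : ℂ)) = 0 := funext fun g => by
        have : ρ g = 0 := Subsingleton.elim _ _
        simp [Representation.character, this]
      rw [this]
      exact AddSubmonoid.zero_mem _
    by_cases hi : ρ.IsIrreducible
    · exact AddSubmonoid.subset_closure ⟨n, ρ, hi, rfl⟩
    haveI : NeZero (Nat.card G : K) := ⟨Nat.cast_ne_zero.mpr Nat.card_pos.ne'⟩
    haveI : Nonempty (Fin n) := ⟨⟨0, h0⟩⟩
    haveI : Nontrivial (Subrepresentation ρ) := ⟨⟨⊥, ⊤, fun hbt => by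
      have h2 : (⊥ : Submodule K (Fin n → K)) = ⊤ := congrArg Subrepresentation.toSubmodule hbt
      exact bot_ne_top h2⟩⟩
    have hnot : ¬ ∀ a : Subrepresentation ρ, a = ⊥ ∨ a = ⊤ := fun hall => hi ⟨hall⟩
    push Not at hnot
    obtain ⟨U, hb, ht⟩ := hnot
    obtain ⟨U', hU'⟩ := exists_isCompl U
    have hc : IsCompl U.toSubmodule U'.toSubmodule :=
      ⟨disjoint_iff.mpr (congrArg Subrepresentation.toSubmodule hU'.inf_eq_bot),
        codisjoint_iff.mpr (congrArg Subrepresentation.toSubmodule hU'.sup_eq_top)⟩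
    have hb' : U.toSubmodule ≠ ⊥ := fun h => hb (Subrepresentation.toSubmodule_injective h)
    have ht' : U'.toSubmodule ≠ ⊥ := fun h => by
      rw [h] at hc
      exact ht (Subrepresentation.toSubmodule_injective (eq_top_of_isCompl_bot hc))
    have hsum := Submodule.finrank_add_eq_of_isCompl hc
    rw [Module.finrank_fin_fun] at hsum
    have h1 : finrank K U.toSubmodule ≠ 0 := fun h => hb' (Submodule.finrank_eq_zero.mp h)
    have h2 : finrank K U'.toSubmodule ≠ 0 := fun h => ht' (Submodule.finrank_eq_zero.mp h)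
    have hchar : ∀ g, ρ.character g =
        U.toRepresentation.character g + U'.toRepresentation.character g := by
      intro g
      let e : (U.toRepresentation.prod U'.toRepresentation).Equiv ρ :=
        Representation.Equiv.mk (Submodule.prodEquivOfIsCompl _ _ hc) fun g => by
          refine LinearMap.ext fun x => ?_
          simp only [LinearMap.comp_apply, LinearEquiv.coe_coe,
            Submodule.coe_prodEquivOfIsCompl', map_add]
          rfl
      rw [← Representation.char_iso e]
      exact LinearMap.trace_prodMap' (U.toRepresentation g) (U'.toRepresentation g)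
    have key : ∀ (V : Submodule K (Fin n → K)) (σ : Representation K G V), finrank K V < n →
        (fun g => (σ.character g : ℂ)) ∈ AddSubmonoid.closure {f : G → ℂ | IsKIrr K f} := by
      intro V σ hlt
      obtain ⟨n', τ, hτ⟩ := isKChar_character σ
      have hn' : n' = finrank K V := by
        have h3 := congrFun hτ 1
        rw [Representation.char_one, Representation.char_one, Module.finrank_fin_fun] at h3
        exact_mod_cast h3.symm
      rw [hτ]
      exact ih _ (hn' ▸ hlt) τ
    have := AddSubmonoid.add_mem _ (key _ U.toRepresentation (by omega))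
      (key _ U'.toRepresentation (by omega))
    convert this using 1
    funext g
    rw [Pi.add_apply, hchar g]
    push_cast
    rfl

/-- An irreducible character which is a virtual `K`-character is a `K`-character. -/
theorem isKChar_of_mem_closure {χ : G → ℂ} (hχ : IsIrrCharacter G χ)
    (h : χ ∈ AddSubgroup.closure {f : G → ℂ | IsKIrr K f}) : IsKChar K χ := by
  classical
  have hexp : ∃ c : (G → ℂ) →₀ ℤ, (∀ f ∈ c.support, IsKIrr K f) ∧
      χ = ∑ f ∈ c.support, (c f : ℂ) • f := by
    clear hχ
    rw [← Submodule.span_int_eq_addSubgroupClosure, Submodule.mem_toAddSubgroup,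
      Finsupp.mem_span_iff_linearCombination] at h
    obtain ⟨l, hl⟩ := h
    refine ⟨l.mapDomain Subtype.val, fun f hf => ?_, ?_⟩
    · obtain ⟨a, -, rfl⟩ := Finset.mem_image.mp (Finsupp.mapDomain_support hf)
      exact a.2
    · rw [← hl, Finsupp.linearCombination_apply]
      have : ∀ (c : (G → ℂ) →₀ ℤ), ∑ f ∈ c.support, (c f : ℂ) • f = c.sum fun f z => z • f :=
        fun c => Finset.sum_congr rfl fun f _ => (Int.cast_smul_eq_zsmul ℂ (c f) f)
      rw [this, Finsupp.sum_mapDomain_index (h := fun (f : G → ℂ) (z : ℤ) => z • f)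
        (fun b => zero_smul ℤ b) (fun b m₁ m₂ => add_smul m₁ m₂ b)]
  obtain ⟨c, hirr, hχc⟩ := hexp
  choose d hd hd' using fun f : {f // f ∈ c.support} => inner_KIrr_self (hirr f.1 f.2)
  have h1 : classInner χ χ = ((∑ f : {f // f ∈ c.support}, c f.1 * c f.1 * (d f : ℤ) : ℤ) : ℂ) := by
    rw [hχc, inner_sum_left]
    push_cast
    rw [← Finset.sum_coe_sort c.support]
    refine Finset.sum_congr rfl fun f _ => ?_
    rw [inner_smul_left, inner_sum_right, Finset.sum_eq_single_of_mem f.1 f.2, inner_smul_right,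
      map_intCast, hd' f, mul_assoc]
    intro f' hf' hne
    rw [inner_smul_right, inner_KIrr_ne (hirr f.1 f.2) (hirr f' hf') (Ne.symm hne), mul_zero]
  rw [inner_irr_self ⟨χ, hχ⟩] at h1
  have h2 : (∑ f : {f // f ∈ c.support}, c f.1 * c f.1 * (d f : ℤ)) = 1 := by
    exact_mod_cast h1.symm
  obtain ⟨f₀, hf₀⟩ : c.support.Nonempty := by
    by_contra h0
    rw [Finset.not_nonempty_iff_eq_empty] at h0
    rw [h0, Finset.sum_empty] at hχc
    exact irr_degree_ne_zero hχ (congrFun hχc 1)
  have hterm : ∀ f : {f // f ∈ c.support}, (1 : ℤ) ≤ c f.1 * c f.1 * (d f : ℤ) := fun f => by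
    have e1 : (1 : ℤ) ≤ c f.1 * c f.1 := mul_self_pos.mpr (Finsupp.mem_support_iff.mp f.2)
    have e2 : (1 : ℤ) ≤ (d f : ℤ) := by exact_mod_cast hd f
    exact one_le_mul_of_one_le_of_one_le e1 e2
  have hcard : c.support.card ≤ 1 := by
    have := Finset.sum_le_sum (s := Finset.univ) fun f _ => hterm f
    rw [h2, Finset.sum_const, Finset.card_univ, Fintype.card_coe, nsmul_one] at this
    exact_mod_cast this
  have hs : c.support = {f₀} :=
    Finset.eq_singleton_iff_unique_mem.mpr
      ⟨hf₀, fun f hf => Finset.card_le_one.mp hcard f hf f₀ hf₀⟩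
  rw [hs, Finset.sum_singleton] at hχc
  obtain ⟨n, ρ, -, hρ⟩ := hirr f₀ hf₀
  have hf1 : (f₀ 1 : ℂ) = (n : ℂ) := by simp [hρ]
  have habs : c f₀ = 1 := by
    have hone : c f₀ * c f₀ ≤ 1 := by
      have := Finset.single_le_sum (fun f _ => (zero_le_one.trans (hterm f)))
        (Finset.mem_univ (⟨f₀, hf₀⟩ : {f // f ∈ c.support}))
      rw [h2] at this
      have e2 : (1 : ℤ) ≤ (d ⟨f₀, hf₀⟩ : ℤ) := by exact_mod_cast hd ⟨f₀, hf₀⟩
      nlinarith [mul_self_nonneg (c f₀)]
    have hne := Finsupp.mem_support_iff.mp hf₀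
    have e1 : c f₀ ≤ 1 := by nlinarith
    have e2 : -1 ≤ c f₀ := by nlinarith
    obtain ⟨m, hm, hm'⟩ := irr_degree_nat hχ
    have h5 := congrFun hχc 1
    rw [Pi.smul_apply, smul_eq_mul, hf1, hm'] at h5
    have h6 : (m : ℤ) = c f₀ * n := by exact_mod_cast h5
    rcases lt_trichotomy (c f₀) 0 with h7 | h7 | h7
    · nlinarith
    · exact absurd h7 hne
    · omega
  rw [habs, Int.cast_one, one_smul] at hχc
  exact ⟨n, ρ, hχc.trans hρ⟩

/-- Induced linear characters are realised over a field containing their values. -/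
theorem isKChar_indFun_linear (H : Subgroup G) (lam : H →* ℂˣ) (hlam : ∀ h, (lam h : ℂ) ∈ K) :
    IsKChar K (indFun H (fun h => (lam h : ℂ))) := by
  classical
  haveI := Fintype.ofFinite (G ⧸ H)
  let e : G → K := fun g => if h : g ∈ H then ⟨(lam ⟨g, h⟩ : ℂ), hlam _⟩ else 0
  have he : ∀ g, (e g : ℂ) = extendByZero H (fun h => (lam h : ℂ)) g := fun g => by
    by_cases hg : g ∈ H
    · rw [extendByZero_of_mem _ _ hg]; simp [e, hg]
    · rw [extendByZero_of_not_mem _ _ hg]; simp [e, hg]
  have hemul : ∀ a b : G, a ∈ H → e (a * b) = e a * e b := by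
    intro a b ha
    by_cases hb : b ∈ H
    · simp only [e, dif_pos ha, dif_pos hb, dif_pos (H.mul_mem ha hb)]
      apply Subtype.ext
      show ((lam (⟨a, ha⟩ * ⟨b, hb⟩) : ℂˣ) : ℂ) = _
      rw [map_mul, Units.val_mul]
      rfl
    · simp only [e, dif_neg hb, dif_neg (fun h => hb ((H.mul_mem_cancel_left ha).mp h)), mul_zero]
  let M : G → Matrix (G ⧸ H) (G ⧸ H) K := fun g => Matrix.of fun q r => e (q.out⁻¹ * g * r.out)
  have hM : ∀ a b, M (a * b) = M a * M b := by
    intro a b
    ext q r : 1
    simp only [M, Matrix.of_apply, Matrix.mul_apply]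
    rw [Finset.sum_eq_single ((a⁻¹ * q.out : G) : G ⧸ H)]
    · have hm : q.out⁻¹ * a * ((a⁻¹ * q.out : G) : G ⧸ H).out ∈ H := by
        have h1 : (((a⁻¹ * q.out : G) : G ⧸ H).out : G ⧸ H) = ((a⁻¹ * q.out : G) : G ⧸ H) :=
          QuotientGroup.out_eq' _
        rw [eq_comm, QuotientGroup.eq] at h1
        simpa [mul_assoc] using h1
      rw [← hemul _ _ hm]
      congr 1
      simp [mul_assoc]
    · intro s _ hs
      have hm : q.out⁻¹ * a * s.out ∉ H := fun h => hs (by
        rw [← QuotientGroup.out_eq' s, eq_comm, QuotientGroup.eq]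
        simpa [mul_assoc] using h)
      simp [e, hm]
    · simp
  have hone : M 1 = 1 := by
    ext q r : 1
    simp only [M, Matrix.of_apply, mul_one, Matrix.one_apply]
    by_cases hqr : q = r
    · subst hqr
      rw [if_pos rfl, inv_mul_cancel]
      simp only [e, dif_pos H.one_mem]
      apply Subtype.ext
      simp [show (⟨1, H.one_mem⟩ : H) = 1 from rfl]
    · have hm : q.out⁻¹ * r.out ∉ H := fun h => hqr (by
        rw [← QuotientGroup.out_eq' q, ← QuotientGroup.out_eq' r, QuotientGroup.eq]
        exact h)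
      rw [if_neg hqr]
      simp [e, hm]
  let ρ : Representation K G ((G ⧸ H) → K) :=
    { toFun := fun g => Matrix.toLin' (M g)
      map_one' := by rw [hone, Matrix.toLin'_one]; rfl
      map_mul' := fun a b => by rw [hM, Matrix.toLin'_mul]; rfl }
  have h2 := isKChar_character ρ
  convert h2 using 1
  funext g
  have htr : ρ.character g = ∑ q : G ⧸ H, e (q.out⁻¹ * g * q.out) := by
    show LinearMap.trace K _ (Matrix.toLin' (M g)) = _
    rw [Matrix.trace_toLin'_eq]
    rfl
  rw [htr, indFun_apply, ← Finset.sum_fiberwise Finset.univ (fun x : G => (x : G ⧸ H))]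
  push_cast
  rw [Finset.mul_sum]
  refine Finset.sum_congr rfl fun q _ => ?_
  rw [he]
  have hcl : ∀ x : G, (x : G ⧸ H) = q →
      extendByZero H (fun h => (lam h : ℂ)) (x⁻¹ * g * x) =
      extendByZero H (fun h => (lam h : ℂ)) (q.out⁻¹ * g * q.out) := by
    intro x hx
    have hm : q.out⁻¹ * x ∈ H := by rw [← QuotientGroup.eq, QuotientGroup.out_eq', hx]
    have h1 : x⁻¹ * g * x = (q.out⁻¹ * x)⁻¹ * (q.out⁻¹ * g * q.out) * (q.out⁻¹ * x) := by
      simp [mul_assoc]
    rw [h1]
    by_cases hy : q.out⁻¹ * g * q.out ∈ H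
    · rw [extendByZero_of_mem _ _ (H.mul_mem (H.mul_mem (H.inv_mem hm) hy) hm),
        extendByZero_of_mem _ _ hy,
        show (⟨_, H.mul_mem (H.mul_mem (H.inv_mem hm) hy) hm⟩ : H) =
          (⟨_, hm⟩ : H)⁻¹ * ⟨_, hy⟩ * ⟨_, hm⟩ from rfl, map_mul, map_mul, map_inv,
        mul_comm (lam ⟨_, hm⟩)⁻¹, inv_mul_cancel_right]
    · rw [extendByZero_of_not_mem _ _ hy, extendByZero_of_not_mem]
      intro h
      rw [H.mul_mem_cancel_right hm, H.mul_mem_cancel_left (H.inv_mem hm)] at h
      exact hy h
  have hcnt : (Finset.univ.filter fun x : G => (x : G ⧸ H) = q).card = Nat.card H := by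
    rw [Nat.card_eq_fintype_card, ← Fintype.card_subtype]
    exact Fintype.card_congr ((Equiv.mulLeft q.out⁻¹).subtypeEquiv fun x => by
      simp [← QuotientGroup.eq, eq_comm])
  rw [Finset.sum_congr rfl (fun x hx => hcl x (Finset.mem_filter.mp hx).2), Finset.sum_const, hcnt,
    nsmul_eq_mul, ← mul_assoc, inv_mul_cancel₀ (Nat.cast_ne_zero.mpr Nat.card_pos.ne'), one_mul]

/-- Brauer's splitting field theorem. -/
theorem isKChar_of_isCharacter (hK : ∀ (H : Subgroup G) (lam : H →* ℂˣ) (h : H), (lam h : ℂ) ∈ K)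
    {χ : G → ℂ} (hχ : IsCharacter G χ) : IsKChar K χ := by
  classical
  have hgen : ∀ θ, IsIrrCharacter G θ → IsKChar K θ := by
    intro θ hθ
    refine isKChar_of_mem_closure hθ ?_
    obtain ⟨l, -, hl⟩ := brauer_induction (isCharacter_of_irr hθ)
    rw [hl]
    refine AddSubgroup.list_sum_mem _ fun f hf => ?_
    obtain ⟨t, -, rfl⟩ := List.mem_map.mp hf
    rw [Int.cast_smul_eq_zsmul]
    refine AddSubgroup.zsmul_mem _ ?_ _
    have hmem := mem_closure_of_isKChar (isKChar_indFun_linear t.1 t.2.1 (hK t.1 t.2.1))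
    exact (AddSubmonoid.closure_le (S := (AddSubgroup.closure _).toAddSubmonoid)).mpr
      AddSubgroup.subset_closure hmem
  obtain ⟨n, ρ, rfl⟩ := hχ
  obtain ⟨m, ψ, hψ⟩ := exists_sum_irr ρ
  rw [hψ]
  exact Finset.sum_induction _ (IsKChar K) (fun _ _ => isKChar_add) isKChar_zero
    fun i _ => hgen _ (ψ i).2

end CfsgLib.Chars
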